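import Groth.Agent.Lib.CohDelta.QCohR
import Groth.Agent.Lib.Cyc.PP.Push
import Groth.Agent.S0030

/-!
# Higher direct images of coherent modules along proper morphisms
-/

set_option autoImplicit false
set_option linter.style.haveILetI false
set_option maxHeartbeats 1000000

universe u

open CategoryTheory CategoryTheory.Limits AlgebraicGeometry TopologicalSpace Opposite
open CategoryTheory.Abelian
open Groth.Agent.Lib.ZarCoh.Basic Groth.Agent.Lib.ZarCoh.Compare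
open Groth.Agent.Lib.CohDelta

namespace Groth.Agent.Lib.H3.RpushCoh

open Groth.Agent.Lib

variable {X S : Scheme.{u}} (f : X ⟶ S)

variable [IsProper f] [IsLocallyNoetherian X] [IsLocallyNoetherian S]

/-- Sections of `Rᵖ⁺¹ f_*` over an affine open are finite. -/
theorem finite_R {M : X.Modules} (I : InjectiveResolution M) (hM : Coh.IsCoh M) (p : ℕ)
    {V : S.Opens} (hV : IsAffineOpen V) :
    Module.Finite Γ(S, V.ι ''ᵁ ⊤) Γ(Syzygy.R I f p, V.ι ''ᵁ ⊤) := by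
  haveI : IsAffine (V : Scheme.{u}) := hV
  haveI : IsNoetherianRing Γ(S, V.ι ''ᵁ ⊤) :=
    IsLocallyNoetherian.component_noetherian ⟨V.ι ''ᵁ ⊤, V.ι_image_top.symm ▸ hV⟩
  have hZ : Coh.IsCoh (Syzygy.Z I 0) := CohBasics.Closure.isCoh_of_iso (Syzygy.augIso I) hM
  haveI := hZ.1
  let W : Scheme.{u} := ↑(f ⁻¹ᵁ V)
  let q : W ⟶ Spec (CommRingCat.of Γ(S, V.ι ''ᵁ ⊤)) :=
    (f ∣_ V) ≫ (V : Scheme.{u}).isoSpec.hom
  haveI : IsProper (f ∣_ V) := IsZariskiLocalAtTarget.restrict ‹_› V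
  haveI : IsProper q := MorphismProperty.comp_mem @IsProper _ _ inferInstance inferInstance
  letI : W.Over (Spec (CommRingCat.of Γ(S, V.ι ''ᵁ ⊤))) := ⟨q⟩
  haveI : IsProper (W ↘ Spec (CommRingCat.of Γ(S, V.ι ''ᵁ ⊤))) := ‹IsProper q›
  let N : W.Modules := (Syzygy.Z I 0).restrict (f ⁻¹ᵁ V).ι
  have hN : Coh.IsCoh N := RefHull.LocFree.isCoh_restrict hZ _
  have hfin : Module.Finite Γ(S, V.ι ''ᵁ ⊤) (Coh.HH W N (p + 1)) :=
    ProperFin.Assembly.qfin_of_isCoh Snapper.Finite.facts N hN (p + 1)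
  have hglob : ∀ a : Γ(S, V.ι ''ᵁ ⊤),
      Coh.toGlobal (W ↘ Spec (CommRingCat.of Γ(S, V.ι ''ᵁ ⊤))) a = Glue.pb (f ∣_ V) a := by
    intro a
    have h1 : ((f ∣_ V) ≫ (V : Scheme.{u}).isoSpec.hom).appTop =
        (Scheme.ΓSpecIso Γ((V : Scheme.{u}), ⊤)).hom ≫ (f ∣_ V).appTop := by
      rw [Scheme.Hom.comp_appTop, Scheme.isoSpec_hom, Scheme.toSpecΓ_appTop]
    have h2 : (Scheme.ΓSpecIso Γ((V : Scheme.{u}), ⊤)).inv ≫
        ((f ∣_ V) ≫ (V : Scheme.{u}).isoSpec.hom).appTop = (f ∣_ V).appTop := by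
      rw [h1, Iso.inv_hom_id_assoc]
    exact ConcreteCategory.congr_hom h2 a
  let F := QCohR.cmpV f I p V
  have hbij : Function.Bijective (F.e ⊤) := Glue.bijective_top (f ∣_ V) N F
  let E : Coh.HH W N (p + 1) →+ Γ(Syzygy.R I f p, V.ι ''ᵁ ⊤) :=
    (F.e ⊤).comp (hTop (Coh.toAb N) (p + 1)).toAddMonoidHom
  let L : Coh.HH W N (p + 1) →ₗ[Γ(S, V.ι ''ᵁ ⊤)] Γ(Syzygy.R I f p, V.ι ''ᵁ ⊤) :=
    { toFun := E
      map_add' := E.map_add
      map_smul' := fun a x => by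
        have hx : hTop (Coh.toAb N) (p + 1) (a • x) =
            Loc.mulA N (Glue.pb (f ∣_ V) a) ⊤ (p + 1) (hTop (Coh.toAb N) (p + 1) x) := by
          rw [Loc.mulA_apply, ← hglob a]
          exact hTop_comp x (Ext.mk₀ (Coh.smulAb N _)) (add_zero (p + 1))
        refine (congrArg (F.e ⊤) hx).trans ((QCohR.cmpV_smul f I p V a ⊤ _).trans ?_)
        refine congrArg (fun k : Γ(S, V.ι ''ᵁ ⊤) => k • (E x : Γ(Syzygy.R I f p, V.ι ''ᵁ ⊤))) ?_
        rw [show (homOfLE (V.ι.image_mono le_top : V.ι ''ᵁ ⊤ ≤ V.ι ''ᵁ ⊤)) = 𝟙 _ from rfl, op_id,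
          S.presheaf.map_id]
        rfl }
  exact Module.Finite.of_surjective L (hbij.2.comp (hTop (Coh.toAb N) (p + 1)).surjective)

theorem isCoh_R {M : X.Modules} (I : InjectiveResolution M) (hM : Coh.IsCoh M) (p : ℕ) :
    Coh.IsCoh (Syzygy.R I f p) := by
  haveI : (Syzygy.R I f p).IsQuasicoherent := QCohR.isQCoh_R f I p hM.1
  refine ⟨inferInstance, CohBasics.Affine.isFiniteType_of_finite_sections fun y => ?_⟩
  obtain ⟨V, hV, hy, -⟩ := exists_isAffineOpen_mem_and_subset (U := ⊤) (x := y) trivial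
  exact ⟨V.ι ''ᵁ ⊤, V.ι_image_top.symm ▸ hV, V.ι_image_top.symm ▸ hy, finite_R f I hM p hV⟩

end Groth.Agent.Lib.H3.RpushCoh
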