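import Groth.Agent.Lib.H3.RigidDescent
import Groth.Agent.H4.PicZero.Family

/-!
# Classes are determined by their points up to classes from the parameters
-/

set_option autoImplicit false
set_option linter.style.haveILetI false

universe u

open CategoryTheory CategoryTheory.Limits MonoidalCategory CartesianMonoidalCategory MonObj AlgebraicGeometry

namespace Groth.Agent.Lib.H3.PhiInj

open Groth.Agent.H3 Groth.Agent.H4.PicZero

noncomputable section

local instance (Y : Scheme.{u}) : PicGrp.Law Y := Groth.Agent.Lib.TensorMod.Invertible.law Y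

variable {S : Scheme.{u}} {A At T T' : Over S} [GrpObj A]

/-- The restriction along the unit section. -/
def rig (c : PicLoc.PicSet (A ⊗ T).left) : PicLoc.PicSet T.left :=
  PicCalc.ph (lift (1 : T ⟶ A) (𝟙 T)) c

theorem rig_mul (a b : PicLoc.PicSet (A ⊗ T).left) : rig (a * b) = rig a * rig b := map_mul _ a b

theorem rig_inv (a : PicLoc.PicSet (A ⊗ T).left) : rig a⁻¹ = (rig a)⁻¹ := map_inv _ a

theorem rig_snd (n : PicLoc.PicSet T.left) : rig (PicCalc.ph (snd A T) n) = n := by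
  rw [rig, ← PicCalc.ph_comp, lift_snd, PicCalc.ph_id]

theorem lift_one_whiskerLeft (g : T' ⟶ T) :
    lift (1 : T' ⟶ A) (𝟙 T') ≫ (A ◁ g) = g ≫ lift (1 : T ⟶ A) (𝟙 T) := by
  apply CartesianMonoidalCategory.hom_ext <;> simp

theorem rig_ph (g : T' ⟶ T) (c : PicLoc.PicSet (A ⊗ T).left) :
    rig (PicCalc.ph (A ◁ g) c) = PicCalc.ph g (rig c) := by
  rw [rig, rig, ← PicCalc.ph_comp, lift_one_whiskerLeft, PicCalc.ph_comp]

omit [GrpObj A] in
theorem symm_eq (A B : Over S) : (pullbackSymmetry A.hom B.hom).hom = ((β_ A B).hom).left := by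
  refine pullback.hom_ext (f := B.hom) (g := A.hom) ?_ ?_
  · refine (pullbackSymmetry_hom_comp_fst _ _).trans ?_
    exact (congrArg Over.Hom.left (braiding_hom_fst A B)).symm
  · refine (pullbackSymmetry_hom_comp_snd _ _).trans ?_
    exact (congrArg Over.Hom.left (braiding_hom_snd A B)).symm

variable [GrpObj At] {φ : ∀ T : Over S, PicF.Cl (PicF.XT A.hom T) → (T ⟶ At)}
  (hφ : AbDual.IsDualAV Scheme.fppfPrecoverage A At φ)

include hφ

omit [GrpObj A] in
/-- Classes differing by one from the parameters have the same point. -/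
theorem phi_eq_of_eq_mul {a b : PicLoc.PicSet (A ⊗ T).left} (ha : AbDual.IsPicZeroCl A.hom T a.1)
    (hb : AbDual.IsPicZeroCl A.hom T b.1) (n : PicLoc.PicSet T.left)
    (h : a = b * PicCalc.ph (snd A T) n) : φ T a.1 = φ T b.1 := by
  obtain ⟨L, hL, rfl⟩ := PicGrp.exists_eq_cls n
  apply Over.OverMorphism.ext
  refine hom_ext_of_fppf fun x => ?_
  obtain ⟨O, hO, ⟨e⟩⟩ := hL x
  let O' : Over S := Over.mk (O.ι ≫ T.hom)
  let j : O' ⟶ T := Over.homMk O.ι rfl
  refine ⟨O'.left, O.ι, inferInstanceAs (Flat O.ι), ⟨⟨x, hO⟩, rfl⟩, ?_⟩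
  have htriv : PicCalc.ph j (PicGrp.cls L hL) = 1 := by
    apply Subtype.ext
    rw [PicCalc.ph_val, PicGrp.one_val]
    exact Quot.sound ⟨(Scheme.Modules.restrictFunctorIsoPullback O.ι).symm.app L ≪≫ e⟩
  have h1 : PicCalc.ph (A ◁ j) a = PicCalc.ph (A ◁ j) b := by
    rw [h, map_mul, ← PicCalc.ph_comp _ (snd A T), whiskerLeft_snd, PicCalc.ph_comp, htriv, map_one,
      _root_.mul_one]
  have h2 := phi_natural hφ j ha
  rw [h1, phi_natural hφ j hb] at h2
  exact (congrArg Over.Hom.left h2).symm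

variable [IsProper A.hom] [Flat A.hom] [GeometricallyIntegral A.hom] [IsLocallyNoetherian T.left]

/-- A rigidified class is determined by its point. -/
theorem eq_twist_of_phi_eq {a b : PicLoc.PicSet (A ⊗ T).left} (ha : AbDual.IsPicZeroCl A.hom T a.1)
    (hb : AbDual.IsPicZeroCl A.hom T b.1) (hra : rig a = 1) (h : φ T a.1 = φ T b.1) :
    a = b * (PicCalc.ph (snd A T) (rig b))⁻¹ := by
  obtain ⟨R, hR, hloc⟩ := hφ.relPic.locallyInjective T _ _ ha hb h
  refine mul_inv_eq_one.1 (RigidDescent.eq_one_of_locally _ ?_ hR fun U v hv => ?_)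
  · show rig _ = 1
    rw [rig_mul, rig_inv, rig_mul, rig_inv, rig_snd, hra, mul_inv_cancel, inv_one, _root_.mul_one]
  · let g : A ⊗ AbDual.ovr T v ⟶ A ⊗ T := A ◁ AbDual.ovrHom T v
    have h1 : PicCalc.ph g a = PicCalc.ph g b := by
      apply Subtype.ext
      rw [PicCalc.ph_val, PicCalc.ph_val, ← XTmap_eq]
      exact hloc v hv
    have h2 : PicCalc.ph g (PicCalc.ph (snd A T) (rig b)) = 1 := by
      rw [← PicCalc.ph_comp, whiskerLeft_snd, PicCalc.ph_comp, ← rig_ph, ← h1, rig_ph, hra, map_one,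
        map_one]
    rw [XTmap_eq, ← PicCalc.ph_val]
    refine congrArg Subtype.val ?_
    rw [map_mul, map_inv, map_mul, map_inv, h2, inv_one, _root_.mul_one, ← h1, mul_inv_cancel]

/-- Two rigidified classes with the same point are equal. -/
theorem eq_of_phi_eq {a b : PicLoc.PicSet (A ⊗ T).left} (ha : AbDual.IsPicZeroCl A.hom T a.1)
    (hb : AbDual.IsPicZeroCl A.hom T b.1) (hra : rig a = 1) (hrb : rig b = 1)
    (h : φ T a.1 = φ T b.1) : a = b := by
  rw [eq_twist_of_phi_eq hφ ha hb hra h, hrb, map_one, inv_one, _root_.mul_one]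

omit [IsProper A.hom] [Flat A.hom] [GeometricallyIntegral A.hom] [IsLocallyNoetherian T.left] in
/-- The Poincaré class as an element of the Picard group. -/
theorem exists_poincare {ξ : PicF.Cl (PicF.XT A.hom At)} (hξ : AbDual.IsPoincareCl A At φ ξ) :
    ∃ x : PicLoc.PicSet (A ⊗ At).left, x.1 = ξ ∧ AbDual.IsPicZeroCl A.hom At x.1 ∧ rig x = 1 ∧
      ∀ {V : Over S} (g : V ⟶ At), φ V (PicCalc.ph (A ◁ g) x).1 = g := by
  obtain ⟨⟨L, hLc, hL, hL0⟩, hid, hrig⟩ := hξ
  refine ⟨PicGrp.cls L hL, hLc, ⟨L, rfl, hL, hL0⟩, ?_, fun g => ?_⟩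
  · apply Subtype.ext
    rw [rig, PicCalc.ph_val, PicGrp.one_val]
    have e : PicF.secT A.hom η[A].left (Over.w η[A]) At = (lift (1 : At ⟶ A) (𝟙 At)).left := by
      apply pullback.hom_ext
      · refine (pullback.lift_fst _ _ _).trans ?_
        show _ = ((lift (1 : At ⟶ A) (𝟙 At)) ≫ fst A At).left
        rw [lift_fst, Hom.one_def]
        rfl
      · refine (pullback.lift_snd _ _ _).trans ?_
        show _ = ((lift (1 : At ⟶ A) (𝟙 At)) ≫ snd A At).left
        rw [lift_snd]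
        rfl
    rw [← e, PicGrp.cls_val, hLc]
    exact hrig
  · rw [phi_natural hφ g ⟨L, rfl, hL, hL0⟩, PicGrp.cls_val, hLc, hid, Category.comp_id]

end

end Groth.Agent.Lib.H3.PhiInj
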