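import Groth.Agent.H3.KLBasics
import Groth.Agent.Lib.TensorMod.Invertible
import Groth.Prelude.Def_AbDual
import Mathlib.AlgebraicGeometry.Geometrically.Integral

/-!
# The restrictions of the Mumford class are algebraically equivalent to zero
-/

set_option autoImplicit false

universe u

open CategoryTheory CategoryTheory.Limits MonoidalCategory CartesianMonoidalCategory MonObj AlgebraicGeometry

namespace Groth.Agent.Lib.H3.PicZero

open Groth.Agent.H3

noncomputable section

local instance (Y : Scheme.{u}) : PicGrp.Law Y := Groth.Agent.Lib.TensorMod.Invertible.law Y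

section General

variable {S : Scheme.{u}} {X : Over S} [GrpObj X]

/-- The Mumford class of `l`. -/
def nA (l : PicLoc.PicSet X.left) : PicLoc.PicSet (X ⊗ X).left :=
  PicCalc.ph μ[X] l * (PicCalc.ph (fst X X) l * PicCalc.ph (snd X X) l)⁻¹

/-- The restriction of the Mumford class along `x`. -/
def mu (l : PicLoc.PicSet X.left) {T : Over S} (x : T ⟶ X) : PicLoc.PicSet (X ⊗ T).left :=
  PicCalc.ph (X ◁ x) (nA l)

theorem mu_eq (l : PicLoc.PicSet X.left) {T : Over S} (x : T ⟶ X) :
    mu l x = PicCalc.ph (ThetaGrp.transl X x ≫ fst X T) l *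
      (PicCalc.ph (fst X T) l * PicCalc.ph (snd X T) (PicCalc.ph x l))⁻¹ := by
  rw [mu, nA, map_mul, map_inv, map_mul, ← PicCalc.ph_comp, ← PicCalc.ph_comp, ← PicCalc.ph_comp,
    PicCalc.comp_transl_fst, whiskerLeft_fst, whiskerLeft_snd, PicCalc.ph_comp (snd X T) x]

theorem mu_comp (l : PicLoc.PicSet X.left) {T T' : Over S} (g : T' ⟶ T) (x : T ⟶ X) :
    mu l (g ≫ x) = PicCalc.ph (X ◁ g) (mu l x) := by
  rw [mu, mu, ← PicCalc.ph_comp, ← MonoidalCategory.whiskerLeft_comp]

theorem mu_eq_one_iff [Subsingleton S] [Nonempty S] (l : PicLoc.PicSet X.left) {T : Over S} (x : T ⟶ X) :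
    mu l x = 1 ↔ ∃ n, PicCalc.TransTriv X l x n := by
  rw [mu_eq, mul_inv_eq_one]
  exact ⟨fun h => ⟨_, h⟩, fun ⟨n, hn⟩ => hn.eq_pullback ▸ hn⟩

theorem ph_right_nA [Subsingleton S] [Nonempty S] (l : PicLoc.PicSet X.left) :
    PicCalc.ph (lift (𝟙 X) (toUnit X ≫ η[X])) (nA l) = 1 := by
  haveI : Subsingleton (𝟙_ (Over S)).left := ‹Subsingleton S›
  haveI : Nonempty (𝟙_ (Over S)).left := ‹Nonempty S›
  have e : lift (𝟙 X) (toUnit X ≫ η[X]) ≫ μ[X] = 𝟙 X := by simp [← Hom.mul_def, ← Hom.one_def]
  rw [nA, map_mul, map_inv, map_mul, ← PicCalc.ph_comp, ← PicCalc.ph_comp, ← PicCalc.ph_comp, e,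
    lift_fst, lift_snd, PicCalc.ph_id, PicCalc.ph_comp (toUnit X),
    PicCalc.eq_one_of_subsingleton (PicCalc.ph η[X] l), map_one, _root_.mul_one, mul_inv_cancel]

theorem xtMap_eq (X : Over S) {T T' : Over S} (g : T' ⟶ T) :
    PicF.XTmap X.hom g = (X ◁ g).left := by
  apply pullback.hom_ext
  · refine (pullback.lift_fst _ _ _).trans ?_
    show _ = (X ◁ g).left ≫ (fst X T).left
    rw [← Over.comp_left, whiskerLeft_fst]
    exact Category.comp_id _
  · refine (pullback.lift_snd _ _ _).trans ?_
    show _ = (X ◁ g).left ≫ (snd X T).left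
    rw [← Over.comp_left, whiskerLeft_snd]
    rfl

end General

variable {k : Type u} [Field k] {X : Over (Spec (CommRingCat.of k))} [GrpObj X] [IsProper X.hom]
  [GeometricallyIntegral X.hom]

/-- The classes `mu l x` are algebraically equivalent to zero on geometric fibres. -/
theorem isPicZero_mu (l : PicLoc.PicSet X.left) (T : Over (Spec (CommRingCat.of k))) (x : T ⟶ X) :
    AbDual.IsPicZeroCl X.hom T (mu l x).1 := by
  obtain ⟨D, hD, hDc⟩ := PicGrp.exists_eq_cls (nA l)
  refine ⟨(Scheme.Modules.pullback (X ◁ x).left).obj D,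
    PicCalc.cl_pullback (X ◁ x) (a := nA l) (by rw [hDc]; rfl),
    PicLoc.isInvertible_pullback _ hD, fun t Ω _ _ σ _ => ?_⟩
  letI : (pullback (PicF.XTproj X.hom T) σ).Over (Spec (CommRingCat.of Ω)) := ⟨pullback.snd _ _⟩
  let W := pullback (PicF.XTproj X.hom T) σ
  let T' := pullback X.hom (σ ≫ T.hom)
  let q : T' ⟶ Spec (CommRingCat.of Ω) := pullback.snd _ _
  haveI : GeometricallyIntegral q := inferInstanceAs (GeometricallyIntegral (pullback.snd _ _))
  haveI : LocallyOfFiniteType q := inferInstanceAs (LocallyOfFiniteType (pullback.snd _ _))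
  haveI : QuasiCompact q := inferInstanceAs (QuasiCompact (pullback.snd _ _))
  haveI : IsIntegral T' := GeometricallyIntegral.isIntegral_of_subsingleton q
  have hW : pullback.fst (PicF.XTproj X.hom T) σ ≫ pullback.fst X.hom T.hom ≫ X.hom =
      pullback.snd (PicF.XTproj X.hom T) σ ≫ σ ≫ T.hom := by
    rw [pullback.condition (f := X.hom) (g := T.hom), ← Category.assoc]
    exact (congrArg (· ≫ T.hom) pullback.condition).trans (Category.assoc _ _ _)
  let θ : Pic13.prodK Ω W q ⟶ (X ⊗ X).left :=
    pullback.lift (pullback.fst _ _ ≫ pullback.fst (PicF.XTproj X.hom T) σ ≫ pullback.fst X.hom T.hom)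
      (pullback.snd _ _ ≫ pullback.fst X.hom (σ ≫ T.hom)) (by
        rw [Category.assoc, Category.assoc, hW, Category.assoc, pullback.condition]
        exact (Category.assoc _ _ _).symm.trans
          ((congrArg (· ≫ σ ≫ T.hom) pullback.condition).trans (Category.assoc _ _ _)))
  let a : Spec (CommRingCat.of Ω) ⟶ T' :=
    pullback.lift (σ ≫ x.left) (𝟙 _) (by rw [Category.assoc, Over.w x, Category.id_comp])
  let e₀ : Spec (CommRingCat.of Ω) ⟶ T' :=
    pullback.lift ((σ ≫ T.hom) ≫ η[X].left) (𝟙 _) (by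
      rw [Category.assoc, Over.w η[X], Category.id_comp]
      exact Category.comp_id _)
  have ha : a ≫ q = 𝟙 _ := pullback.lift_snd _ _ _
  have he₀ : e₀ ≫ q = 𝟙 _ := pullback.lift_snd _ _ _
  refine ⟨T', q, inferInstance, inferInstance, inferInstance, (Scheme.Modules.pullback θ).obj D,
    PicLoc.isInvertible_pullback θ hD, a, e₀, ha, he₀, ?_, ?_⟩
  · have e : Pic13.sliceAt Ω W q a ha ≫ θ =
        pullback.fst (PicF.XTproj X.hom T) σ ≫ (X ◁ x).left := by
      apply pullback.hom_ext
      · simp only [θ, Pic13.sliceAt, Category.assoc, pullback.lift_fst, pullback.lift_fst_assoc,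
          Category.id_comp]
        show _ = pullback.fst (PicF.XTproj X.hom T) σ ≫ (X ◁ x).left ≫ (fst X X).left
        rw [← Over.comp_left, whiskerLeft_fst]
        rfl
      · simp only [θ, a, Pic13.sliceAt, Category.assoc, pullback.lift_snd, pullback.lift_snd_assoc,
          pullback.lift_fst]
        show _ = pullback.fst (PicF.XTproj X.hom T) σ ≫ (X ◁ x).left ≫ (snd X X).left
        rw [← Over.comp_left, whiskerLeft_snd]
        show pullback.snd (PicF.XTproj X.hom T) σ ≫ σ ≫ x.left = _
        exact (Category.assoc _ _ _).symm.trans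
          ((congrArg (· ≫ x.left) pullback.condition.symm).trans (Category.assoc _ _ _))
    exact ⟨(Scheme.Modules.pullbackComp _ θ).app D ≪≫ (Scheme.Modules.pullbackCongr e).app D ≪≫
      ((Scheme.Modules.pullbackComp _ (X ◁ x).left).app D).symm⟩
  · let g : X ⊗ T ⟶ X ⊗ X := fst X T ≫ lift (𝟙 X) (toUnit X ≫ η[X])
    have hg : Nonempty ((Scheme.Modules.pullback g.left).obj D ≅ Coh.structureModule (X ⊗ T).left) :=
      (PicCalc.iso_iff (PicCalc.cl_pullback g (a := nA l) (by rw [hDc]; rfl))
        (b := (1 : PicLoc.PicSet _)) PicGrp.one_val.symm).2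
        (by rw [PicCalc.ph_comp, ph_right_nA, map_one])
    obtain ⟨eg⟩ := hg
    have e : Pic13.sliceAt Ω W q e₀ he₀ ≫ θ = pullback.fst (PicF.XTproj X.hom T) σ ≫ g.left := by
      apply pullback.hom_ext
      · simp only [θ, Pic13.sliceAt, Category.assoc, pullback.lift_fst, pullback.lift_fst_assoc,
          Category.id_comp]
        show _ = pullback.fst (PicF.XTproj X.hom T) σ ≫ g.left ≫ (fst X X).left
        rw [← Over.comp_left, Category.assoc, lift_fst, Category.comp_id]
        rfl
      · simp only [θ, e₀, Pic13.sliceAt, Category.assoc, pullback.lift_snd, pullback.lift_snd_assoc,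
          pullback.lift_fst]
        show _ = pullback.fst (PicF.XTproj X.hom T) σ ≫ g.left ≫ (snd X X).left
        rw [← Over.comp_left, Category.assoc, lift_snd]
        show pullback.snd (PicF.XTproj X.hom T) σ ≫ σ ≫ T.hom ≫ η[X].left =
          pullback.fst (PicF.XTproj X.hom T) σ ≫ pullback.fst X.hom T.hom ≫ X.hom ≫ η[X].left
        have := congrArg (· ≫ η[X].left) hW
        simp only [Category.assoc] at this
        exact this.symm
    exact ⟨(Scheme.Modules.pullbackComp _ θ).app D ≪≫ (Scheme.Modules.pullbackCongr e).app D ≪≫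
      ((Scheme.Modules.pullbackComp _ g.left).app D).symm ≪≫
      (Scheme.Modules.pullback _).mapIso eg ≪≫ PicLoc.pullbackStructureIso _⟩

end

end Groth.Agent.Lib.H3.PicZero
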