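import Groth.Agent.H3.KLBasics
import Groth.Agent.Lib.H3.SeesawRep
import Groth.Agent.Lib.TensorMod.Invertible

/-!
# Existence of the subscheme `K(L)`
-/

set_option autoImplicit false
set_option linter.style.haveILetI false

universe u

open CategoryTheory MonoidalCategory CartesianMonoidalCategory MonObj AlgebraicGeometry

namespace Groth.Agent.Lib.H3.KLExists

open Groth.Agent.H3 Groth.Agent.H3.PicCalc

theorem exists_isKL (k : Type u) [Field k] (A : Over (Spec (CommRingCat.of k))) [GrpObj A]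
    [IsProper A.hom] [GeometricallyIntegral A.hom] (L : A.left.Modules) (hL : PicF.IsInvertible L) :
    ∃ (K : Over (Spec (CommRingCat.of k))) (i : K ⟶ A), ThetaGrp.IsKL A L i := by
  letI : ∀ Y : Scheme.{u}, PicGrp.Law Y := Groth.Agent.Lib.TensorMod.Invertible.law
  let l := PicGrp.cls L hL
  let d := ph μ[A] l * (ph (fst A A) l)⁻¹ * (ph (snd A A) l)⁻¹
  obtain ⟨D, hD, hd⟩ := PicGrp.exists_eq_cls d
  haveI : IsProper (snd A A).left := inferInstanceAs (IsProper (Limits.pullback.snd A.hom A.hom))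
  haveI : Flat (snd A A).left := inferInstanceAs (Flat (Limits.pullback.snd A.hom A.hom))
  haveI : GeometricallyIntegral (snd A A).left :=
    inferInstanceAs (GeometricallyIntegral (Limits.pullback.snd A.hom A.hom))
  haveI : IsLocallyNoetherian A.left := LocallyOfFiniteType.isLocallyNoetherian A.hom
  obtain ⟨Z, j, hj, hZ⟩ := SeesawRep.exists_rep (snd A A).left D
    (Groth.Agent.Lib.TensorMod.LocFree.of_isInvertible hD)
  let K : Over (Spec (CommRingCat.of k)) := Over.mk (j ≫ A.hom)
  let i : K ⟶ A := Over.homMk j rfl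
  refine ⟨K, i, hj, fun T z => ?_⟩
  have h1 : (∃ y : T ⟶ K, y ≫ i = z) ↔ ∃ u' : T.left ⟶ Z, u' ≫ j = z.left := by
    constructor
    · rintro ⟨y, hy⟩
      exact ⟨y.left, congrArg Over.Hom.left hy⟩
    · rintro ⟨u', hu'⟩
      refine ⟨Over.homMk u' ?_, Over.OverMorphism.ext hu'⟩
      show u' ≫ j ≫ A.hom = T.hom
      rw [← Category.assoc, hu', Over.w z]
  rw [h1, hZ T.left z.left, mumford_iff A hL z]
  have H : IsPullback (A ◁ z).left (snd A T).left (snd A A).left z.left := by
    refine IsPullback.of_right (h₁₂ := (fst A A).left) (v₁₃ := A.hom) (h₂₂ := A.hom) ?_ ?_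
      (IsPullback.of_hasPullback A.hom A.hom)
    · rw [← Over.comp_left, whiskerLeft_fst, Over.w z]
      exact IsPullback.of_hasPullback A.hom T.hom
    · rw [← Over.comp_left, ← Over.comp_left, whiskerLeft_snd]
  let e := H.isoPullback
  have hp : ∀ M : T.left.Modules,
      Nonempty ((Scheme.Modules.pullback (Limits.pullback.fst (snd A A).left z.left)).obj D ≅
        (Scheme.Modules.pullback (Limits.pullback.snd (snd A A).left z.left)).obj M) ↔
      PicF.pullCl (A ◁ z).left (PicF.cl D) = PicF.pullCl (snd A T).left (PicF.cl M) := fun M => by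
    rw [← PicGrp.cl_eq_cl_iff, ← PicLoc.pullCl_cl, ← PicLoc.pullCl_cl]
    constructor
    · intro h
      have h' := congrArg (PicF.pullCl e.hom) h
      rwa [← PicLoc.pullCl_comp, ← PicLoc.pullCl_comp, IsPullback.isoPullback_hom_fst,
        IsPullback.isoPullback_hom_snd] at h'
    · intro h
      have h' := congrArg (PicF.pullCl e.inv) h
      rwa [← PicLoc.pullCl_comp, ← PicLoc.pullCl_comp, IsPullback.isoPullback_inv_fst,
        IsPullback.isoPullback_inv_snd] at h'
  have key : ∀ n : PicLoc.PicSet T.left, ph (A ◁ z) (PicGrp.cls D hD) = ph (snd A T) n ↔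
      TransTriv A l z (n * ph z l) := fun n => by
    rw [← hd, map_mul, map_mul, map_inv, map_inv, ← ph_comp, ← ph_comp, ← ph_comp, whiskerLeft_fst,
      whiskerLeft_snd, comp_transl_fst, TransTriv, map_mul, ← ph_comp, mul_inv_eq_iff_eq_mul,
      mul_inv_eq_iff_eq_mul]
    constructor <;> intro h
    · rw [h]; ac_rfl
    · rw [h]; ac_rfl
  constructor
  · rintro ⟨n, hn⟩
    obtain ⟨M, hM, hMn⟩ := PicGrp.exists_eq_cls (n * (ph z l)⁻¹)
    refine ⟨M, Groth.Agent.Lib.TensorMod.LocFree.of_isInvertible hM, (hp M).2 ?_⟩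
    have hn' : TransTriv A l z (PicGrp.cls M hM * ph z l) := by rwa [← hMn, inv_mul_cancel_right]
    exact congrArg Subtype.val ((key _).2 hn')
  · rintro ⟨M, hM, h⟩
    exact ⟨_, (key (PicGrp.cls M (Groth.Agent.Lib.TensorMod.LocFree.isInvertible_of_rank_one hM))).1
      (Subtype.ext ((hp M).1 h))⟩

end Groth.Agent.Lib.H3.KLExists
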