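import Groth.Agent.Lib.H3.FrameRep

/-!
# Invertible modules on discrete schemes are trivial
-/

set_option autoImplicit false
set_option linter.style.haveILetI false

universe u

open CategoryTheory AlgebraicGeometry Opposite
open Pseudofunctor Bicategory

noncomputable section

namespace Groth.Agent.Lib.H3.DiscretePic

open Groth.Agent.H3 Groth.Agent.Lib.H3.FrameRep

/-- An invertible module on a scheme with discrete underlying space is trivial. -/
theorem nonempty_iso {X : Scheme.{u}} [DiscreteTopology X] {M : X.Modules} (hM : PicF.IsInvertible M) :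
    Nonempty (M ≅ Coh.structureModule X) := by
  obtain ⟨P, h₀, hP⟩ := exists_frames hM
  choose c hc using fun x : X => exists_idx hM x
  let U : X → X.Opens := fun x => ⟨{x}, isOpen_discrete _⟩
  have hle : ∀ x, U x ≤ (c x).U := fun x z hz => by
    obtain rfl : z = x := hz
    exact hc z
  have hg : ∀ x, ∃ g : (U x : Scheme.{u}) ⟶ P, g ≫ h₀.1.base = (U x).ι := fun x => by
    obtain ⟨g, hg, -⟩ := hP (U x) (mapF (X.homOfLE (hle x)) (c x).h)
    refine ⟨g, ?_⟩
    have := congrArg (fun z => z.1.base) hg
    change g ≫ h₀.1.base = X.homOfLE (hle x) ≫ (c x).h.1.base at this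
    rw [this, (c x).base, Scheme.homOfLE_ι]
  choose g hg using hg
  let 𝓤 := X.openCoverOfIsOpenCover U (TopologicalSpace.IsOpenCover.mk (eq_top_iff.mpr fun x _ =>
    TopologicalSpace.Opens.mem_iSup.mpr ⟨x, rfl⟩))
  let G : X ⟶ P := 𝓤.glueMorphisms g fun x y => by
    by_cases hxy : x = y
    · subst hxy
      have e : Limits.pullback.fst (U x).ι (U x).ι = Limits.pullback.snd (U x).ι (U x).ι := by
        rw [← cancel_mono (U x).ι, Limits.pullback.condition]
      exact congrArg (· ≫ g x) e
    · have : IsEmpty ↥(Limits.pullback (U x).ι (U y).ι) := by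
        refine ⟨fun z => hxy ?_⟩
        have h1 := congrArg (fun m : Limits.pullback (U x).ι (U y).ι ⟶ X => m z)
          (Limits.pullback.condition (f := (U x).ι) (g := (U y).ι))
        have hx : (U x).ι (Limits.pullback.fst (U x).ι (U y).ι z) ∈ U x := (Limits.pullback.fst (U x).ι (U y).ι z).2
        have hy : (U y).ι (Limits.pullback.snd (U x).ι (U y).ι z) ∈ U y := (Limits.pullback.snd (U x).ι (U y).ι z).2
        simp only [Scheme.Hom.comp_apply] at h1
        rw [h1] at hx
        exact (show _ = x from hx).symm.trans (show _ = y from hy)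
      haveI : IsEmpty ↥(Limits.pullback (𝓤.f x) (𝓤.f y)) := this
      exact isInitialOfIsEmpty.hom_ext _ _
  have hG : G ≫ h₀.1.base = 𝟙 X := by
    refine 𝓤.hom_ext _ _ fun x => ?_
    exact ((Category.assoc _ _ _).symm.trans (congrArg (· ≫ h₀.1.base)
      (𝓤.ι_glueMorphisms g _ x))).trans ((hg x).trans (Category.comp_id _).symm)
  obtain ⟨φ, hφ⟩ := exists_mk (M := Coh.structureModule X) (mapF G h₀).1 (f := 𝟙 X) (hG ▸ rfl)
  haveI : IsIso φ := by
    have := (mapF G h₀).2
    rw [hφ] at this
    exact this
  exact ⟨(asIso φ ≪≫ (Scheme.Modules.pullbackId X).app M).symm⟩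

end Groth.Agent.Lib.H3.DiscretePic
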