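import Groth.Agent.Lib.RedSplit98.Basic
import Mathlib.AlgebraicGeometry.Morphisms.Flat
import Mathlib.LinearAlgebra.Dual.Lemmas
import Mathlib.LinearAlgebra.TensorProduct.Basis
import Mathlib.FieldTheory.IsAlgClosed.Basic

/-!
# Functions on products of finite schemes over a field, and an algebra lemma
-/

set_option autoImplicit false
set_option linter.style.haveILetI false

universe u

open CategoryTheory CategoryTheory.Limits MonoidalCategory CartesianMonoidalCategory AlgebraicGeometry
open scoped TensorProduct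

noncomputable section

namespace Groth.Agent.Lib.H3.FunTensor

variable {k : Type u} [Field k]

/-- The functions of a scheme over `k`. -/
abbrev Fn (X : Over (Spec (CommRingCat.of k))) : Type u := Γ(X.left, ⊤)

attribute [local instance] RedSplit98.Basic.alg

/-- Pullback of functions. -/
abbrev pull {X Y : Over (Spec (CommRingCat.of k))} (u : X ⟶ Y) : Fn Y →ₐ[k] Fn X :=
  RedSplit98.Basic.appAlg u

theorem pull_apply {X Y : Over (Spec (CommRingCat.of k))} (u : X ⟶ Y) (a : Fn Y) :
    pull u a = u.left.appTop.hom a := rfl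

theorem pull_pull {X Y Z : Over (Spec (CommRingCat.of k))} (u : X ⟶ Y) (v : Y ⟶ Z) (a : Fn Z) :
    pull u (pull v a) = pull (u ≫ v) a := by
  show (v.left.appTop ≫ u.left.appTop).hom a = (u ≫ v).left.appTop.hom a
  rw [← Scheme.Hom.comp_appTop]
  rfl

theorem pull_id {X : Over (Spec (CommRingCat.of k))} (a : Fn X) : pull (𝟙 X) a = a := by
  show (𝟙 X : X ⟶ X).left.appTop.hom a = a
  simp

theorem algebraMap_unit_bijective :
    Function.Bijective (algebraMap k (Fn (𝟙_ (Over (Spec (CommRingCat.of k)))))) := by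
  show Function.Bijective ((Scheme.ΓSpecIso (CommRingCat.of k)).inv ≫
    Scheme.Hom.appTop (𝟙 (Spec (CommRingCat.of k)))).hom
  rw [Scheme.Hom.id_appTop, Category.comp_id]
  exact ConcreteCategory.bijective_of_isIso (Scheme.ΓSpecIso (CommRingCat.of k)).inv

theorem isFinite_tensor (X Y : Over (Spec (CommRingCat.of k))) [IsFinite X.hom] [IsFinite Y.hom] :
    IsFinite (X ⊗ Y).hom := by
  haveI : IsFinite (snd X Y).left :=
    inferInstanceAs (IsFinite (Limits.pullback.snd X.hom Y.hom))
  rw [← Over.w (snd X Y)]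
  infer_instance

variable (X Y : Over (Spec (CommRingCat.of k))) [IsFinite X.hom] [IsFinite Y.hom]

theorem exists_equiv : ∃ e : Fn X ⊗[k] Fn Y ≃ₗ[k] Fn (X ⊗ Y),
    ∀ r s, e (r ⊗ₜ s) = pull (fst X Y) r * pull (snd X Y) s := by
  haveI := RedSplit98.Basic.isAffine_of_isFinite X
  haveI := RedSplit98.Basic.isAffine_of_isFinite Y
  have H : IsPullback (fst X Y).left (snd X Y).left X.hom Y.hom :=
    IsPullback.of_hasPullback X.hom Y.hom
  let f₁ := X.hom.appTop
  have hiso := isPushout_appTop_of_isPullback H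
  let φ := (Scheme.ΓSpecIso (CommRingCat.of k)).inv
  have hPO : IsPushout (φ ≫ X.hom.appTop) (φ ≫ Y.hom.appTop) (fst X Y).left.appTop
      (snd X Y).left.appTop :=
    hiso.of_iso (Scheme.ΓSpecIso (CommRingCat.of k)) (Iso.refl _) (Iso.refl _) (Iso.refl _)
      (by simp [φ]) (by simp [φ]) (by simp) (by simp)
  letI a₁ : Algebra (Fn X) (Fn (X ⊗ Y)) := (fst X Y).left.appTop.hom.toAlgebra
  letI a₂ : Algebra (Fn Y) (Fn (X ⊗ Y)) := (snd X Y).left.appTop.hom.toAlgebra
  haveI : IsScalarTower k (Fn X) (Fn (X ⊗ Y)) :=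
    IsScalarTower.of_algebraMap_eq fun c => ((pull (fst X Y)).commutes c).symm
  haveI : IsScalarTower k (Fn Y) (Fn (X ⊗ Y)) :=
    IsScalarTower.of_algebraMap_eq fun c => ((pull (snd X Y)).commutes c).symm
  haveI : Algebra.IsPushout k (Fn X) (Fn Y) (Fn (X ⊗ Y)) :=
    CommRingCat.isPushout_iff_isPushout.1 hPO
  refine ⟨(Algebra.IsPushout.equiv k (Fn X) (Fn Y) (Fn (X ⊗ Y))).toLinearEquiv.restrictScalars k,
    fun r s => ?_⟩
  exact Algebra.IsPushout.equiv_tmul k (Fn X) (Fn Y) (Fn (X ⊗ Y)) r s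

/-- Functions on a product. -/
def equiv : Fn X ⊗[k] Fn Y ≃ₗ[k] Fn (X ⊗ Y) := (exists_equiv X Y).choose

variable {X Y}

theorem equiv_tmul (r : Fn X) (s : Fn Y) :
    equiv X Y (r ⊗ₜ s) = pull (fst X Y) r * pull (snd X Y) s := (exists_equiv X Y).choose_spec r s

theorem ext {M : Type u} [AddCommGroup M] [Module k M] {φ ψ : Fn (X ⊗ Y) →ₗ[k] M}
    (h : ∀ r s, φ (pull (fst X Y) r * pull (snd X Y) s) = ψ (pull (fst X Y) r * pull (snd X Y) s)) :
    φ = ψ := by
  refine LinearMap.ext fun z => ?_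
  obtain ⟨t, rfl⟩ := (equiv X Y).surjective z
  induction t using TensorProduct.induction_on with
  | zero => simp
  | tmul r s => rw [equiv_tmul]; exact h r s
  | add a b ha hb => simp only [map_add, ha, hb]

set_option maxHeartbeats 1000000 in
/-- The functional on a product attached to two functionals. -/
def pair : Module.Dual k (Fn X) →ₗ[k] Module.Dual k (Fn Y) →ₗ[k] Module.Dual k (Fn (X ⊗ Y)) :=
  ((TensorProduct.mk k (Module.Dual k (Fn X)) (Module.Dual k (Fn Y))).compr₂
    ((equiv X Y).symm.toLinearMap.dualMap ∘ₗ TensorProduct.dualDistrib k (Fn X) (Fn Y)))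

theorem pair_tmul (a : Module.Dual k (Fn X)) (b : Module.Dual k (Fn Y)) (r : Fn X) (s : Fn Y) :
    pair a b (pull (fst X Y) r * pull (snd X Y) s) = a r * b s := by
  rw [← equiv_tmul]
  show TensorProduct.dualDistrib k (Fn X) (Fn Y) (a ⊗ₜ b) ((equiv X Y).symm (equiv X Y (r ⊗ₜ s))) = _
  rw [LinearEquiv.symm_apply_apply, TensorProduct.dualDistrib_apply]

theorem separates {M N P : Type u} [AddCommGroup M] [Module k M] [AddCommGroup N] [Module k N]
    [AddCommGroup P] [Module k P] (E : M ⊗[k] N ≃ₗ[k] P) {z z' : P}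
    (h : ∀ (a : Module.Dual k M) (b : Module.Dual k N),
      TensorProduct.dualDistrib k M N (a ⊗ₜ b) (E.symm z) =
        TensorProduct.dualDistrib k M N (a ⊗ₜ b) (E.symm z')) : z = z' := by
  let bM := Module.Basis.ofVectorSpace k M
  let bN := Module.Basis.ofVectorSpace k N
  have key : ∀ i, TensorProduct.dualDistrib k M N (bM.coord i.1 ⊗ₜ bN.coord i.2) =
      (bM.tensorProduct bN).coord i := fun i => by
    refine TensorProduct.ext' fun r s => ?_
    rw [TensorProduct.dualDistrib_apply, Module.Basis.coord_apply, Module.Basis.coord_apply,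
      Module.Basis.coord_apply, Module.Basis.tensorProduct_repr_tmul_apply, smul_eq_mul, mul_comm]
  refine E.symm.injective ((bM.tensorProduct bN).ext_elem fun i => ?_)
  have := h (bM.coord i.1) (bN.coord i.2)
  rw [key] at this
  exact this

theorem pair_separates {z z' : Fn (X ⊗ Y)}
    (h : ∀ a b, pair a b z = pair a b z') : z = z' :=
  separates (equiv X Y) h

theorem exists_algHom [IsAlgClosed k] (A : Type u) [CommRing A] [Algebra k A] [Nontrivial A]
    [Module.Finite k A] : Nonempty (A →ₐ[k] k) := by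
  obtain ⟨m, hm⟩ := Ideal.exists_maximal A
  haveI := hm
  letI := Ideal.Quotient.field m
  haveI : Module.Finite k (A ⧸ m) := Module.Finite.of_surjective (Ideal.Quotient.mkₐ k m).toLinearMap
    Ideal.Quotient.mk_surjective
  haveI : Algebra.IsAlgebraic k (A ⧸ m) := Algebra.IsAlgebraic.of_finite k _
  exact ⟨(IsAlgClosed.lift : (A ⧸ m) →ₐ[k] k).comp (Ideal.Quotient.mkₐ k m)⟩

theorem exists_mulChar [IsAlgClosed k] {V : Type u} [AddCommGroup V] [Module k V] [Module.Finite k V]
    [Nontrivial V] (B : V →ₗ[k] Module.End k V)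
    (hcomm : ∀ a b, B a b = B b a) (hassoc : ∀ a b d, B (B a b) d = B a (B b d))
    (e : V) (he : ∀ b, B e b = b) :
    ∃ φ : Module.Dual k V, (∀ a b, φ (B a b) = φ a * φ b) ∧ φ e = 1 := by
  have hc : ∀ x ∈ Set.range B, ∀ y ∈ Set.range B, x * y = y * x := by
    rintro _ ⟨a, rfl⟩ _ ⟨b, rfl⟩
    refine LinearMap.ext fun d => ?_
    show B a (B b d) = B b (B a d)
    rw [← hassoc, hcomm a b, hassoc]
  letI : CommRing (Algebra.adjoin k (Set.range B)) :=
    { (inferInstance : Ring (Algebra.adjoin k (Set.range B))) with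
      mul_comm := fun x y => (Algebra.isMulCommutative_adjoin k hc).is_comm.comm x y }
  haveI : Module.Finite k (Algebra.adjoin k (Set.range B)) :=
    Module.Finite.of_injective (Algebra.adjoin k (Set.range B)).val.toLinearMap Subtype.val_injective
  obtain ⟨χ⟩ := exists_algHom (k := k) (Algebra.adjoin k (Set.range B))
  let La : V →ₗ[k] Algebra.adjoin k (Set.range B) :=
    B.codRestrict (Subalgebra.toSubmodule (Algebra.adjoin k (Set.range B)))
      (fun a => Algebra.subset_adjoin ⟨a, rfl⟩)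
  refine ⟨χ.toLinearMap ∘ₗ La, fun a b => ?_, ?_⟩
  · show χ (La (B a b)) = χ (La a) * χ (La b)
    rw [← map_mul]
    exact congrArg χ (Subtype.ext (LinearMap.ext fun d => hassoc a b d))
  · show χ (La e) = 1
    exact (congrArg χ (Subtype.ext (LinearMap.ext fun d => he d))).trans (map_one χ)

/-- A commutative finite-dimensional algebra structure on a dual space has a character. -/
theorem exists_char [IsAlgClosed k] {R : Type u} [AddCommGroup R] [Module k R] [Module.Finite k R]
    [Nontrivial R] (B : Module.Dual k R →ₗ[k] Module.Dual k R →ₗ[k] Module.Dual k R)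
    (hcomm : ∀ a b, B a b = B b a) (hassoc : ∀ a b d, B (B a b) d = B a (B b d))
    (e : Module.Dual k R) (he : ∀ b, B e b = b) :
    ∃ ψ : R, (∀ a b, B a b ψ = a ψ * b ψ) ∧ e ψ = 1 := by
  obtain ⟨φ, hφ, hφe⟩ := exists_mulChar B hcomm hassoc e he
  have hψ : ∀ a : Module.Dual k R, a ((Module.evalEquiv k R).symm φ) = φ a := fun a =>
    by rw [Module.apply_evalEquiv_symm_apply]
  exact ⟨(Module.evalEquiv k R).symm φ, fun a b => by rw [hψ, hψ, hψ, hφ], by rw [hψ, hφe]⟩

end Groth.Agent.Lib.H3.FunTensor
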