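import Groth.Agent.Lib.Exchange.Proper
import Groth.Agent.Lib.Curves.GlobalSections
import Groth.Agent.Lib.Ample.GG
import Mathlib.CategoryTheory.Monoidal.Cartesian.Over

/-!
# A proper scheme with a multiplication has finitely many characters
-/

set_option autoImplicit false
set_option linter.style.haveILetI false

universe u

open CategoryTheory MonoidalCategory CartesianMonoidalCategory AlgebraicGeometry TopologicalSpace Opposite
open scoped TensorProduct

noncomputable section

namespace Groth.Agent.Lib.H3.CharFin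

variable {k : Type u} [Field k]

theorem isField_base : IsField Γ(Spec (CommRingCat.of k), ⊤) :=
  (Scheme.ΓSpecIso (CommRingCat.of k)).commRingCatIsoToRingEquiv.toMulEquiv.isField (Field.toIsField k)

theorem finite_appTop (K : Over (Spec (CommRingCat.of k))) [IsProper K.hom] :
    K.hom.appTop.hom.Finite := by
  letI : K.left.Over (Spec (CommRingCat.of k)) := ⟨K.hom⟩
  haveI : IsProper (K.left ↘ Spec (CommRingCat.of k)) := ‹IsProper K.hom›
  have hO : Coh.IsCoh (Coh.structureModule K.left) := by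
    haveI : IsLocallyNoetherian K.left := LocallyOfFiniteType.isLocallyNoetherian K.hom
    exact Ample.GG.isCoh_of_isInvertible (PicLoc.isInvertible_structureModule K.left)
  letI algk : Algebra k Γ(K.left, ⊤) :=
    RingHom.toAlgebra (S := Γ(K.left, ⊤)) (Coh.toGlobal (K.left ↘ Spec (CommRingCat.of k)))
  haveI := ZarCoh.Exchange.Proper.finite_HH k (Coh.structureModule K.left) hO 0
  haveI hfin : Module.Finite k Γ(K.left, ⊤) :=
    letI := Curves.GlobalSections.secModule k (Coh.structureModule K.left)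
    Module.Finite.equiv (Curves.GlobalSections.h0Linear k (Coh.structureModule K.left))
  have h1 : ((Scheme.ΓSpecIso (CommRingCat.of k)).inv ≫ K.hom.appTop).hom.Finite :=
    RingHom.finite_algebraMap.2 hfin
  have h2 : K.hom.appTop.hom =
      ((Scheme.ΓSpecIso (CommRingCat.of k)).inv ≫ K.hom.appTop).hom.comp
        (Scheme.ΓSpecIso (CommRingCat.of k)).hom.hom := by
    rw [← CommRingCat.hom_comp, Iso.hom_inv_id_assoc]
  rw [h2]
  exact h1.comp (RingHom.Finite.of_surjective _
    (ConcreteCategory.bijective_of_isIso (Scheme.ΓSpecIso (CommRingCat.of k)).hom).2)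

theorem appTop_comp {X Y : Over (Spec (CommRingCat.of k))} (u : X ⟶ Y) (a : Γ(Spec (CommRingCat.of k), ⊤)) :
    u.left.appTop.hom (Y.hom.appTop.hom a) = X.hom.appTop.hom a := by
  rw [← CommRingCat.comp_apply, ← Scheme.Hom.comp_appTop, Over.w]

theorem tmul_independent {A C R : Type u} [CommRing A] [IsDomain A] (hA : IsField A) [CommRing C] [Algebra A C]
    [CommRing R] [Algebra A R] {ι : Type u} (v : ι → R) (hv : LinearIndependent A v) (s : Finset ι)
    (d : ι → C) (h : ∑ i ∈ s, d i ⊗ₜ[A] v i = 0) : ∀ i ∈ s, d i = 0 := by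
  classical
  letI := hA.toField
  intro i hi
  let b := Module.Basis.extend hv.linearIndepOn_id
  have hmem : v i ∈ hv.linearIndepOn_id.extend (Set.subset_univ _) :=
    hv.linearIndepOn_id.subset_extend _ ⟨i, rfl⟩
  let φ : R →ₗ[A] A := b.coord ⟨v i, hmem⟩
  have hφ : ∀ j, φ (v j) = if j = i then 1 else 0 := by
    intro j
    have hj : v j ∈ hv.linearIndepOn_id.extend (Set.subset_univ _) :=
      hv.linearIndepOn_id.subset_extend _ ⟨j, rfl⟩
    have hb : v j = b ⟨v j, hj⟩ := (Module.Basis.extend_apply_self _ ⟨v j, hj⟩).symm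
    rw [hb]
    show b.repr (b ⟨v j, hj⟩) ⟨v i, hmem⟩ = _
    rw [b.repr_self, Finsupp.single_apply]
    simp only [Subtype.mk.injEq, hv.injective.eq_iff]
  have h' := congrArg (fun z => (TensorProduct.rid A C) ((φ.lTensor C) z)) h
  simp only [map_sum, map_zero, LinearMap.lTensor_tmul, TensorProduct.rid_tmul, hφ] at h'
  simpa [ite_smul, Finset.sum_ite_eq', hi] using h'

/-- Sections independent over the base stay independent over the functions of the first factor. -/
theorem independent_snd (K : Over (Spec (CommRingCat.of k))) [IsProper K.hom] {ι : Type u}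
    (v : ι → Γ(K.left, ⊤))
    (hv : letI := K.hom.appTop.hom.toAlgebra; LinearIndependent Γ(Spec (CommRingCat.of k), ⊤) v)
    (s : Finset ι) (e : ι → Γ(K.left, ⊤))
    (h : ∑ i ∈ s, (fst K K).left.appTop.hom (e i) * (snd K K).left.appTop.hom (v i) = 0) :
    ∀ i ∈ s, e i = 0 := by
  intro i hi
  refine K.left.sheaf.eq_of_locally_eq' (fun W : {W : K.left.Opens // IsAffineOpen W} => W.1) ⊤
    (fun W => homOfLE le_top)
    (fun z _ => by
      obtain ⟨_, ⟨W, hW, rfl⟩, hz, -⟩ := K.left.isBasis_affineOpens.exists_subset_of_mem_open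
        (Set.mem_univ z) isOpen_univ
      exact Opens.mem_iSup.mpr ⟨⟨W, hW⟩, hz⟩) _ _ fun ⟨W, hW⟩ => ?_
  show (K.left.presheaf.map (homOfLE (le_top : W ≤ ⊤)).op).hom (e i) =
    (K.left.presheaf.map (homOfLE (le_top : W ≤ ⊤)).op).hom 0
  rw [map_zero]
  let q : (K ⊗ K).left ⟶ K.left := (fst K K).left
  have H : IsPullback (snd K K).left q K.hom K.hom := (IsPullback.of_hasPullback K.hom K.hom).flip
  have hUY : q ⁻¹ᵁ W = (snd K K).left ⁻¹ᵁ ⊤ ⊓ q ⁻¹ᵁ W := by simp
  have : CompactSpace K.left := (quasiCompact_iff_compactSpace K.hom).mp inferInstance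
  have : QuasiSeparatedSpace K.left := quasiSeparatedSpace_of_quasiSeparated K.hom
  have : Subsingleton (Spec (CommRingCat.of k)) := inferInstance
  haveI : Flat K.hom := inferInstance
  have hiso := isIso_pushoutSection_of_isQuasiSeparated_of_flat_right (US := ⊤) (UT := W) (UX := ⊤)
    H le_top le_top hUY (isAffineOpen_top _) hW (isCompact_univ) isQuasiSeparated_univ
  have hPO := (isIso_pushoutSection_iff H le_top le_top hUY).mp hiso
  let f₁ := K.hom.appLE ⊤ ⊤ le_top
  let f₂ := K.hom.appLE ⊤ W le_top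
  let i₁ := (snd K K).left.appLE ⊤ (q ⁻¹ᵁ W) (by simp)
  let i₂ := q.appLE W (q ⁻¹ᵁ W) le_rfl
  letI := f₁.hom.toAlgebra
  letI := f₂.hom.toAlgebra
  letI := i₁.hom.toAlgebra
  letI := i₂.hom.toAlgebra
  letI := (f₂ ≫ i₂).hom.toAlgebra
  haveI : IsScalarTower Γ(Spec (CommRingCat.of k), ⊤) Γ(K.left, W) Γ((K ⊗ K).left, q ⁻¹ᵁ W) :=
    IsScalarTower.of_algebraMap_eq' rfl
  haveI : IsScalarTower Γ(Spec (CommRingCat.of k), ⊤) Γ(K.left, ⊤) Γ((K ⊗ K).left, q ⁻¹ᵁ W) :=
    IsScalarTower.of_algebraMap_eq' (congrArg CommRingCat.Hom.hom hPO.w).symm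
  haveI : Algebra.IsPushout Γ(Spec (CommRingCat.of k), ⊤) Γ(K.left, W) Γ(K.left, ⊤)
      Γ((K ⊗ K).left, q ⁻¹ᵁ W) := CommRingCat.isPushout_iff_isPushout.1 hPO.flip
  have e1 : f₁ = K.hom.appTop := (Scheme.Hom.app_eq_appLE _).symm
  have hv' : LinearIndependent Γ(Spec (CommRingCat.of k), ⊤) v := by
    have e2 : (f₁.hom.toAlgebra : Algebra Γ(Spec (CommRingCat.of k), ⊤) Γ(K.left, ⊤)) =
        K.hom.appTop.hom.toAlgebra := by rw [e1]
    convert hv
  haveI : IsDomain Γ(Spec (CommRingCat.of k), ⊤) := (isField_base (k := k)).isDomain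
  refine tmul_independent (C := Γ(K.left, W)) isField_base v hv' s
    (fun j => (K.left.presheaf.map (homOfLE (le_top : W ≤ ⊤)).op).hom (e j)) ?_ i hi
  apply (Algebra.IsPushout.equiv Γ(Spec (CommRingCat.of k), ⊤) Γ(K.left, W) Γ(K.left, ⊤)
    Γ((K ⊗ K).left, q ⁻¹ᵁ W)).injective
  rw [map_sum, map_zero]
  have h' := congrArg ((K ⊗ K).left.presheaf.map (homOfLE (le_top : q ⁻¹ᵁ W ≤ ⊤)).op).hom h
  rw [map_sum, map_zero] at h'
  refine Eq.trans (Finset.sum_congr rfl fun j _ => ?_) h'
  rw [Algebra.IsPushout.equiv_tmul, map_mul]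
  refine congrArg₂ (· * ·) ?_ ?_
  · show (K.left.presheaf.map _ ≫ i₂).hom (e j) = (q.appTop ≫ _).hom (e j)
    rw [Scheme.Hom.map_appLE]
    rfl
  · rfl

theorem sum_identity {ι Q : Type u} [CommRing Q] (s : Finset ι) (x y z : Q) (C F G : ι → Q)
    (h : x * (y * z) + ∑ i ∈ s, C i * (F i * G i) = 0)
    (h' : y * (x * z) + ∑ i ∈ s, y * (C i * G i) = 0) :
    ∑ i ∈ s, C i * (F i - y) * G i = 0 := by
  have e : ∀ i ∈ s, C i * (F i - y) * G i = C i * (F i * G i) - y * (C i * G i) := fun i _ => by ring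
  rw [Finset.sum_congr rfl e, Finset.sum_sub_distrib]
  linear_combination h - h'

/-- The functions multiplicative for a multiplication are finitely many. -/
theorem finite_chars (K : Over (Spec (CommRingCat.of k))) [IsProper K.hom] (m : K ⊗ K ⟶ K) :
    Set.Finite {χ : Γ(K.left, ⊤) | IsUnit χ ∧ m.left.appTop.hom χ =
      (fst K K).left.appTop.hom χ * (snd K K).left.appTop.hom χ} := by
  classical
  rcases subsingleton_or_nontrivial Γ(K.left, ⊤) with hR | hR
  · exact Set.subsingleton_of_subsingleton.finite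
  letI := K.hom.appTop.hom.toAlgebra
  letI := (isField_base (k := k)).toField
  haveI : Module.Finite Γ(Spec (CommRingCat.of k), ⊤) Γ(K.left, ⊤) :=
    RingHom.finite_algebraMap.1 (finite_appTop K)
  suffices LinearIndependent Γ(Spec (CommRingCat.of k), ⊤)
      (fun χ : {χ : Γ(K.left, ⊤) // IsUnit χ ∧ m.left.appTop.hom χ =
        (fst K K).left.appTop.hom χ * (snd K K).left.appTop.hom χ} => (χ : Γ(K.left, ⊤))) by
    haveI : Finite {χ : Γ(K.left, ⊤) // IsUnit χ ∧ m.left.appTop.hom χ =
        (fst K K).left.appTop.hom χ * (snd K K).left.appTop.hom χ} := this.finite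
    exact Set.finite_coe_iff.mp ‹_›
  rw [linearIndependent_iff_finset_linearIndependent]
  intro s
  induction s using Finset.induction with
  | empty => exact linearIndependent_empty_type
  | @insert a s ha ih =>
    rw [Fintype.linearIndependent_iff]
    intro g hg
    let c : {χ : Γ(K.left, ⊤) // IsUnit χ ∧ m.left.appTop.hom χ =
        (fst K K).left.appTop.hom χ * (snd K K).left.appTop.hom χ} → Γ(Spec (CommRingCat.of k), ⊤) :=
      fun χ => if h : χ ∈ insert a s then g ⟨χ, h⟩ else 0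
    have hsum : ∑ χ ∈ insert a s, c χ • (χ : Γ(K.left, ⊤)) = 0 := by
      rw [← hg, ← Finset.sum_coe_sort]
      exact Finset.sum_congr rfl fun χ _ => by simp only [c, dif_pos χ.2]; rfl
    have e1 := congrArg m.left.appTop.hom hsum
    have e2 := congrArg (fun z => (fst K K).left.appTop.hom a.1 * (snd K K).left.appTop.hom z) hsum
    simp only [map_sum, map_zero, Algebra.smul_def, map_mul, mul_zero, Finset.mul_sum] at e1 e2
    have hm : ∀ x, m.left.appTop.hom (algebraMap Γ(Spec (CommRingCat.of k), ⊤) Γ(K.left, ⊤) x) =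
        (K ⊗ K).hom.appTop.hom x := appTop_comp m
    have hf : ∀ x, (fst K K).left.appTop.hom (algebraMap Γ(Spec (CommRingCat.of k), ⊤) Γ(K.left, ⊤) x) =
        (K ⊗ K).hom.appTop.hom x := appTop_comp (fst K K)
    have hs : ∀ x, (snd K K).left.appTop.hom (algebraMap Γ(Spec (CommRingCat.of k), ⊤) Γ(K.left, ⊤) x) =
        (K ⊗ K).hom.appTop.hom x := appTop_comp (snd K K)
    simp only [hm, hs] at e1 e2
    rw [Finset.sum_insert ha, a.2.2] at e1
    rw [Finset.sum_insert ha] at e2
    have e1' : ∑ χ ∈ s, (K ⊗ K).hom.appTop.hom (c χ) *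
        ((fst K K).left.appTop.hom χ.1 * (snd K K).left.appTop.hom χ.1) =
        ∑ χ ∈ s, (K ⊗ K).hom.appTop.hom (c χ) * m.left.appTop.hom χ.1 :=
      Finset.sum_congr rfl fun χ _ => by rw [χ.2.2]
    have key : ∑ χ ∈ s, (fst K K).left.appTop.hom
        (algebraMap _ Γ(K.left, ⊤) (c χ) * (χ.1 - a.1)) * (snd K K).left.appTop.hom χ.1 = 0 := by
      simp only [map_mul, map_sub, hf]
      rw [← e1'] at e1
      exact sum_identity s _ _ _ _ _ _ e1 e2
    let w : {χ : Γ(K.left, ⊤) // IsUnit χ ∧ m.left.appTop.hom χ =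
        (fst K K).left.appTop.hom χ * (snd K K).left.appTop.hom χ} → Γ((K ⊗ K).left, ⊤) := fun χ =>
      (fst K K).left.appTop.hom (algebraMap _ Γ(K.left, ⊤) (c χ) * (χ.1 - a.1)) *
        (snd K K).left.appTop.hom χ.1
    have key' : ∑ χ : s, w χ.1 = 0 := (Finset.sum_coe_sort s w).trans key
    have hz := independent_snd K (ι := s) (fun χ => χ.1.1) ih Finset.univ
      (fun χ => algebraMap _ Γ(K.left, ⊤) (c χ.1) * (χ.1.1 - a.1)) key'
    have hcs : ∀ χ ∈ s, c χ = 0 := by
      intro χ hχ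
      by_contra hne
      have h0 := hz ⟨χ, hχ⟩ (Finset.mem_univ _)
      have hu : IsUnit (algebraMap Γ(Spec (CommRingCat.of k), ⊤) Γ(K.left, ⊤) (c χ)) :=
        (IsUnit.mk0 _ hne).map _
      have := hu.mul_right_eq_zero.mp h0
      exact ha (by rw [← Subtype.ext (sub_eq_zero.mp this)]; exact hχ)
    have hca : c a = 0 := by
      rw [Finset.sum_insert ha, Finset.sum_eq_zero (fun χ hχ => by rw [hcs χ hχ, zero_smul]),
        add_zero] at hsum
      exact (smul_eq_zero.mp hsum).resolve_right a.2.1.ne_zero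
    rintro ⟨χ, hχ⟩
    have : c χ = 0 := by
      rcases Finset.mem_insert.mp hχ with rfl | h
      · exact hca
      · exact hcs χ h
    simp only [c, dif_pos hχ] at this
    exact this

end Groth.Agent.Lib.H3.CharFin
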