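import Groth.Agent.H3.ThetaMaps
import Groth.Agent.Lib.DescAlg.PbSecHom
import Groth.Agent.Lib.TensorMod.QCohInv
import Groth.Agent.Lib.TensorMod.LocFree
import Mathlib.AlgebraicGeometry.Sites.Representability
import Mathlib.AlgebraicGeometry.Sites.Fpqc
import Mathlib.CategoryTheory.Limits.Types.Pullbacks

/-!
# The scheme of frames of an invertible module

Morphisms `(T, O_T) ⟶ (X, N)` of pairs with invertible fibre are represented by a scheme.
-/

set_option autoImplicit false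
set_option linter.style.haveILetI false

universe u

open CategoryTheory CategoryTheory.Limits AlgebraicGeometry Opposite
open Pseudofunctor Bicategory

noncomputable section

namespace Groth.Agent.Lib.H3.FrameRep

open Groth.Agent.H3 Groth.Agent.Lib

/-- The pair `(T, O_T)`. -/
abbrev ob (T : Scheme.{u}) : CoGrothendieck (ThetaGrp.modPF.{u}) := ⟨T, Coh.structureModule T⟩

/-- The pair `(X, N)`. -/
abbrev pr {X : Scheme.{u}} (N : X.Modules) : CoGrothendieck (ThetaGrp.modPF.{u}) := ⟨X, N⟩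

/-- A morphism of pairs. -/
abbrev mkH {T X : Scheme.{u}} {M : T.Modules} {N : X.Modules} (f : T ⟶ X)
    (φ : M ⟶ (Scheme.Modules.pullback f).obj N) : pr M ⟶ pr N := ⟨f, φ⟩

theorem mk_comp {T' T X : Scheme.{u}} {M : T'.Modules} {P : T.Modules} {N : X.Modules}
    (a : T' ⟶ T) (f : T ⟶ X) (α : M ⟶ (Scheme.Modules.pullback a).obj P)
    (φ : P ⟶ (Scheme.Modules.pullback f).obj N) :
    mkH a α ≫ mkH f φ =
      mkH (a ≫ f) (α ≫ (Scheme.Modules.pullback a).map φ ≫ (Scheme.Modules.pullbackComp a f).hom.app N) :=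
  rfl

theorem mk_congr {T X : Scheme.{u}} {M : T.Modules} {N : X.Modules} {f f' : T ⟶ X} (h : f = f')
    (φ : M ⟶ (Scheme.Modules.pullback f).obj N) :
    mkH f φ = mkH f' (φ ≫ (Scheme.Modules.pullbackCongr h).hom.app N) := by
  subst h
  simp [Scheme.Modules.pullbackCongr]

theorem mk_inj {T X : Scheme.{u}} {M : T.Modules} {N : X.Modules} {f : T ⟶ X}
    {φ φ' : M ⟶ (Scheme.Modules.pullback f).obj N}
    (h : mkH f φ = mkH f φ') : φ = φ' := by
  injection h with h1 h2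

theorem exists_mk {T X : Scheme.{u}} {M : T.Modules} {N : X.Modules} (h : pr M ⟶ pr N)
    {f : T ⟶ X} (hf : h.base = f) : ∃ φ, h = mkH f φ := by
  obtain ⟨g, φ⟩ := h
  subst hf
  exact ⟨φ, rfl⟩

/-- The morphism to the final pair. -/
def τ (T : Scheme.{u}) : ob T ⟶ ob (⊤_ Scheme.{u}) :=
  ⟨terminal.from T, (PicLoc.pullbackStructureIso _).inv⟩

theorem isIso_τ_fiber (T : Scheme.{u}) : IsIso (τ T).fiber :=
  inferInstanceAs (IsIso (PicLoc.pullbackStructureIso (terminal.from T)).inv)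

theorem exists_can {T' T : Scheme.{u}} (f : T' ⟶ T) :
    ∃ φ : Coh.structureModule T' ⟶ (Scheme.Modules.pullback f).obj (Coh.structureModule T),
      mkH (M := Coh.structureModule T') (N := Coh.structureModule T) f φ ≫ τ T = τ T' := by
  obtain ⟨h, ⟨hb, hh⟩, -⟩ := Cartesian.exists_unique_lift (τ T) (isIso_τ_fiber T) f (τ T')
    (terminal.hom_ext _ _)
  obtain ⟨φ, rfl⟩ := exists_mk (M := Coh.structureModule T') (N := Coh.structureModule T) h hb
  exact ⟨φ, hh⟩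

/-- `O_{T'} ⟶ f^* O_T`. -/
def σ {T' T : Scheme.{u}} (f : T' ⟶ T) :
    Coh.structureModule T' ⟶ (Scheme.Modules.pullback f).obj (Coh.structureModule T) :=
  (exists_can f).choose

/-- The canonical morphism `(T', O) ⟶ (T, O)` over `f`. -/
def ι {T' T : Scheme.{u}} (f : T' ⟶ T) : ob T' ⟶ ob T := mkH f (σ f)

theorem ι_base {T' T : Scheme.{u}} (f : T' ⟶ T) : (ι f).base = f := rfl

theorem ι_τ {T' T : Scheme.{u}} (f : T' ⟶ T) : ι f ≫ τ T = τ T' := (exists_can f).choose_spec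

theorem isIso_σ {T' T : Scheme.{u}} (f : T' ⟶ T) : IsIso (σ f) :=
  ThetaMaps.isIso_fiber_of_comp (ι f) (τ T) (isIso_τ_fiber T) (by rw [ι_τ]; exact isIso_τ_fiber T')

theorem ι_unique {T' T : Scheme.{u}} {f : T' ⟶ T} {h : ob T' ⟶ ob T} (hb : h.base = f)
    (hh : h ≫ τ T = τ T') : h = ι f :=
  Cartesian.eq_of_comp_eq (τ T) (isIso_τ_fiber T) hb (hh.trans (ι_τ f).symm)

theorem ι_id (T : Scheme.{u}) : ι (𝟙 T) = 𝟙 (ob T) :=
  (ι_unique (h := 𝟙 (ob T)) rfl (Category.id_comp _)).symm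

theorem ι_comp {T'' T' T : Scheme.{u}} (g : T'' ⟶ T') (f : T' ⟶ T) : ι g ≫ ι f = ι (g ≫ f) :=
  ι_unique rfl (by rw [Category.assoc, ι_τ, ι_τ])

theorem σ_comp {T'' T' T : Scheme.{u}} (g : T'' ⟶ T') (f : T' ⟶ T) {q : T'' ⟶ T} (h : g ≫ f = q) :
    σ q = σ g ≫ (Scheme.Modules.pullback g).map (σ f) ≫
      (DescAlg.PbSec.tr g h (Coh.structureModule T)).hom := by
  refine mk_inj (show ι q = _ from ?_)
  rw [show ι q = ι g ≫ ι f from (by rw [ι_comp, h]), ι, ι, mk_comp, mk_congr h]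
  simp [DescAlg.PbSec.tr]

variable {X : Scheme.{u}} (N : X.Modules)

/-- Frames: morphisms with invertible fibre. -/
def FObj (T : Scheme.{u}) : Type u := {h : ob T ⟶ pr N // IsIso h.fiber}

variable {N}

/-- Restriction of frames. -/
def mapF {T' T : Scheme.{u}} (g : T' ⟶ T) (h : FObj N T) : FObj N T' :=
  ⟨ι g ≫ h.1, ThetaMaps.isIso_fiber_comp _ _ (isIso_σ g) h.2⟩

theorem mapF_id {T : Scheme.{u}} (h : FObj N T) : mapF (𝟙 T) h = h :=
  Subtype.ext (by show ι (𝟙 T) ≫ h.1 = h.1; rw [ι_id, Category.id_comp])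

theorem mapF_comp {T'' T' T : Scheme.{u}} (g : T'' ⟶ T') (f : T' ⟶ T) (h : FObj N T) :
    mapF (g ≫ f) h = mapF g (mapF f h) :=
  Subtype.ext (by show ι _ ≫ h.1 = ι g ≫ ι f ≫ h.1; rw [← Category.assoc, ι_comp])

variable (N) in
/-- The functor of frames. -/
def functor : Scheme.{u}ᵒᵖ ⥤ Type u where
  obj T := FObj N T.unop
  map g := ↾(mapF g.unop)
  map_id T := by ext x; exact mapF_id x
  map_comp g g' := by ext x; exact mapF_comp g'.unop g.unop x

theorem invertible_ob (T : Scheme.{u}) : PicF.IsInvertible (Y := (ob T).base) (ob T).fiber :=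
  PicLoc.isInvertible_structureModule T

/-- Frames over the same morphism differ by a unique invertible function. -/
theorem exists_unit {T : Scheme.{u}} (h h' : FObj N T) (e : h'.1.base = h.1.base) :
    ∃ r : Γ(T, ⊤), IsUnit r ∧ h'.1 = Scalars.act (a := ob T) r h.1 := by
  obtain ⟨r, hr⟩ := Scalars.exists_eq_act (invertible_ob T) h.1 h'.1 h.2 e
  obtain ⟨r', hr'⟩ := Scalars.exists_eq_act (invertible_ob T) h'.1 h.1 h'.2 e.symm
  refine ⟨r, IsUnit.of_mul_eq_one r' ?_, hr⟩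
  refine Scalars.act_injective (invertible_ob T) (h := h'.1) h'.2 ?_
  rw [Scalars.act_one]
  conv_rhs => rw [hr, hr', Scalars.act_act]
  rw [mul_comm]

theorem mapF_act {T' T : Scheme.{u}} (g : T' ⟶ T) (r : Γ(T, ⊤)) (h : ob T ⟶ pr N) :
    ι g ≫ Scalars.act (a := ob T) r h = Scalars.act (a := ob T') (g.appTop.hom r) (ι g ≫ h) := by
  rw [Scalars.comp_act]
  rfl

theorem separated {T : Scheme.{u}} (𝓤 : T.OpenCover) (h h' : FObj N T)
    (e : ∀ j, mapF (𝓤.f j) h = mapF (𝓤.f j) h') : h = h' := by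
  have eb : h'.1.base = h.1.base := 𝓤.hom_ext _ _ fun j =>
    (congrArg (fun z => z.1.base) (e j)).symm
  obtain ⟨r, -, hr⟩ := exists_unit h h' eb
  refine Subtype.ext ?_
  suffices hr1 : r = 1 by rw [hr, hr1, Scalars.act_one]
  refine TopCat.Sheaf.eq_of_locally_eq' T.sheaf (fun j => (𝓤.f j).opensRange) ⊤
    (fun j => homOfLE le_top) (by rw [𝓤.iSup_opensRange]) _ _ fun j => ?_
  have h1 : (𝓤.f j).appTop.hom r = 1 := by
    refine Scalars.act_injective (invertible_ob (𝓤.X j)) (h := (mapF (𝓤.f j) h).1) (mapF _ h).2 ?_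
    rw [Scalars.act_one]
    refine Eq.trans ?_ (congrArg Subtype.val (e j)).symm
    show _ = ι (𝓤.f j) ≫ h'.1
    rw [hr, mapF_act]
    rfl
  have hle : (⊤ : (𝓤.X j).Opens) ≤ 𝓤.f j ⁻¹ᵁ (𝓤.f j).opensRange := fun z _ => ⟨z, rfl⟩
  have hinj : Function.Injective ((𝓤.f j).appLE (𝓤.f j).opensRange ⊤ hle).hom := by
    have : IsIso ((𝓤.f j).app (𝓤.f j).opensRange) := (𝓤.f j).isIso_app _ le_rfl
    have h2 : IsIso (homOfLE hle) := ⟨homOfLE le_top, rfl, rfl⟩
    rw [Scheme.Hom.appLE]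
    exact (ConcreteCategory.bijective_of_isIso _).1
  refine hinj ?_
  show ((T.presheaf.map _) ≫ (𝓤.f j).appLE _ _ hle).hom r = ((T.presheaf.map _) ≫ (𝓤.f j).appLE _ _ hle).hom 1
  rw [Scheme.Hom.map_appLE, map_one]
  rw [show (𝓤.f j).appTop = (𝓤.f j).appLE ⊤ ⊤ le_top from Scheme.Hom.app_eq_appLE _] at h1
  exact h1

variable (hN : PicF.IsInvertible N)
include hN

set_option maxHeartbeats 1600000 in
theorem isSheaf_functor : Presieve.IsSheaf Scheme.zariskiTopology (functor N) := by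
  rw [Precoverage.isSheaf_toGrothendieck_iff_of_isStableUnderBaseChange]
  rintro T R hR x hx
  obtain ⟨(𝓤₀ : Scheme.OpenCover T), rfl⟩ := Scheme.exists_cover_of_mem_pretopology hR
  let 𝓤 : Scheme.OpenCover.{u} T := Scheme.Cover.ulift 𝓤₀
  let idx : 𝓤.I₀ → 𝓤₀.I₀ := Scheme.Cover.idx 𝓤₀
  let hh : ∀ i, FObj N (𝓤.X i) := fun i => x (𝓤.f i) (.mk (idx i))
  have compat : ∀ ⦃W : Scheme.{u}⦄ ⦃i j⦄ (a : W ⟶ 𝓤.X i) (b : W ⟶ 𝓤.X j),
      a ≫ 𝓤.f i = b ≫ 𝓤.f j → ι a ≫ (hh i).1 = ι b ≫ (hh j).1 :=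
    fun W i j a b e => congrArg Subtype.val (hx a b (.mk (idx i)) (.mk (idx j)) e)
  let y : T ⟶ X := 𝓤.glueMorphisms (fun i => (hh i).1.base) fun i j =>
    congrArg CoGrothendieck.Hom.base (compat _ _ pullback.condition)
  have hy : ∀ i, 𝓤.f i ≫ y = (hh i).1.base := fun i => 𝓤.ι_glueMorphisms _ _ i
  let N₀ := (Scheme.Modules.pullback y).obj N
  haveI : N₀.IsQuasicoherent :=
    TensorMod.QCohInv.isQCoh_of_isInvertible (PicLoc.isInvertible_pullback y hN)
  haveI : (Coh.structureModule T).IsQuasicoherent :=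
    TensorMod.QCohInv.isQCoh_of_isInvertible (PicLoc.isInvertible_structureModule T)
  let κ : pr N₀ ⟶ pr N := mkH y (𝟙 _)
  have hκ : IsIso κ.fiber := inferInstanceAs (IsIso (𝟙 N₀))
  have hlift : ∀ i, ∃ φ : Coh.structureModule (𝓤.X i) ⟶ (Scheme.Modules.pullback (𝓤.f i)).obj N₀,
      mkH (M := Coh.structureModule (𝓤.X i)) (N := N₀) (𝓤.f i) φ ≫ κ = (hh i).1 := fun i => by
    obtain ⟨h', ⟨hb, he⟩, -⟩ :=
      Cartesian.exists_unique_lift κ hκ (a := ob (𝓤.X i)) (𝓤.f i) (hh i).1 (hy i).symm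
    obtain ⟨φ, rfl⟩ := exists_mk (M := Coh.structureModule (𝓤.X i)) h' hb
    exact ⟨φ, he⟩
  choose φ hφ using hlift
  have hφi : ∀ i, IsIso (φ i) := fun i =>
    ThetaMaps.isIso_fiber_of_comp (mkH (N := N₀) (𝓤.f i) (φ i)) κ hκ
      (by rw [hφ]; exact (hh i).2)
  haveI := fun i => isIso_σ (𝓤.f i)
  let ψ : ∀ i, (Scheme.Modules.pullback (𝓤.f i)).obj (Coh.structureModule T) ⟶
      (Scheme.Modules.pullback (𝓤.f i)).obj N₀ := fun i => inv (σ (𝓤.f i)) ≫ φ i
  let ψ' : ∀ i, (Scheme.Modules.pullback (𝓤.f i)).obj N₀ ⟶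
      (Scheme.Modules.pullback (𝓤.f i)).obj (Coh.structureModule T) := fun i =>
    inv (φ i) ≫ σ (𝓤.f i)
  have hψψ' : ∀ i, ψ i ≫ ψ' i = 𝟙 _ := fun i => by simp [ψ, ψ']
  have hψ'ψ : ∀ i, ψ' i ≫ ψ i = 𝟙 _ := fun i => by simp [ψ, ψ']
  have hconj : ∀ ⦃W : Scheme.{u}⦄ (q : W ⟶ T) ⦃i j⦄ (a : W ⟶ 𝓤.X i) (b : W ⟶ 𝓤.X j)
      (ha : a ≫ 𝓤.f i = q) (hb : b ≫ 𝓤.f j = q),
      DescAlg.PbSec.conj _ N₀ a ha (ψ i) = DescAlg.PbSec.conj _ N₀ b hb (ψ j) := by
    intro W q i j a b ha hb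
    have e : (ι a ≫ mkH (N := N₀) (𝓤.f i) (φ i)) =
        ι b ≫ mkH (N := N₀) (𝓤.f j) (φ j) := by
      refine Cartesian.eq_of_comp_eq κ hκ (ha.trans hb.symm) ?_
      rw [Category.assoc, Category.assoc, hφ, hφ]
      exact compat a b (ha.trans hb.symm)
    rw [ι, ι, mk_comp, mk_comp, mk_congr ha, mk_congr hb] at e
    have e' := mk_inj e
    haveI := isIso_σ q
    rw [← cancel_epi (σ q)]
    conv_lhs => rw [σ_comp a (𝓤.f i) ha]
    conv_rhs => rw [σ_comp b (𝓤.f j) hb]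
    simp only [DescAlg.PbSec.conj, ψ, Functor.map_comp, Functor.map_inv, Category.assoc,
      Iso.hom_inv_id_assoc, IsIso.hom_inv_id_assoc]
    simpa [DescAlg.PbSec.tr] using e'
  have hcomp : ∀ {M P Q : T.Modules} {W : Scheme.{u}} {i} {q : W ⟶ T} (a : W ⟶ 𝓤.X i) (ha : a ≫ 𝓤.f i = q)
      (s : (Scheme.Modules.pullback (𝓤.f i)).obj M ⟶ (Scheme.Modules.pullback (𝓤.f i)).obj P)
      (t : (Scheme.Modules.pullback (𝓤.f i)).obj P ⟶ (Scheme.Modules.pullback (𝓤.f i)).obj Q),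
      DescAlg.PbSec.conj M Q a ha (s ≫ t) =
        DescAlg.PbSec.conj M P a ha s ≫ DescAlg.PbSec.conj P Q a ha t := by
    intros; simp [DescAlg.PbSec.conj]
  have hid : ∀ {M : T.Modules} {W : Scheme.{u}} {i} {q : W ⟶ T} (a : W ⟶ 𝓤.X i) (ha : a ≫ 𝓤.f i = q),
      DescAlg.PbSec.conj M M a ha (𝟙 _) = 𝟙 _ := by
    intros; simp [DescAlg.PbSec.conj]
  have hconj' : ∀ ⦃W : Scheme.{u}⦄ (q : W ⟶ T) ⦃i j⦄ (a : W ⟶ 𝓤.X i) (b : W ⟶ 𝓤.X j)
      (ha : a ≫ 𝓤.f i = q) (hb : b ≫ 𝓤.f j = q),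
      DescAlg.PbSec.conj N₀ _ a ha (ψ' i) = DescAlg.PbSec.conj N₀ _ b hb (ψ' j) := by
    intro W q i j a b ha hb
    calc DescAlg.PbSec.conj N₀ _ a ha (ψ' i)
        = DescAlg.PbSec.conj N₀ _ a ha (ψ' i) ≫
            (DescAlg.PbSec.conj _ N₀ b hb (ψ j) ≫ DescAlg.PbSec.conj N₀ _ b hb (ψ' j)) := by
          rw [← hcomp b hb, hψψ', hid, Category.comp_id]
      _ = (DescAlg.PbSec.conj N₀ _ a ha (ψ' i) ≫ DescAlg.PbSec.conj _ N₀ a ha (ψ i)) ≫
            DescAlg.PbSec.conj N₀ _ b hb (ψ' j) := by rw [hconj q a b ha hb, Category.assoc]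
      _ = _ := by rw [← hcomp a ha, hψ'ψ, hid, Category.id_comp]
  have hcov : Sieve.ofArrows 𝓤.X 𝓤.f ∈ Scheme.fpqcTopology T :=
    Scheme.zariskiTopology_le_fpqcTopology T 𝓤.mem_grothendieckTopology
  obtain ⟨Φ, hΦ⟩ := DescAlg.PbSec.exists_hom (N₀ := N₀) 𝓤.f hcov ψ hconj
  obtain ⟨Φ', hΦ'⟩ := DescAlg.PbSec.exists_hom 𝓤.f hcov ψ' hconj'
  have hiso : IsIso Φ := ⟨Φ', DescAlg.PbSec.pullback_map_injective 𝓤.f hcov fun i => by
      rw [Functor.map_comp, hΦ, hΦ', hψψ', CategoryTheory.Functor.map_id],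
    DescAlg.PbSec.pullback_map_injective 𝓤.f hcov fun i => by
      rw [Functor.map_comp, hΦ, hΦ', hψ'ψ, CategoryTheory.Functor.map_id]⟩
  let h : FObj N T := ⟨mkH y Φ, hiso⟩
  have hh' : ∀ i, mapF (𝓤.f i) h = hh i := fun i => by
    refine Subtype.ext ?_
    show ι (𝓤.f i) ≫ mkH (M := Coh.structureModule T) y Φ = _
    rw [← hφ i, ι, mk_comp, mk_comp, hΦ]
    simp [ψ]
  refine ⟨h, ?_, fun h' hh'' => separated 𝓤 h' h fun i =>
    (hh'' (𝓤.f i) (.mk (idx i))).trans (hh' i).symm⟩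
  rintro W e ⟨i⟩
  refine separated (Precoverage.ZeroHypercover.pullback₁ (𝓤₀.f i) 𝓤) (mapF (𝓤₀.f i) h) (x (𝓤₀.f i) (.mk i))
    fun j => ?_
  have key : ∀ j : 𝓤.I₀, mapF (Limits.pullback.fst (𝓤₀.f i) (𝓤.f j)) (mapF (𝓤₀.f i) h) =
      mapF (Limits.pullback.fst (𝓤₀.f i) (𝓤.f j)) (x (𝓤₀.f i) (.mk i)) := fun j => by
    rw [← mapF_comp, Limits.pullback.condition, mapF_comp, hh']
    exact hx _ _ (.mk (idx j)) (.mk i) Limits.pullback.condition.symm
  exact key j

/-- The sheaf of frames. -/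
def sheaf : Sheaf Scheme.zariskiTopology.{u} (Type u) :=
  ⟨functor N, (isSheaf_iff_isSheaf_of_type _ _).mpr (isSheaf_functor hN)⟩

omit hN

/-- The ring whose spectrum represents units. -/
abbrev GmRing : CommRingCat.{u} :=
  CommRingCat.of (Localization.Away (Polynomial.X : Polynomial (ULift.{u} ℤ)))

/-- The universal unit. -/
abbrev tvar : GmRing.{u} := algebraMap (Polynomial (ULift.{u} ℤ)) _ Polynomial.X

theorem ulift_hom_ext {R : Type u} [CommRing R] (f g : ULift.{u} ℤ →+* R) : f = g := by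
  have h : f.comp (ULift.ringEquiv (R := ℤ)).symm.toRingHom = g.comp (ULift.ringEquiv (R := ℤ)).symm.toRingHom :=
    RingHom.ext_int _ _
  exact RingHom.ext fun x => RingHom.congr_fun h x.down

theorem existsUnique_hom {R : Type u} [CommRing R] {r : R} (hr : IsUnit r) :
    ∃! χ : GmRing.{u} →+* R, χ tvar = r := by
  let e := Polynomial.eval₂RingHom ((Int.castRingHom R).comp (ULift.ringEquiv (R := ℤ)).toRingHom) r
  have he : IsUnit (e Polynomial.X) := by simpa [e] using hr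
  refine ⟨IsLocalization.Away.lift (S := GmRing.{u}) Polynomial.X he, ?_, fun χ hχ => ?_⟩
  · show IsLocalization.Away.lift _ he (algebraMap _ _ Polynomial.X) = r
    rw [IsLocalization.Away.lift_eq]
    simp [e]
  · refine IsLocalization.ringHom_ext
      (Submonoid.powers (Polynomial.X : Polynomial (ULift.{u} ℤ))) ?_
    rw [IsLocalization.Away.lift_comp]
    refine Polynomial.ringHom_ext (fun a => RingHom.congr_fun (ulift_hom_ext
      ((χ.comp (algebraMap _ _)).comp Polynomial.C) (e.comp Polynomial.C)) a) ?_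
    simpa [e] using hχ

/-- The value of a point of the unit scheme. -/
abbrev unitVal {W : Scheme.{u}} (m : W ⟶ Spec GmRing.{u}) : Γ(W, ⊤) :=
  m.appTop.hom ((Scheme.ΓSpecIso GmRing.{u}).inv.hom tvar)

theorem existsUnique_pt {W : Scheme.{u}} {r : Γ(W, ⊤)} (hr : IsUnit r) :
    ∃! m : W ⟶ Spec GmRing.{u}, unitVal m = r := by
  obtain ⟨χ, hχ, hu⟩ := existsUnique_hom hr
  refine ⟨W.toSpecΓ ≫ Spec.map (CommRingCat.ofHom χ), ?_, fun m hm => ?_⟩
  · rw [← hχ]
    show ((Scheme.ΓSpecIso GmRing.{u}).inv ≫ (W.toSpecΓ ≫ Spec.map (CommRingCat.ofHom χ)).appTop).hom tvar =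
      χ tvar
    rw [Scheme.Hom.comp_appTop, ← Scheme.ΓSpecIso_inv_naturality_assoc, Scheme.toSpecΓ_appTop,
      Iso.inv_hom_id, Category.comp_id]
    rfl
  · have : m = W.toSpecΓ ≫ Spec.map ((Scheme.ΓSpecIso GmRing.{u}).inv ≫ m.appTop) := by
      rw [Spec.map_comp, ← Scheme.toSpecΓ_naturality_assoc, toSpecΓ_SpecMap_ΓSpecIso_inv,
        Category.comp_id]
    rw [this, ← hu ((Scheme.ΓSpecIso GmRing.{u}).inv ≫ m.appTop).hom hm]
    rfl

theorem isUnit_unitVal {W : Scheme.{u}} (m : W ⟶ Spec GmRing.{u}) : IsUnit (unitVal m) :=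
  ((IsLocalization.map_units _ (⟨Polynomial.X, 1, pow_one _⟩ :
    Submonoid.powers (Polynomial.X : Polynomial (ULift.{u} ℤ)))).map (Scheme.ΓSpecIso GmRing.{u}).inv.hom).map
      m.appTop.hom

variable (N) in
/-- An open subscheme with a frame. -/
structure Idx : Type u where
  U : X.Opens
  h : FObj N (U : Scheme.{u})
  base : h.1.base = U.ι

/-- A chart. -/
abbrev chart (c : Idx N) : Scheme.{u} := (c.U : Scheme.{u}) ⨯ Spec GmRing.{u}

/-- The frame on a chart. -/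
def chartElt (c : Idx N) : FObj N (chart c) :=
  ⟨Scalars.act (a := ob (chart c)) (unitVal Limits.prod.snd) (mapF Limits.prod.fst c.h).1, by
    obtain ⟨r', hr'⟩ := (isUnit_unitVal (W := chart c) Limits.prod.snd).exists_right_inv
    haveI : IsIso (Scalars.sm (ob (chart c)) (unitVal Limits.prod.snd)) :=
      ⟨Scalars.sm (ob (chart c)) r', by rw [Scalars.sm_mul, mul_comm, hr', Scalars.sm_one],
        by rw [Scalars.sm_mul, hr', Scalars.sm_one]⟩
    exact @IsIso.comp_isIso _ _ _ _ _ _ _ this (mapF Limits.prod.fst c.h).2⟩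

theorem mapF_chartElt (c : Idx N) {W : Scheme.{u}} (a : W ⟶ chart c) :
    (mapF a (chartElt c)).1 = Scalars.act (a := ob W) (unitVal (a ≫ Limits.prod.snd))
      (mapF (a ≫ Limits.prod.fst) c.h).1 := by
  show ι a ≫ Scalars.act _ _ = _
  rw [mapF_act, mapF_comp]
  have e : a.appTop.hom (unitVal (W := chart c) Limits.prod.snd) = unitVal (a ≫ Limits.prod.snd) := by
    simp only [unitVal, Scheme.Hom.comp_appTop, CommRingCat.hom_comp, RingHom.comp_apply]
  rw [e]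
  rfl

include hN

/-- The chart map. -/
def chartMap (c : Idx N) : yoneda.obj (chart c) ⟶ (sheaf hN).obj :=
  yonedaEquiv.symm (chartElt c : FObj N (chart c))

theorem chartMap_app (c : Idx N) {W : Scheme.{u}} (a : W ⟶ chart c) :
    (chartMap hN c).app (op W) a = mapF a (chartElt c) := rfl

omit hN in
theorem exists_lift (c : Idx N) {W : Scheme.{u}} (h : FObj N W) (y : W ⟶ (c.U : Scheme.{u}))
    (hy : y ≫ c.U.ι = h.1.base) :
    ∃ a : W ⟶ chart c, a ≫ Limits.prod.fst = y ∧ mapF a (chartElt c) = h := by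
  obtain ⟨r, hr, he⟩ := exists_unit (mapF y c.h) h (hy.symm.trans (by
    show _ = (ι y ≫ c.h.1).base
    rw [CoGrothendieck.categoryStruct_comp_base, c.base]
    rfl))
  obtain ⟨m, hm, -⟩ := existsUnique_pt hr
  refine ⟨Limits.prod.lift y m, Limits.prod.lift_fst _ _, Subtype.ext ?_⟩
  rw [mapF_chartElt, Limits.prod.lift_fst, Limits.prod.lift_snd, hm, he]

omit hN in
theorem base_chartElt (c : Idx N) {W : Scheme.{u}} (a : W ⟶ chart c) :
    (mapF a (chartElt c)).1.base = (a ≫ Limits.prod.fst) ≫ c.U.ι := by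
  rw [mapF_chartElt, Scalars.act_base]
  show (ι _ ≫ c.h.1).base = _
  rw [CoGrothendieck.categoryStruct_comp_base, c.base]
  rfl

theorem chartMap_isOpenImmersion (c : Idx N) : IsOpenImmersion.presheaf (chartMap hN c) := by
  refine MorphismProperty.relative.of_exists fun T g => ?_
  let h : FObj N T := yonedaEquiv g
  let O : T.Opens := h.1.base ⁻¹ᵁ c.U
  let y : (O : Scheme.{u}) ⟶ (c.U : Scheme.{u}) := h.1.base ∣_ c.U
  obtain ⟨k, hk1, hk⟩ := exists_lift c (mapF O.ι h) y (morphismRestrict_ι _ _)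
  refine ⟨(O : Scheme.{u}), yoneda.map k, O.ι, ?_, inferInstanceAs (IsOpenImmersion O.ι)⟩
  have hg : ∀ {W : Scheme.{u}} (a : W ⟶ T), g.app (op W) a = mapF a h := fun a => by
    have := congr($(g.naturality a.op) (𝟙 T))
    simp [h, yonedaEquiv_apply] at this ⊢
    exact this
  refine IsPullback.of_forall_isPullback_app fun W => ?_
  rw [Types.isPullback_iff]
  obtain ⟨W⟩ := W
  refine ⟨?_, fun a b ⟨_, h2⟩ => ?_, fun (a : W ⟶ chart c) (b : W ⟶ T) hab => ?_⟩
  · ext a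
    show (chartMap hN c).app (op W) (a ≫ k) = g.app (op W) (a ≫ O.ι)
    rw [chartMap_app, hg, mapF_comp, mapF_comp, hk]
  · exact (cancel_mono O.ι).mp h2
  · change (chartMap hN c).app (op W) a = g.app (op W) b at hab
    rw [chartMap_app, hg] at hab
    have hb : (a ≫ Limits.prod.fst) ≫ c.U.ι = b ≫ h.1.base :=
      (base_chartElt c a).symm.trans (congrArg (fun z => z.1.base) hab)
    have hrange : Set.range b ⊆ Set.range O.ι := by
      rw [Scheme.Opens.range_ι]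
      rintro _ ⟨z, rfl⟩
      show h.1.base (b z) ∈ c.U
      rw [← Scheme.Hom.comp_apply, ← hb, Scheme.Hom.comp_apply]
      exact ((a ≫ Limits.prod.fst) z).2
    let b' : W ⟶ O := IsOpenImmersion.lift O.ι b hrange
    have hb' : b' ≫ O.ι = b := IsOpenImmersion.lift_fac _ _ _
    refine ⟨b', ?_, hb'⟩
    show b' ≫ k = a
    have hfst : (b' ≫ k) ≫ Limits.prod.fst = a ≫ Limits.prod.fst := by
      rw [← cancel_mono c.U.ι, hb, Category.assoc b', hk1, Category.assoc, morphismRestrict_ι,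
        ← Category.assoc, hb']
    refine Limits.prod.hom_ext hfst ?_
    have hu : unitVal ((b' ≫ k) ≫ Limits.prod.snd) = unitVal (a ≫ Limits.prod.snd) := by
      refine Scalars.act_injective (invertible_ob W) (h := (mapF (a ≫ Limits.prod.fst) c.h).1)
        (mapF _ _).2 ?_
      conv_lhs => rw [← hfst]
      rw [← mapF_chartElt, ← mapF_chartElt, mapF_comp, hk, ← mapF_comp, hb', hab]
    exact (existsUnique_pt (isUnit_unitVal (a ≫ Limits.prod.snd))).unique hu rfl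

theorem exists_idx (x : X) : ∃ c : Idx N, x ∈ c.U := by
  obtain ⟨U, hxU, ⟨e⟩⟩ := hN x
  let e' := e.symm ≪≫ (Scheme.Modules.restrictFunctorIsoPullback U.ι).app N
  exact ⟨⟨U, ⟨⟨U.ι, e'.hom⟩, inferInstanceAs (IsIso e'.hom)⟩, rfl⟩, hxU⟩

/-- The functor of frames is representable. -/
theorem exists_frames : ∃ (P : Scheme.{u}) (h₀ : FObj N P),
    ∀ (T : Scheme.{u}) (h : FObj N T), ∃! g : T ⟶ P, mapF g h₀ = h := by
  have hf := fun c => chartMap_isOpenImmersion hN c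
  haveI : Presheaf.IsLocallySurjective Scheme.zariskiTopology
      (Sigma.desc (fun c : Idx N => chartMap hN c)) := by
    constructor
    intro T h
    let h' : FObj N T := h
    choose c hc using fun t : T => exists_idx hN (h'.1.base t)
    let 𝓤 : T.OpenCover := T.openCoverOfIsOpenCover (fun t => h'.1.base ⁻¹ᵁ (c t).U)
      (TopologicalSpace.IsOpenCover.mk (eq_top_iff.mpr fun t _ =>
        TopologicalSpace.Opens.mem_iSup.mpr ⟨t, hc t⟩))
    refine GrothendieckTopology.superset_covering _ ?_ 𝓤.mem_grothendieckTopology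
    rintro V e ⟨V', a, -, ⟨t⟩, rfl⟩
    refine Sieve.downward_closed _ ?_ a
    obtain ⟨k, -, hk⟩ := exists_lift (c t) (mapF (h'.1.base ⁻¹ᵁ (c t).U).ι h')
      (h'.1.base ∣_ (c t).U) (morphismRestrict_ι _ _)
    refine ⟨(Sigma.ι (fun c : Idx N => yoneda.obj (chart c)) (c t)).app _ k, ?_⟩
    show (Sigma.ι (fun c : Idx N => yoneda.obj (chart c)) (c t) ≫ Sigma.desc _).app _ k = _
    rw [Sigma.ι_desc]
    exact hk
  let G := (Scheme.LocalRepresentability.glueData hf).glued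
  let rep : (functor N).RepresentableBy G := Scheme.LocalRepresentability.representableBy hf
  refine ⟨G, rep.homEquiv (𝟙 G), fun T h => ?_⟩
  have hz : ∀ m : T ⟶ G, rep.homEquiv m = mapF m (rep.homEquiv (𝟙 G)) := fun m => by
    rw [rep.homEquiv_eq]; rfl
  refine ⟨rep.homEquiv.symm h, (hz _).symm.trans (rep.homEquiv.apply_symm_apply h), fun g hg => ?_⟩
  exact (Equiv.eq_symm_apply rep.homEquiv).mpr ((hz g).trans hg)

end Groth.Agent.Lib.H3.FrameRep
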