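import Groth.Agent.H3.ThetaMaps
import Groth.Agent.Lib.H3.FrameRep
import Groth.Agent.Lib.H3.KLExists

/-!
# Representability of the theta group
-/

set_option autoImplicit false
set_option linter.style.haveILetI false

universe u

open CategoryTheory MonoidalCategory CartesianMonoidalCategory MonObj AlgebraicGeometry Opposite
open Pseudofunctor Bicategory

noncomputable section

namespace Groth.Agent.Lib.H3.ThetaRep

open Groth.Agent.H3 Groth.Agent.Lib.H3.FrameRep

variable {S : Scheme.{u}} {A : Over S} [GrpObj A]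

/-- The unit section of `A × T → T`. -/
abbrev sec (A : Over S) [GrpObj A] (T : Over S) : T ⟶ A ⊗ T := lift (toUnit T ≫ η[A]) (𝟙 T)

variable {L : A.left.Modules}

theorem isIso_toBase_fiber (T : Over S) : IsIso (Cartesian.toBase L T).fiber :=
  inferInstanceAs (IsIso (𝟙 ((Scheme.Modules.pullback (fst A T).left).obj L)))

theorem isIso_bcLift_fiber {T G : Over S} (g : T ⟶ G) : IsIso (ThetaGrp.bcLift A L g).fiber :=
  ThetaMaps.isIso_fiber_of_comp _ (Cartesian.toBase L G) (isIso_toBase_fiber G)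
    (by rw [Cartesian.bcLift_toBase]; exact isIso_toBase_fiber T)

theorem bcLift_base {T G : Over S} (g : T ⟶ G) : (ThetaGrp.bcLift A L g).base = (A ◁ g).left := rfl

theorem bcLift_id (T : Over S) :
    ThetaGrp.bcLift A L (𝟙 T) = 𝟙 (ThetaGrp.thetaObj A L T) := by
  refine Cartesian.eq_of_comp_eq (Cartesian.toBase L T) (isIso_toBase_fiber T) ?_ ?_
  · rw [bcLift_base, MonoidalCategory.whiskerLeft_id]; rfl
  · rw [Cartesian.bcLift_toBase, Category.id_comp]

theorem bcLift_comp {T U V : Over S} (g : T ⟶ U) (h : U ⟶ V) :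
    ThetaGrp.bcLift A L (g ≫ h) = ThetaGrp.bcLift A L g ≫ ThetaGrp.bcLift A L h := by
  refine Cartesian.eq_of_comp_eq (Cartesian.toBase L V) (isIso_toBase_fiber V) ?_ ?_
  · rw [CoGrothendieck.categoryStruct_comp_base, bcLift_base, bcLift_base, bcLift_base,
      MonoidalCategory.whiskerLeft_comp]
    rfl
  · rw [Category.assoc, Cartesian.bcLift_toBase, Cartesian.bcLift_toBase, Cartesian.bcLift_toBase]

theorem exists_baseChange {T G : Over S} (g : T ⟶ G) (γ : ThetaGrp.thetaPts A L G) :
    ∃ β : ThetaGrp.thetaPts A L T, ThetaGrp.IsBaseChange β g γ := by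
  obtain ⟨x, hx⟩ := γ.2
  obtain ⟨β, -, hβ⟩ := ThetaMaps.exists_lift (ThetaGrp.bcLift A L g) (isIso_bcLift_fiber g) γ
    (x := g ≫ x) (y := x) hx (by
      rw [bcLift_base, ← Over.comp_left, ← Over.comp_left]
      congr 1
      apply CartesianMonoidalCategory.hom_ext
      · simp only [Category.assoc, whiskerLeft_fst, ThetaGrp.transl_fst, MonObj.comp_mul,
          whiskerLeft_snd_assoc]
      · simp only [Category.assoc, whiskerLeft_snd, ThetaGrp.transl_snd]
        rw [← Category.assoc, ThetaGrp.transl_snd])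
  exact ⟨β, hβ⟩

theorem baseChange_unique {T G : Over S} {g : T ⟶ G} {γ : ThetaGrp.thetaPts A L G}
    {β β' : ThetaGrp.thetaPts A L T} (h : ThetaGrp.IsBaseChange β g γ)
    (h' : ThetaGrp.IsBaseChange β' g γ) : β = β' := by
  obtain ⟨x, hx⟩ := γ.2
  obtain ⟨y, hy⟩ := β.2
  obtain ⟨y', hy'⟩ := β'.2
  have e1 := Cartesian.overPt_baseChange h hx hy
  have e2 := Cartesian.overPt_baseChange h' hx hy'
  refine Subtype.ext (Aut.ext (Cartesian.eq_of_comp_eq _ (isIso_bcLift_fiber g) ?_ (h.trans h'.symm)))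
  rw [hy, hy', e1, e2]

/-- Base change of points. -/
def bc {T G : Over S} (g : T ⟶ G) (γ : ThetaGrp.thetaPts A L G) : ThetaGrp.thetaPts A L T :=
  (exists_baseChange g γ).choose

theorem bc_spec {T G : Over S} (g : T ⟶ G) (γ : ThetaGrp.thetaPts A L G) :
    ThetaGrp.IsBaseChange (bc g γ) g γ := (exists_baseChange g γ).choose_spec

theorem bc_eq {T G : Over S} {g : T ⟶ G} {γ : ThetaGrp.thetaPts A L G}
    {β : ThetaGrp.thetaPts A L T} (h : ThetaGrp.IsBaseChange β g γ) : bc g γ = β :=
  baseChange_unique (bc_spec g γ) h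

theorem bc_mul {T G : Over S} (g : T ⟶ G) (γ γ' : ThetaGrp.thetaPts A L G) :
    bc g (γ * γ') = bc g γ * bc g γ' :=
  bc_eq (ThetaMaps.comp_eq_of_lift (bc_spec g γ) (bc_spec g γ'))

variable (A L) in
/-- The functor of points of the theta group. -/
def ptsFunctor : (Over S)ᵒᵖ ⥤ GrpCat.{u} where
  obj T := GrpCat.of (ThetaGrp.thetaPts A L T.unop)
  map g := GrpCat.ofHom (MonoidHom.mk' (bc g.unop) (bc_mul g.unop))
  map_id T := by
    refine GrpCat.hom_ext (MonoidHom.ext fun β => ?_)
    refine bc_eq ?_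
    show _ ≫ _ = _ ≫ _
    rw [show (𝟙 T : T ⟶ T).unop = 𝟙 _ from rfl, bcLift_id, Category.id_comp, Category.comp_id]
    rfl
  map_comp g g' := by
    refine GrpCat.hom_ext (MonoidHom.ext fun β => ?_)
    refine bc_eq ?_
    show _ ≫ _ = _ ≫ _
    show (bc g'.unop (bc g.unop β)).1.hom ≫ ThetaGrp.bcLift A L (g'.unop ≫ g.unop) = _
    rw [bcLift_comp, ← Category.assoc,
      show _ ≫ ThetaGrp.bcLift A L g'.unop = _ from bc_spec g'.unop (bc g.unop β), Category.assoc,
      show _ ≫ ThetaGrp.bcLift A L g.unop = _ from bc_spec g.unop β]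
    show _ = ThetaGrp.bcLift A L (g'.unop ≫ g.unop) ≫ _
    rw [bcLift_comp, Category.assoc]

section Field

variable {k : Type u} [Field k] {A : Over (Spec (CommRingCat.of k))} [GrpObj A]
  {L : A.left.Modules} (hL : PicF.IsInvertible L)

include hL in
theorem exists_unitFrame : ∃ h : FObj L (𝟙_ (Over (Spec (CommRingCat.of k)))).left,
    h.1.base = η[A].left := by
  haveI : Subsingleton (𝟙_ (Over (Spec (CommRingCat.of k)))).left :=
    inferInstanceAs (Subsingleton (Spec (CommRingCat.of k)))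
  haveI : Nonempty (𝟙_ (Over (Spec (CommRingCat.of k)))).left :=
    inferInstanceAs (Nonempty (Spec (CommRingCat.of k)))
  obtain ⟨e⟩ := PicCalc.isInvertible_subsingleton (PicLoc.isInvertible_pullback η[A].left hL)
  exact ⟨⟨mkH η[A].left e.inv, inferInstanceAs (IsIso e.inv)⟩, rfl⟩

/-- A frame of `L` along the unit. -/
def unitFrame : FObj L (𝟙_ (Over (Spec (CommRingCat.of k)))).left := (exists_unitFrame hL).choose

theorem exists_sigma (T : Over (Spec (CommRingCat.of k))) :
    ∃ h : ob T.left ⟶ ThetaGrp.thetaObj A L T, h.base = (sec A T).left ∧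
      h ≫ Cartesian.toBase L T = (mapF (toUnit T).left (unitFrame hL)).1 := by
  obtain ⟨h, ⟨hb, hh⟩, -⟩ := Cartesian.exists_unique_lift (Cartesian.toBase L T)
    (isIso_toBase_fiber T) (a := ob T.left) (sec A T).left (mapF (toUnit T).left (unitFrame hL)).1 (by
      show (FrameRep.ι (toUnit T).left ≫ (unitFrame hL).1).base = (sec A T).left ≫ (fst A T).left
      rw [CoGrothendieck.categoryStruct_comp_base,
        show (unitFrame hL).1.base = η[A].left from (exists_unitFrame hL).choose_spec,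
        ← Over.comp_left, lift_fst]
      rfl)
  exact ⟨h, hb, hh⟩

/-- The canonical morphism over the unit section. -/
def sigma (T : Over (Spec (CommRingCat.of k))) : ob T.left ⟶ ThetaGrp.thetaObj A L T :=
  (exists_sigma hL T).choose

theorem sigma_base (T : Over (Spec (CommRingCat.of k))) : (sigma hL T).base = (sec A T).left :=
  (exists_sigma hL T).choose_spec.1

theorem sigma_toBase (T : Over (Spec (CommRingCat.of k))) :
    sigma hL T ≫ Cartesian.toBase L T = (mapF (toUnit T).left (unitFrame hL)).1 :=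
  (exists_sigma hL T).choose_spec.2

theorem isIso_sigma_fiber (T : Over (Spec (CommRingCat.of k))) : IsIso (sigma hL T).fiber :=
  ThetaMaps.isIso_fiber_of_comp _ (Cartesian.toBase L T) (isIso_toBase_fiber T)
    (by rw [sigma_toBase]; exact (mapF (toUnit T).left (unitFrame hL)).2)

theorem sigma_natural {T' T : Over (Spec (CommRingCat.of k))} (g : T' ⟶ T) :
    sigma hL T' ≫ ThetaGrp.bcLift A L g = FrameRep.ι g.left ≫ sigma hL T := by
  refine Cartesian.eq_of_comp_eq (Cartesian.toBase L T) (isIso_toBase_fiber T) ?_ ?_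
  · rw [CoGrothendieck.categoryStruct_comp_base, CoGrothendieck.categoryStruct_comp_base,
      sigma_base, sigma_base, bcLift_base]
    show _ = g.left ≫ _
    rw [← Over.comp_left, ← Over.comp_left]
    congr 1
    apply CartesianMonoidalCategory.hom_ext
    · simp
    · simp
  · rw [Category.assoc, Cartesian.bcLift_toBase, sigma_toBase, Category.assoc, sigma_toBase]
    show _ = (mapF g.left (mapF (toUnit T).left (unitFrame hL))).1
    rw [← mapF_comp, ← Over.comp_left, toUnit_unique (g ≫ toUnit T) (toUnit T')]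

/-- The frame attached to a point. -/
def res {T : Over (Spec (CommRingCat.of k))} (β : ThetaGrp.thetaPts A L T) : FObj L T.left :=
  ⟨sigma hL T ≫ β.1.hom ≫ Cartesian.toBase L T,
    ThetaMaps.isIso_fiber_comp _ _ (isIso_sigma_fiber hL T)
      (ThetaMaps.isIso_fiber_comp _ _ (ThetaMaps.isIso_fiber_pt β) (isIso_toBase_fiber T))⟩

theorem res_base {T : Over (Spec (CommRingCat.of k))} {β : ThetaGrp.thetaPts A L T} {x : T ⟶ A}
    (hx : ThetaGrp.IsOverPt β x) : (res hL β).1.base = x.left := by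
  show (sigma hL T ≫ β.1.hom ≫ Cartesian.toBase L T).base = _
  rw [CoGrothendieck.categoryStruct_comp_base, CoGrothendieck.categoryStruct_comp_base, sigma_base, hx]
  show _ ≫ _ ≫ (fst A T).left = _
  rw [← Over.comp_left, ← Over.comp_left]
  congr 1
  rw [ThetaGrp.transl_fst, MonObj.comp_mul, lift_fst, lift_snd_assoc, Category.id_comp,
    MonObj.one_eq_one, MonObj.comp_one, _root_.one_mul]

theorem res_natural {T' T : Over (Spec (CommRingCat.of k))} {g : T' ⟶ T}
    {β' : ThetaGrp.thetaPts A L T'} {β : ThetaGrp.thetaPts A L T}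
    (h : ThetaGrp.IsBaseChange β' g β) : res hL β' = mapF g.left (res hL β) := by
  refine Subtype.ext ?_
  show sigma hL T' ≫ β'.1.hom ≫ Cartesian.toBase L T' = FrameRep.ι g.left ≫ sigma hL T ≫ β.1.hom ≫ _
  rw [← Cartesian.bcLift_toBase L g, ← Category.assoc β'.1.hom,
    show β'.1.hom ≫ ThetaGrp.bcLift A L g = _ from h, Category.assoc, ← Category.assoc (sigma hL T'),
    sigma_natural, Category.assoc]

theorem res_act {T : Over (Spec (CommRingCat.of k))} (r : Γ((A ⊗ T).left, ⊤))
    (h : ThetaGrp.thetaObj A L T ⟶ ThetaGrp.thetaObj A L T) :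
    sigma hL T ≫ Scalars.act r h ≫ Cartesian.toBase L T =
      Scalars.act (a := ob T.left) ((sec A T).left.appTop.hom r)
        (sigma hL T ≫ h ≫ Cartesian.toBase L T) := by
  rw [Scalars.act_comp, Scalars.comp_act]
  congr 1
  rw [sigma_base]

variable [IsProper A.hom] [GeometricallyIntegral A.hom]

include hL in
theorem res_injective {T : Over (Spec (CommRingCat.of k))} {β β' : ThetaGrp.thetaPts A L T}
    (h : res hL β = res hL β') : β = β' := by
  obtain ⟨x, hx⟩ := β.2
  obtain ⟨x', hx'⟩ := β'.2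
  have hxx : x' = x := Over.OverMorphism.ext
    ((res_base hL hx').symm.trans ((congrArg (fun z => z.1.base) h).symm.trans (res_base hL hx)))
  have hinv : PicF.IsInvertible (Y := (ThetaGrp.thetaObj A L T).base)
      (ThetaGrp.thetaObj A L T).fiber := PicLoc.isInvertible_pullback (fst A T).left hL
  obtain ⟨r, hr⟩ := Scalars.exists_eq_act hinv β.1.hom β'.1.hom (ThetaMaps.isIso_fiber_pt β)
    (by rw [hx', hx, hxx])
  have h1 : (sec A T).left.appTop.hom r = 1 := by
    refine Scalars.act_injective (invertible_ob T.left) (h := (res hL β).1) (res hL β).2 ?_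
    rw [Scalars.act_one]
    refine Eq.trans ?_ (congrArg Subtype.val h).symm
    show _ = sigma hL T ≫ β'.1.hom ≫ _
    rw [hr, res_act]
    rfl
  have hr1 : r = 1 := by rw [Scalars.eq_snd_appTop T r, h1, map_one]
  refine Subtype.ext (Aut.ext ?_)
  rw [hr, hr1, Scalars.act_one]

variable [∀ Y : Scheme.{u}, PicGrp.Law Y]

include hL in
theorem exists_pt {K : Over (Spec (CommRingCat.of k))} {i : K ⟶ A} (hK : ThetaGrp.IsKL A L i)
    {T : Over (Spec (CommRingCat.of k))} {x : T ⟶ A} (hx : ∃ y : T ⟶ K, y ≫ i = x)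
    (h : FObj L T.left) (hb : h.1.base = x.left) : ∃ β, res hL β = h := by
  haveI : Subsingleton (Spec (CommRingCat.of k)) := inferInstance
  obtain ⟨n, hn⟩ := (KLBasics.factors_iff hL hK x).mp hx
  have hn1 : n = 1 := by
    rw [hn.eq_pullback]
    obtain ⟨φ, hφ⟩ := exists_mk (M := Coh.structureModule T.left) h.1 hb
    haveI : IsIso φ := by have := h.2; rw [hφ] at this; exact this
    refine Subtype.ext ?_
    rw [PicCalc.ph_val, PicGrp.cls_val, PicLoc.pullCl_cl, PicGrp.one_val]
    exact (PicGrp.cl_eq_cl_iff _ _).mpr ⟨(asIso φ).symm⟩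
  subst hn1
  obtain ⟨β₀, hβ₀⟩ := (ThetaPts.exists_thetaPt_iff hL x).mpr hn
  obtain ⟨c, hc, he⟩ := exists_unit (res hL β₀) h (hb.trans (res_base hL hβ₀).symm)
  let r := (snd A T).left.appTop.hom c
  have hr : (sec A T).left.appTop.hom r = c := by
    show ((snd A T).left.appTop ≫ (sec A T).left.appTop).hom c = c
    rw [← Scheme.Hom.comp_appTop, ← Over.comp_left, lift_snd]
    simp
  obtain ⟨r', hr'⟩ := (hc.map (snd A T).left.appTop.hom).exists_right_inv
  let f := Scalars.act r β₀.1.hom
  have hf : IsIso f.fiber := by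
    haveI : IsIso (Scalars.sm (ThetaGrp.thetaObj A L T) r) :=
      ⟨Scalars.sm (ThetaGrp.thetaObj A L T) r', by rw [Scalars.sm_mul, mul_comm, hr', Scalars.sm_one],
        by rw [Scalars.sm_mul, hr', Scalars.sm_one]⟩
    exact @IsIso.comp_isIso _ _ _ _ _ _ _ this (ThetaMaps.isIso_fiber_pt β₀)
  have : IsIso f := CoGrothIso.isIso_of_base_fiber f
    (by rw [Scalars.act_base, hβ₀]; exact ThetaPts.isIso_transl x) hf
  refine ⟨⟨asIso f, x, by rw [asIso_hom, Scalars.act_base]; exact hβ₀⟩, Subtype.ext ?_⟩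
  show sigma hL T ≫ f ≫ _ = _
  rw [res_act, hr, he]
  rfl

include hL in
theorem factors {K : Over (Spec (CommRingCat.of k))} {i : K ⟶ A} (hK : ThetaGrp.IsKL A L i)
    {T : Over (Spec (CommRingCat.of k))} {β : ThetaGrp.thetaPts A L T} {x : T ⟶ A}
    (hx : ThetaGrp.IsOverPt β x) : ∃ y : T ⟶ K, y ≫ i = x :=
  (KLBasics.factors_iff hL hK x).mpr ⟨1, (ThetaPts.exists_thetaPt_iff hL x).mp ⟨β, hx⟩⟩

end Field

/-- The theta group is representable. -/
theorem exists_thetaGrpSch {k : Type u} [Field k] (A : Over (Spec (CommRingCat.of k))) [GrpObj A]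
    [IsProper A.hom] [GeometricallyIntegral A.hom] (L : A.left.Modules) (hL : PicF.IsInvertible L) :
    ∃ (G : Over (Spec (CommRingCat.of k))) (_ : GrpObj G) (u : ThetaGrp.thetaPts A L G),
      ThetaGrp.IsThetaGrpSch A L G u := by
  letI : ∀ Y : Scheme.{u}, PicGrp.Law Y := Groth.Agent.Lib.TensorMod.Invertible.law
  obtain ⟨K, i, hK⟩ := KLExists.exists_isKL k A L hL
  haveI : IsClosedImmersion i.left := hK.closed
  obtain ⟨P, h₀, hP⟩ := exists_frames hL
  let G : Over (Spec (CommRingCat.of k)) :=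
    Over.mk (Limits.pullback.snd h₀.1.base i.left ≫ K.hom)
  let πK : G ⟶ K := Over.homMk (Limits.pullback.snd h₀.1.base i.left) rfl
  let fG : FObj L G.left := mapF (Limits.pullback.fst h₀.1.base i.left) h₀
  have hfG : fG.1.base = (πK ≫ i).left := Limits.pullback.condition
  obtain ⟨u, hu⟩ := exists_pt hL hK ⟨πK, rfl⟩ fG hfG
  have key : ∀ (T : Over (Spec (CommRingCat.of k))) (β : ThetaGrp.thetaPts A L T),
      ∃! g : T ⟶ G, bc g u = β := by
    intro T β
    obtain ⟨x, hx⟩ := β.2
    obtain ⟨y, hy⟩ := factors hL hK hx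
    obtain ⟨g₀, hg₀, huniq⟩ := hP T.left (res hL β)
    have hb : g₀ ≫ h₀.1.base = y.left ≫ i.left := by
      rw [← Over.comp_left, hy, ← res_base hL hx, ← hg₀]
      rfl
    have hbc : ∀ g : T ⟶ G, bc g u = β ↔ mapF g.left fG = res hL β := fun g => by
      rw [← hu, ← res_natural hL (bc_spec g u)]
      exact ⟨fun h => congrArg _ h, fun h => res_injective hL h⟩
    refine ⟨Over.homMk (Limits.pullback.lift g₀ y.left hb) ?_, (hbc _).2 ?_, fun g' hg' => ?_⟩
    · show Limits.pullback.lift g₀ y.left hb ≫ Limits.pullback.snd h₀.1.base i.left ≫ K.hom = T.hom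
      rw [Limits.pullback.lift_snd_assoc, Over.w y]
    · show mapF _ (mapF _ h₀) = _
      rw [← mapF_comp]
      exact (congrArg (fun z => mapF z h₀) (Limits.pullback.lift_fst _ _ _)).trans hg₀
    · have h := (hbc g').1 hg'
      have hfst : g'.left ≫ Limits.pullback.fst h₀.1.base i.left = g₀ :=
        huniq _ ((mapF_comp _ _ h₀).trans h)
      refine Over.OverMorphism.ext ?_
      show g'.left = Limits.pullback.lift g₀ y.left hb
      refine Limits.pullback.hom_ext (hfst.trans (Limits.pullback.lift_fst _ _ _).symm) ?_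
      refine Eq.trans ?_ (Limits.pullback.lift_snd _ _ _).symm
      rw [← cancel_mono i.left, Category.assoc, ← Limits.pullback.condition, ← Category.assoc, hfst, hb]
  let rep : (ptsFunctor A L ⋙ forget _).RepresentableBy G :=
    { homEquiv := fun {T} => Equiv.ofBijective (fun g : T ⟶ G => bc g u)
        ⟨fun g g' h => (key T (bc g' u)).unique h rfl, fun β => (key T β).exists⟩
      homEquiv_comp := fun {T T'} f g => by
        refine bc_eq ?_
        show (bc f (bc g u)).1.hom ≫ ThetaGrp.bcLift A L (f ≫ g) = _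
        rw [bcLift_comp, ← Category.assoc,
          show _ ≫ ThetaGrp.bcLift A L f = _ from bc_spec f (bc g u), Category.assoc,
          show _ ≫ ThetaGrp.bcLift A L g = _ from bc_spec g u, Category.assoc] }
  letI : GrpObj G := GrpObj.ofRepresentableBy G (ptsFunctor A L) rep
  refine ⟨G, inferInstance, u, ⟨fun T β => ?_, fun T g => ⟨bc g u, bc_spec g u, fun β h => (bc_eq h).symm⟩,
    fun T g h β₁ β₂ h₁ h₂ => ?_⟩⟩
  · obtain ⟨g, hg, hun⟩ := key T β
    exact ⟨g, hg ▸ bc_spec g u, fun g' hg' => hun g' (bc_eq hg')⟩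
  · have e : bc (g * h) u = bc g u * bc h u :=
      map_mul ((yonedaGrpObjIsoOfRepresentableBy G (ptsFunctor A L) rep).hom.app (op T)).hom g h
    rw [← bc_eq h₁, ← bc_eq h₂, ← e]
    exact bc_spec _ u

end Groth.Agent.Lib.H3.ThetaRep
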