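import Groth.Agent.Lib.H3.PairDesc
import Groth.Agent.Lib.H3.CharFin
import Groth.Agent.Lib.H3.ThetaRep
import Groth.Agent.H2.FlatHom.Field

/-!
# Invertible modules killed by a surjective homomorphism are finitely many
-/

set_option autoImplicit false
set_option linter.style.haveILetI false

universe u

open CategoryTheory MonoidalCategory CartesianMonoidalCategory MonObj AlgebraicGeometry Opposite
open Pseudofunctor Bicategory

noncomputable section

namespace Groth.Agent.Lib.H3.KerChar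

open Groth.Agent.H3 Groth.Agent.Lib Groth.Agent.Lib.H3.FrameRep

variable {k : Type u} [Field k] {A B : Over (Spec (CommRingCat.of k))} [GrpObj A] [GrpObj B]
  [IsProper A.hom] [GeometricallyIntegral A.hom] [IsProper B.hom] [GeometricallyIntegral B.hom]
  (f : A ⟶ B) [IsMonHom f]

theorem kerPt_unique (M : B.left.Modules) (e : Coh.structureModule A.left ≅ (Scheme.Modules.pullback f.left).obj M)
    {T : Over (Spec (CommRingCat.of k))} {x : T ⟶ A} (hx : x ≫ f = 1)
    {β β' : ThetaGrp.thetaPts A (Coh.structureModule A.left) T}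
    (h : ThetaGrp.IsOverPt β x) (hP : β.1.hom ≫ Cartesian.proj f M e T = Cartesian.proj f M e T)
    (h' : ThetaGrp.IsOverPt β' x) (hP' : β'.1.hom ≫ Cartesian.proj f M e T = Cartesian.proj f M e T) :
    β = β' :=
  (Cartesian.existsUnique_kernelPt f M e x hx).unique ⟨h, hP⟩ ⟨h', hP'⟩

theorem kerPt_mul (M : B.left.Modules) (e : Coh.structureModule A.left ≅ (Scheme.Modules.pullback f.left).obj M)
    {T : Over (Spec (CommRingCat.of k))} {β γ' : ThetaGrp.thetaPts A (Coh.structureModule A.left) T}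
    (hP : β.1.hom ≫ Cartesian.proj f M e T = Cartesian.proj f M e T)
    (hP' : γ'.1.hom ≫ Cartesian.proj f M e T = Cartesian.proj f M e T) :
    (β * γ').1.hom ≫ Cartesian.proj f M e T = Cartesian.proj f M e T := by
  show (γ'.1.hom ≫ β.1.hom) ≫ _ = _
  rw [Category.assoc, hP, hP']

theorem inv_pullback : PicF.IsInvertible (Coh.structureModule A.left) :=
  PicLoc.isInvertible_structureModule A.left

/-- The kernel, as a scheme. -/
abbrev ker : Over (Spec (CommRingCat.of k)) :=
  Over.mk (Limits.pullback.snd f.left η[B].left ≫ (𝟙_ (Over (Spec (CommRingCat.of k)))).hom)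

/-- Its inclusion. -/
abbrev kerι : ker f ⟶ A := Over.homMk (Limits.pullback.fst f.left η[B].left) (by
  show Limits.pullback.fst f.left η[B].left ≫ A.hom = _
  rw [← Over.w f, ← Category.assoc, Limits.pullback.condition, Category.assoc, Over.w η[B]]
  rfl)

theorem kerι_comp : kerι f ≫ f = 1 := by
  refine Over.OverMorphism.ext ?_
  show Limits.pullback.fst f.left η[B].left ≫ f.left = _
  rw [Limits.pullback.condition, Hom.one_def, Over.comp_left]
  refine congrArg (· ≫ η[B].left) ?_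
  show Limits.pullback.snd f.left η[B].left = _ ≫ 𝟙 _
  rw [Category.comp_id]

theorem exists_kerLift {T : Over (Spec (CommRingCat.of k))} (x : T ⟶ A) (hx : x ≫ f = 1) :
    ∃ y : T ⟶ ker f, y ≫ kerι f = x := by
  have h : x.left ≫ f.left = (toUnit T).left ≫ η[B].left := by
    rw [← Over.comp_left, hx, Hom.one_def, Over.comp_left]
  refine ⟨Over.homMk (Limits.pullback.lift x.left (toUnit T).left h) ?_,
    Over.OverMorphism.ext (Limits.pullback.lift_fst _ _ _)⟩
  show Limits.pullback.lift _ _ h ≫ Limits.pullback.snd _ _ ≫ _ = T.hom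
  rw [Limits.pullback.lift_snd_assoc, Over.w]

/-- The multiplication on the kernel. -/
theorem exists_kerMul : ∃ m : ker f ⊗ ker f ⟶ ker f,
    m ≫ kerι f = (snd _ _ ≫ kerι f) * (fst _ _ ≫ kerι f) :=
  exists_kerLift f _ (by
    rw [MonObj.mul_comp, Category.assoc, Category.assoc, kerι_comp, MonObj.comp_one, MonObj.comp_one,
      _root_.mul_one])

variable {f}

/-- The function comparing two lifts of a point of the kernel. -/
theorem exists_char {T : Over (Spec (CommRingCat.of k))} {x : T ⟶ A}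
    {β β₀ : ThetaGrp.thetaPts A (Coh.structureModule A.left) T}
    (h : ThetaGrp.IsOverPt β x) (h₀ : ThetaGrp.IsOverPt β₀ x) :
    ∃ r : Γ(T.left, ⊤), IsUnit r ∧ β.1.hom = Scalars.act ((snd A T).left.appTop.hom r) β₀.1.hom := by
  have hinv : PicF.IsInvertible (Y := (ThetaGrp.thetaObj A (Coh.structureModule A.left) T).base)
      (ThetaGrp.thetaObj A (Coh.structureModule A.left) T).fiber :=
    PicLoc.isInvertible_pullback (fst A T).left inv_pullback
  obtain ⟨r, hr⟩ := Scalars.exists_eq_act hinv β₀.1.hom β.1.hom (ThetaMaps.isIso_fiber_pt β₀) (h.trans h₀.symm)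
  obtain ⟨r', hr'⟩ := Scalars.exists_eq_act hinv β.1.hom β₀.1.hom (ThetaMaps.isIso_fiber_pt β) (h₀.trans h.symm)
  have hu : IsUnit r := by
    refine IsUnit.of_mul_eq_one r' ?_
    refine Scalars.act_injective hinv (h := β.1.hom) (ThetaMaps.isIso_fiber_pt β) ?_
    rw [Scalars.act_one]
    conv_rhs => rw [hr, hr', Scalars.act_act]
    rw [mul_comm]
  exact ⟨_, hu.map (ThetaRep.sec A T).left.appTop.hom, by rw [← Scalars.eq_snd_appTop T r]; exact hr⟩

theorem char_unique {T : Over (Spec (CommRingCat.of k))}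
    {β₀ : ThetaGrp.thetaPts A (Coh.structureModule A.left) T} {r r' : Γ(T.left, ⊤)}
    (h : Scalars.act ((snd A T).left.appTop.hom r) β₀.1.hom =
      Scalars.act ((snd A T).left.appTop.hom r') β₀.1.hom) : r = r' := by
  have e := Scalars.act_injective (a := ThetaGrp.thetaObj A (Coh.structureModule A.left) T)
    (PicLoc.isInvertible_pullback (fst A T).left inv_pullback) (ThetaMaps.isIso_fiber_pt β₀) h
  have e' := congrArg (fun c => (ThetaRep.sec A T).left.appTop.hom c) e
  rw [← CommRingCat.comp_apply, ← CommRingCat.comp_apply, ← Scheme.Hom.comp_appTop, ← Over.comp_left,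
    lift_snd] at e'
  simpa using e'

theorem char_natural {T T' : Over (Spec (CommRingCat.of k))} (g : T' ⟶ T)
    {β β₀ : ThetaGrp.thetaPts A (Coh.structureModule A.left) T}
    {β' β₀' : ThetaGrp.thetaPts A (Coh.structureModule A.left) T'}
    (hb : ThetaGrp.IsBaseChange β' g β) (hb₀ : ThetaGrp.IsBaseChange β₀' g β₀) {x' : T' ⟶ A}
    (hx' : ThetaGrp.IsOverPt β' x') (hx₀' : ThetaGrp.IsOverPt β₀' x')
    {r : Γ(T.left, ⊤)} (h : β.1.hom = Scalars.act ((snd A T).left.appTop.hom r) β₀.1.hom) :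
    β'.1.hom = Scalars.act ((snd A T').left.appTop.hom (g.left.appTop.hom r)) β₀'.1.hom := by
  refine Cartesian.eq_of_comp_eq (ThetaGrp.bcLift A (Coh.structureModule A.left) g)
    (ThetaRep.isIso_bcLift_fiber g) ?_ ?_
  · rw [Scalars.act_base, hx', hx₀']
  · rw [show β'.1.hom ≫ ThetaGrp.bcLift A _ g = _ from hb, h, Scalars.comp_act, Scalars.act_comp,
      show β₀'.1.hom ≫ ThetaGrp.bcLift A _ g = _ from hb₀]
    congr 1
    show (A ◁ g).left.appTop.hom _ = _
    rw [← CommRingCat.comp_apply, ← CommRingCat.comp_apply, ← Scheme.Hom.comp_appTop,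
      ← Scheme.Hom.comp_appTop, ← Over.comp_left, ← Over.comp_left, whiskerLeft_snd]

variable (f)

/-- `χ` is the function by which the kernel acts on the trivial module linearised by `(M, e)`. -/
def IsChar (e₀ : Coh.structureModule A.left ≅ (Scheme.Modules.pullback f.left).obj (Coh.structureModule B.left))
    (M : B.left.Modules) (e : Coh.structureModule A.left ≅ (Scheme.Modules.pullback f.left).obj M)
    (χ : Γ((ker f).left, ⊤)) : Prop :=
  ∃ v v₀ : ThetaGrp.thetaPts A (Coh.structureModule A.left) (ker f),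
    ThetaGrp.IsOverPt v (kerι f) ∧ v.1.hom ≫ Cartesian.proj f M e _ = Cartesian.proj f M e _ ∧
    ThetaGrp.IsOverPt v₀ (kerι f) ∧ v₀.1.hom ≫ Cartesian.proj f _ e₀ _ = Cartesian.proj f _ e₀ _ ∧
    v.1.hom = Scalars.act ((snd A (ker f)).left.appTop.hom χ) v₀.1.hom

theorem exists_isChar (e₀ : Coh.structureModule A.left ≅ (Scheme.Modules.pullback f.left).obj (Coh.structureModule B.left))
    (M : B.left.Modules) (e : Coh.structureModule A.left ≅ (Scheme.Modules.pullback f.left).obj M)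
    (m : ker f ⊗ ker f ⟶ ker f) (hm : m ≫ kerι f = (snd _ _ ≫ kerι f) * (fst _ _ ≫ kerι f)) :
    ∃ χ, IsChar f e₀ M e χ ∧ IsUnit χ ∧ m.left.appTop.hom χ =
      (fst (ker f) (ker f)).left.appTop.hom χ * (snd (ker f) (ker f)).left.appTop.hom χ := by
  obtain ⟨v, ⟨hv, hvP⟩, -⟩ := Cartesian.existsUnique_kernelPt f M e (kerι f) (kerι_comp f)
  obtain ⟨v₀, ⟨hv₀, hv₀P⟩, -⟩ := Cartesian.existsUnique_kernelPt f _ e₀ (kerι f) (kerι_comp f)
  obtain ⟨χ, hu, hχ⟩ := exists_char hv hv₀
  refine ⟨χ, ⟨v, v₀, hv, hvP, hv₀, hv₀P, hχ⟩, hu, ?_⟩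
  have hker : ∀ g : ker f ⊗ ker f ⟶ ker f, (g ≫ kerι f) ≫ f = 1 := fun g => by
    rw [Category.assoc, kerι_comp, MonObj.comp_one]
  have key : ∀ g : ker f ⊗ ker f ⟶ ker f, ∃ b b₀ : ThetaGrp.thetaPts A (Coh.structureModule A.left) _,
      ThetaGrp.IsOverPt b (g ≫ kerι f) ∧ b.1.hom ≫ Cartesian.proj f M e _ = Cartesian.proj f M e _ ∧
      ThetaGrp.IsOverPt b₀ (g ≫ kerι f) ∧ b₀.1.hom ≫ Cartesian.proj f _ e₀ _ = Cartesian.proj f _ e₀ _ ∧
      b.1.hom = Scalars.act ((snd A _).left.appTop.hom (g.left.appTop.hom χ)) b₀.1.hom := by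
    intro g
    obtain ⟨b, ⟨hb, hbP⟩, -⟩ := Cartesian.existsUnique_kernelPt f M e _ (hker g)
    obtain ⟨b₀, ⟨hb₀, hb₀P⟩, -⟩ := Cartesian.existsUnique_kernelPt f _ e₀ _ (hker g)
    exact ⟨b, b₀, hb, hbP, hb₀, hb₀P, char_natural g (Cartesian.kernelPt_isBaseChange f M e g hv hvP hb hbP)
      (Cartesian.kernelPt_isBaseChange f _ e₀ g hv₀ hv₀P hb₀ hb₀P) hb hb₀ hχ⟩
  obtain ⟨b, b₀, o, p, o₀, p₀, hb⟩ := key m
  obtain ⟨c, c₀, oc, pc, oc₀, pc₀, hc⟩ := key (fst _ _)
  obtain ⟨d, d₀, od, pd, od₀, pd₀, hd⟩ := key (snd _ _)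
  have hbcd : b = c * d :=
    kerPt_unique f M e (hker m) o p (by rw [hm]; exact Cartesian.overPt_mul oc od) (kerPt_mul f M e pc pd)
  have hbcd₀ : b₀ = c₀ * d₀ :=
    kerPt_unique f _ e₀ (hker m) o₀ p₀ (by rw [hm]; exact Cartesian.overPt_mul oc₀ od₀)
      (kerPt_mul f _ e₀ pc₀ pd₀)
  refine char_unique (β₀ := b₀) (hb.symm.trans ?_)
  rw [hbcd, hbcd₀]
  show d.1.hom ≫ c.1.hom = Scalars.act _ (d₀.1.hom ≫ c₀.1.hom)
  rw [hc, hd, Scalars.act_comp, Scalars.comp_act, Scalars.act_act, od₀, Scalars.transl_appTop, map_mul]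

variable [Surjective f.left]

theorem iso_of_isChar {e₀ : Coh.structureModule A.left ≅ (Scheme.Modules.pullback f.left).obj (Coh.structureModule B.left)}
    {M M' : B.left.Modules} (hM : PicF.IsInvertible M) (hM' : PicF.IsInvertible M')
    {e : Coh.structureModule A.left ≅ (Scheme.Modules.pullback f.left).obj M}
    {e' : Coh.structureModule A.left ≅ (Scheme.Modules.pullback f.left).obj M'}
    {χ : Γ((ker f).left, ⊤)} (h : IsChar f e₀ M e χ) (h' : IsChar f e₀ M' e' χ) :
    Nonempty (M ≅ M') := by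
  obtain ⟨v, v₀, hv, hvP, hv₀, hv₀P, hχ⟩ := h
  obtain ⟨v', v₀', hv', hv'P, hv₀', hv₀'P, hχ'⟩ := h'
  have hvv : v' = v := by
    have e00 : v₀' = v₀ := kerPt_unique f _ e₀ (kerι_comp f) hv₀' hv₀'P hv₀ hv₀P
    refine Subtype.ext (Aut.ext ?_)
    rw [hχ, hχ', e00]
  subst hvv
  haveI : GeometricallyReduced B.hom := inferInstance
  haveI : Flat f.left := Groth.Agent.H2.FlatHom.Field.flat_of_geometricallyReduced f
  haveI : IsProper (f.left ≫ B.hom) := by rw [Over.w]; infer_instance
  haveI : IsProper f.left := IsProper.of_comp f.left B.hom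
  refine (PairDesc.exists_desc f.left (M' := Coh.structureModule A.left) (M := M) (N := M') hM hM'
    (Cartesian.desc f M e) rfl e.isIso_hom (𝟙 B.left) (Cartesian.desc f M' e')
    (Category.comp_id _).symm e'.isIso_hom ?_).elim fun Φ hΦ => ?_
  rotate_left
  · obtain ⟨φ, rfl⟩ := exists_mk Φ hΦ.1
    haveI : IsIso φ := hΦ.2.1
    exact ⟨asIso φ ≪≫ (Scheme.Modules.pullbackId B.left).app M'⟩
  intro W q a₁ a₂ h₁ h₂
  have ha : a₁.base ≫ f.left = q := congrArg CoGrothendieck.Hom.base h₁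
  have hb : a₂.base ≫ f.left = q := congrArg CoGrothendieck.Hom.base h₂
  let T : Over (Spec (CommRingCat.of k)) := Over.mk (q ≫ B.hom)
  let aT : T ⟶ A := Over.homMk a₁.base (by
    show a₁.base ≫ A.hom = q ≫ B.hom
    exact (by rw [Category.assoc, Over.w f] : (a₁.base ≫ f.left) ≫ B.hom = a₁.base ≫ A.hom).symm.trans
      (congrArg (· ≫ B.hom) ha))
  let bT : T ⟶ A := Over.homMk a₂.base (by
    show a₂.base ≫ A.hom = q ≫ B.hom
    exact (by rw [Category.assoc, Over.w f] : (a₂.base ≫ f.left) ≫ B.hom = a₂.base ≫ A.hom).symm.trans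
      (congrArg (· ≫ B.hom) hb))
  have hn : (aT⁻¹ * bT) ≫ f = 1 := by
    rw [MonObj.mul_comp, GrpObj.inv_comp,
      show bT ≫ f = aT ≫ f from Over.OverMorphism.ext (hb.trans ha.symm), inv_mul_cancel]
  obtain ⟨y, hy⟩ := exists_kerLift f _ hn
  obtain ⟨b, ⟨ob₁, pb₁⟩, -⟩ := Cartesian.existsUnique_kernelPt f M e _ hn
  obtain ⟨b', ⟨ob₂, pb₂⟩, -⟩ := Cartesian.existsUnique_kernelPt f M' e' _ hn
  have hbb : b' = b := ThetaRep.baseChange_unique
    (Cartesian.kernelPt_isBaseChange f M' e' y hv' hv'P (by rw [hy]; exact ob₂) pb₂)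
    (Cartesian.kernelPt_isBaseChange f M e y hv hvP (by rw [hy]; exact ob₁) pb₁)
  subst hbb
  obtain ⟨l, ⟨hlb, hl⟩, -⟩ := Cartesian.exists_unique_lift
    (Cartesian.toBase (Coh.structureModule A.left) T) (ThetaRep.isIso_toBase_fiber T)
    (a := pr ((Scheme.Modules.pullback q).obj M)) (lift aT (𝟙 T)).left a₁ (by
      show a₁.base = (lift aT (𝟙 T)).left ≫ (fst A T).left
      rw [← Over.comp_left, lift_fst]
      rfl)
  have hd : ∀ (P : B.left.Modules) (d : Coh.structureModule A.left ≅ (Scheme.Modules.pullback f.left).obj P),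
      Cartesian.toBase (Coh.structureModule A.left) T ≫ Cartesian.desc f P d = Cartesian.proj f P d T :=
    fun P d => rfl
  have h2 : l ≫ b'.1.hom ≫ Cartesian.toBase (Coh.structureModule A.left) T = a₂ := by
    refine Cartesian.eq_of_comp_eq (Cartesian.desc f M e) e.isIso_hom ?_ ?_
    · rw [CoGrothendieck.categoryStruct_comp_base, CoGrothendieck.categoryStruct_comp_base, hlb, ob₁]
      show _ ≫ _ ≫ (fst A T).left = bT.left
      rw [← Over.comp_left, ← Over.comp_left]
      congr 1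
      rw [ThetaGrp.transl_fst, MonObj.comp_mul, lift_fst, lift_snd_assoc, Category.id_comp,
        mul_inv_cancel_left]
    · rw [Category.assoc, Category.assoc, hd, pb₁, ← hd, ← Category.assoc, hl, h₁, h₂]
  rw [← h2, ← hl, Category.assoc, Category.assoc, Category.assoc, hd, pb₂]

/-- Only finitely many invertible modules become trivial under a surjective homomorphism. -/
theorem exists_finite_list :
    ∃ (n : ℕ) (N : Fin n → B.left.Modules), ∀ M : B.left.Modules, PicF.IsInvertible M →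
      Nonempty ((Scheme.Modules.pullback f.left).obj M ≅ Coh.structureModule A.left) →
      ∃ i, Nonempty (M ≅ N i) := by
  let e₀ := (PicLoc.pullbackStructureIso f.left).symm
  haveI : IsProper (f.left ≫ B.hom) := by rw [Over.w]; infer_instance
  haveI : IsProper f.left := IsProper.of_comp f.left B.hom
  haveI : IsProper (ker f).hom :=
    show IsProper (Limits.pullback.snd f.left η[B].left ≫ (𝟙_ (Over (Spec (CommRingCat.of k)))).hom) by
      haveI h : IsProper (Limits.pullback.snd f.left η[B].left) :=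
        MorphismProperty.of_isPullback (IsPullback.of_hasPullback f.left η[B].left) ‹IsProper f.left›
      haveI : IsProper (𝟙_ (Over (Spec (CommRingCat.of k)))).hom :=
        inferInstanceAs (IsProper (𝟙 (Spec (CommRingCat.of k))))
      infer_instance
  obtain ⟨m, hm⟩ := exists_kerMul f
  have hfin : Set.Finite {χ : Γ((ker f).left, ⊤) | (IsUnit χ ∧ m.left.appTop.hom χ =
        (fst (ker f) (ker f)).left.appTop.hom χ * (snd (ker f) (ker f)).left.appTop.hom χ) ∧
      ∃ (M : B.left.Modules) (_ : PicF.IsInvertible M)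
        (e : Coh.structureModule A.left ≅ (Scheme.Modules.pullback f.left).obj M),
        IsChar f e₀ M e χ} := (CharFin.finite_chars (ker f) m).subset fun χ hχ => hχ.1
  obtain ⟨n, g, -, hg⟩ := hfin.fin_param
  have hr : ∀ j, g j ∈ _ := fun j => hg ▸ Set.mem_range_self j
  choose N hN e he using fun j => (hr j).2
  refine ⟨n, N, fun M hM ⟨i⟩ => ?_⟩
  obtain ⟨χ, hχ, hu, hmul⟩ := exists_isChar f e₀ M i.symm m hm
  obtain ⟨j, rfl⟩ : χ ∈ Set.range g := hg.symm ▸ ⟨⟨hu, hmul⟩, M, hM, i.symm, hχ⟩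
  exact ⟨j, iso_of_isChar f hM (hN j) hχ (he j)⟩

end Groth.Agent.Lib.H3.KerChar
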