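import Groth.Agent.H63.SymDegree
import Groth.Agent.Lib.ResDescend36.Proj
import Groth.Agent.S0017
import Groth.Agent.Lib.DerivedOX.FlatTensor
import Groth.Agent.Lib.DerivedOX.Calculus
import Groth.Agent.Lib.Modules.SupportOps
import Groth.Agent.Lib.Cyc.FP.Stalk
import Groth.Agent.Lib.IntTheory.Restrict
import Groth.Agent.Lib.SurfInt.Push
import Groth.Agent.Lib.Curves.GlobalSections
import Groth.Agent.H4.AVHom
import Groth.Agent.Lib.GrpSch.Basic
import Mathlib.AlgebraicGeometry.Group.Abelian
import Mathlib.AlgebraicGeometry.Geometrically.Integral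

/-!
# Euler characteristics of pull backs along finite flat covers of abelian varieties
-/

set_option autoImplicit false
set_option linter.style.haveILetI false
set_option linter.unusedSectionVars false

universe u

open CategoryTheory CategoryTheory.Limits MonoidalCategory CartesianMonoidalCategory MonObj GrpObj AlgebraicGeometry
open TopologicalSpace
open Groth.Agent.Lib Groth.Agent.Lib.IntTheory Groth.Agent.Lib.Snapper
open Groth.Agent.Lib.Devissage.Basic (CohIn)

noncomputable section

namespace Groth.Agent.Lib.H3.EulerPull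

variable {X : Scheme.{u}} [IsNoetherian X]

/-- Twisting by a free module multiplies additive functions. -/
theorem isAdd_tensor_freeMod {φ : X.Modules → ℤ} (hφ : Additive.IsAdd φ) {F : X.Modules} (hF : Coh.IsCoh F) :
    ∀ n : ℕ, φ (CohB1.tensorMod F (FlatMod.freeMod X n)) = n * φ F
  | 0 => by
    rw [Nat.cast_zero, zero_mul]
    refine hφ.zero ?_
    haveI : PreservesFiniteColimits ((DCoh.tensorBi (X := X)).obj F) :=
      DerivedOX.FlatTensor.preservesFiniteColimits_tensorLeft F
    exact Functor.map_isZero ((DCoh.tensorBi (X := X)).obj F)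
      ((IsZero.iff_id_eq_zero _).2 (Sigma.hom_ext _ _ fun i => i.elim0))
  | n + 1 => by
    obtain ⟨e⟩ := H63.SymDegree.nonempty_freeMod_succ (X := X) n
    let S : ShortComplex X.Modules := ShortComplex.mk
      (biprod.inl : Coh.structureModule X ⟶ Coh.structureModule X ⊞ FlatMod.freeMod X n) biprod.snd (by simp)
    let T := (DCoh.tensorBi (X := X)).obj F
    haveI : PreservesFiniteColimits T := DerivedOX.FlatTensor.preservesFiniteColimits_tensorLeft F
    haveI : T.Additive := Functor.additive_of_preserves_binary_products _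
    have hS : (S.map T).ShortExact := ((ShortComplex.Splitting.ofHasBinaryBiproduct _ _).map T).shortExact
    have hc : ∀ G : X.Modules, Coh.IsCoh G → Coh.IsCoh (T.obj G) := fun G hG => Restrict.isCoh_tensor hF hG
    have h := hφ.add hS (hc _ (Snapper.Twist.isCoh_structureModule X))
      (hc _ (CohBasics.Closure.isCoh_of_iso e (Perfect.Coherent.isCoh_freeMod X (n + 1))))
      (hc _ (Perfect.Coherent.isCoh_freeMod X n))
    rw [show φ (CohB1.tensorMod F (FlatMod.freeMod X (n + 1))) = φ (S.map T).X₂ from hφ.iso (T.mapIso e), h,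
      show φ (S.map T).X₁ = φ F from hφ.iso (TensorMod.Basic.rightUnit F)]
    show φ F + φ (CohB1.tensorMod F (FlatMod.freeMod X n)) = _
    rw [isAdd_tensor_freeMod hφ hF n]
    push_cast
    ring

/-- An additive function killed by twisting with a locally free module of positive rank is zero. -/
theorem eq_zero_of_twist {φ : X.Modules → ℤ} (hφ : Additive.IsAdd φ) (E : X.Modules) (hE : Coh.IsCoh E) {d : ℕ}
    (hd : d ≠ 0)
    (hloc : ∀ x : X, ∃ U : X.Opens, x ∈ U ∧ Nonempty (E.restrict U.ι ≅ FlatMod.freeMod (↑U) d))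
    (h0 : ∀ F : X.Modules, Coh.IsCoh F → φ (CohB1.tensorMod F E) = 0) :
    ∀ F : X.Modules, Coh.IsCoh F → φ F = 0 := by
  suffices key : ∀ (T : Closeds X) (F : X.Modules), CohIn (T : Set X) F → φ F = 0 from
    fun F hF => key ⊤ F ⟨hF, Set.subset_univ _⟩
  intro T
  induction T using WellFoundedLT.induction with
  | _ T ih =>
    intro F hF
    rcases (T : Set X).eq_empty_or_nonempty with he | ⟨x, hx⟩
    · refine hφ.zero (Modules.Support.support_eq_empty_iff.1 (Set.subset_empty_iff.1 (he ▸ hF.2)))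
    obtain ⟨U, hxU, ⟨i⟩⟩ := hloc x
    let T' : Closeds X := ⟨(T : Set X) ∩ (U : Set X)ᶜ, T.isClosed.inter U.2.isClosed_compl⟩
    have hlt : T' < T := lt_of_le_of_ne (fun z hz => hz.1) fun he => by
      have : x ∈ T' := he ▸ hx
      exact this.2 hxU
    have hsupp : ∀ G : X.Modules, Coh.IsCoh G → CohB1.support (CohB1.tensorMod F G) ⊆ (T : Set X) := fun G hG => by
      haveI := hF.1.2
      haveI := hG.2
      refine Set.Subset.trans ?_ hF.2
      rw [Modules.SupportOps.support_tensorMod]
      exact Set.inter_subset_left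
    have h := Roof.eq_of_iso_on (φ := φ) (T := (T : Set X)) (fun S hS h₁ h₂ h₃ => hφ.add hS h₁.1 h₂.1 h₃.1) hφ.iso
      (A := CohB1.tensorMod F E) (B := CohB1.tensorMod F (FlatMod.freeMod X d))
      ⟨Restrict.isCoh_tensor hF.1 hE, hsupp E hE⟩
      ⟨Restrict.isCoh_tensor hF.1 (Perfect.Coherent.isCoh_freeMod X d), hsupp _ (Perfect.Coherent.isCoh_freeMod X d)⟩ U
      (TensorMod.Pullback.restrictTensorIso U.ι F E ≪≫
        TensorMod.Basic.tensorIso (Iso.refl _) (i ≪≫ (TensorMod.LocFree.restrictFreeModIso U.ι d).symm) ≪≫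
        (TensorMod.Pullback.restrictTensorIso U.ι F (FlatMod.freeMod X d)).symm)
      (fun K hK => ih T' hlt K hK)
    rw [h0 F hF.1, isAdd_tensor_freeMod hφ hF.1] at h
    exact (mul_eq_zero.1 h.symm).resolve_left (by exact_mod_cast hd)

variable {k : Type u} [Field k] [X.Over (Spec (CommRingCat.of k))] [IsProper (X ↘ Spec (CommRingCat.of k))]

/-- The Euler characteristic is additive. -/
theorem isAdd_euler {d : ℕ} (hd : topologicalKrullDim X ≤ d) :
    Additive.IsAdd (fun F : X.Modules => Curv2.euler k X F) where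
  iso e := by rw [Snapper.Chi.euler_eq_eulerCharLE hd, Snapper.Chi.euler_eq_eulerCharLE hd, Snapper.Chi.eulerCharLE_of_iso e]
  zero h := by rw [Snapper.Chi.euler_eq_eulerCharLE hd, Snapper.Chi.eulerCharLE_isZero h]
  add hS h₁ h₂ h₃ := by
    simp only [Snapper.Chi.euler_eq_eulerCharLE hd]
    exact Snapper.Chi.eulerCharLE_add (Finite.cohFinite k X) hd hS h₁ h₂ h₃

/-- Twisting by a flat coherent module preserves additivity. -/
theorem isAdd_twist {φ : X.Modules → ℤ} (hφ : Additive.IsAdd φ) {E : X.Modules} (hE : Coh.IsCoh E)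
    (hflat : FlatMod.IsFlat E) : Additive.IsAdd (fun F => φ (CohB1.tensorMod F E)) where
  iso e := hφ.iso (TensorMod.Basic.tensorIso e (Iso.refl E))
  zero h := by
    refine hφ.zero ?_
    haveI : PreservesFiniteColimits ((DCoh.tensorBi (X := X)).flip.obj E) :=
      PreservesColimitsOfSize.preservesFiniteColimits _
    exact Functor.map_isZero ((DCoh.tensorBi (X := X)).flip.obj E) h
  add := @fun S hS h₁ h₂ h₃ => by
    haveI := DerivedOX.FlatTensor.preservesFiniteLimits_tensorRight_of_isFlat hflat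
    haveI : PreservesFiniteColimits ((DCoh.tensorBi (X := X)).flip.obj E) :=
      PreservesColimitsOfSize.preservesFiniteColimits _
    exact hφ.add (hS.map_of_exact ((DCoh.tensorBi (X := X)).flip.obj E)) (Restrict.isCoh_tensor h₁ hE)
      (Restrict.isCoh_tensor h₂ hE) (Restrict.isCoh_tensor h₃ hE)

theorem euler_tensor_free {d : ℕ} (hd : topologicalKrullDim X ≤ d) {F G : X.Modules} (hF : Coh.IsCoh F)
    (hG : Coh.IsCoh G) {n : ℕ} (U : X.Opens) (hU : U = ⊤) (i : G.restrict U.ι ≅ FlatMod.freeMod (↑U) n) :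
    Curv2.euler k X (CohB1.tensorMod F G) = n * Curv2.euler k X F := by
  have hφ := isAdd_euler (k := k) hd
  rw [← isAdd_tensor_freeMod hφ hF n]
  refine Roof.eq_of_iso_on (φ := fun F => Curv2.euler k X F) (T := Set.univ)
    (fun S hS h₁ h₂ h₃ => hφ.add hS h₁.1 h₂.1 h₃.1) hφ.iso
    ⟨Restrict.isCoh_tensor hF hG, Set.subset_univ _⟩
    ⟨Restrict.isCoh_tensor hF (Perfect.Coherent.isCoh_freeMod X n), Set.subset_univ _⟩ U
    (TensorMod.Pullback.restrictTensorIso U.ι F G ≪≫
      TensorMod.Basic.tensorIso (Iso.refl _) (i ≪≫ (TensorMod.LocFree.restrictFreeModIso U.ι n).symm) ≪≫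
      (TensorMod.Pullback.restrictTensorIso U.ι F (FlatMod.freeMod X n)).symm)
    fun K hK => hφ.zero (Modules.Support.support_eq_empty_iff.1 (Set.subset_empty_iff.1 ?_))
  refine hK.2.trans ?_
  rw [hU]; simp

section AV

variable {k : Type u} [Field k] {X Y : Over (Spec (CommRingCat.of k))}
  [GrpObj X] [IsProper X.hom] [GeometricallyIntegral X.hom] [GrpObj Y] [IsProper Y.hom] [GeometricallyIntegral Y.hom]

/-- The self product of a cover is the product with the kernel. -/
theorem exists_square (f : X ⟶ Y) [IsFinite f.left] [Flat f.left] :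
    ∃ (N : Over (Spec (CommRingCat.of k))) (g : X ⊗ N ⟶ X), IsFinite N.hom ∧ Flat N.hom ∧
      IsPullback g.left (fst X N).left f.left f.left := by
  haveI : IsCommMonObj Y := isCommMonObj_of_isProper_of_geometricallyIntegral Y
  let c : 𝟙_ (Over (Spec (CommRingCat.of k))) ⟶ Y := η[X] ≫ f
  let f₀ : X ⟶ Y := f * (toUnit X ≫ c⁻¹)
  haveI : IsMonHom f₀ := by
    refine H4.AVHom.isMonHom_of_pointed f₀ ?_
    rw [MonObj.comp_mul, ← Category.assoc, toUnit_unique (η[X] ≫ toUnit X) (𝟙 _), Category.id_comp, mul_inv_cancel,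
      MonObj.one_eq_one]
  let τ : Y ⟶ Y := 𝟙 Y * (toUnit Y ≫ c)
  let τ' : Y ⟶ Y := 𝟙 Y * (toUnit Y ≫ c⁻¹)
  have hτ : ∀ (a b : 𝟙_ (Over (Spec (CommRingCat.of k))) ⟶ Y),
      (𝟙 Y * (toUnit Y ≫ a)) ≫ (𝟙 Y * (toUnit Y ≫ b)) = 𝟙 Y * (toUnit Y ≫ (a * b)) := fun a b => by
    rw [MonObj.comp_mul, Category.comp_id, ← Category.assoc, toUnit_unique (_ ≫ toUnit Y) (toUnit Y),
      _root_.mul_assoc, MonObj.comp_mul]
  have hiso : IsIso τ := ⟨τ', by
    rw [hτ, mul_inv_cancel, MonObj.comp_one, _root_.mul_one], by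
    rw [hτ, inv_mul_cancel, MonObj.comp_one, _root_.mul_one]⟩
  have hf : f = f₀ ≫ τ := by
    rw [MonObj.comp_mul, Category.comp_id, ← Category.assoc, toUnit_unique (f₀ ≫ toUnit Y) (toUnit X),
      _root_.mul_assoc, ← MonObj.comp_mul, inv_mul_cancel, MonObj.comp_one, _root_.mul_one]
  haveI : IsIso τ.left := ((Over.forget _).mapIso (asIso τ)).isIso_hom
  have hf₀ : f₀.left = f.left ≫ inv τ.left := by rw [hf, Over.comp_left]; simp
  haveI : IsFinite f₀.left := by rw [hf₀]; infer_instance
  haveI : Flat f₀.left := by rw [hf₀]; infer_instance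
  let N := Limits.pullback f₀ η[Y]
  let i : N ⟶ X := Limits.pullback.fst f₀ η[Y]
  let t : N ⟶ 𝟙_ (Over (Spec (CommRingCat.of k))) := Limits.pullback.snd f₀ η[Y]
  have hi : i ≫ f₀ = 1 := by
    rw [show i ≫ f₀ = t ≫ η[Y] from Limits.pullback.condition, MonObj.one_eq_one, MonObj.comp_one]
  have sqN := (IsPullback.of_hasPullback f₀ η[Y]).map (Over.forget _)
  haveI : IsFinite t.left := MorphismProperty.of_isPullback sqN ‹IsFinite f₀.left›
  haveI : Flat t.left := MorphismProperty.of_isPullback sqN ‹Flat f₀.left›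
  have hN : N.hom = t.left ≫ 𝟙 _ := (Over.w t).symm
  haveI : IsFinite N.hom := by rw [hN]; infer_instance
  haveI : Flat N.hom := by rw [hN]; infer_instance
  let g : X ⊗ N ⟶ X := fst X N * (snd X N ≫ i)
  let a : Limits.pullback f₀ f₀ ⟶ X := Limits.pullback.fst f₀ f₀
  let b : Limits.pullback f₀ f₀ ⟶ X := Limits.pullback.snd f₀ f₀
  have hab : (b⁻¹ * a) ≫ f₀ = toUnit _ ≫ η[Y] := by
    rw [MonObj.mul_comp, GrpObj.inv_comp, show a ≫ f₀ = b ≫ f₀ from Limits.pullback.condition, inv_mul_cancel,
      MonObj.one_eq_one, MonObj.comp_one]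
  have hg : g ≫ f₀ = fst X N ≫ f₀ := by
    rw [MonObj.mul_comp, Category.assoc, hi, MonObj.comp_one, _root_.mul_one]
  let e : X ⊗ N ≅ Limits.pullback f₀ f₀ :=
    { hom := Limits.pullback.lift g (fst X N) hg
      inv := lift b (Limits.pullback.lift (b⁻¹ * a) (toUnit _) hab)
      hom_inv_id := by
        apply CartesianMonoidalCategory.hom_ext
        · rw [Category.assoc, lift_fst, Limits.pullback.lift_snd, Category.id_comp]
        · rw [Category.assoc, lift_snd, Category.id_comp]
          refine Limits.pullback.hom_ext ?_ (toUnit_unique _ _)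
          rw [Category.assoc, Limits.pullback.lift_fst, MonObj.comp_mul, GrpObj.comp_inv, Limits.pullback.lift_fst,
            Limits.pullback.lift_snd, inv_mul_cancel_left]
      inv_hom_id := by
        apply Limits.pullback.hom_ext
        · rw [Category.assoc, Limits.pullback.lift_fst, MonObj.comp_mul, lift_fst, lift_snd_assoc,
            Limits.pullback.lift_fst, Category.id_comp, mul_inv_cancel_left]
        · rw [Category.assoc, Limits.pullback.lift_snd, lift_fst, Category.id_comp] }
  have sq : IsPullback g (fst X N) f₀ f₀ :=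
    IsPullback.of_iso_pullback ⟨hg⟩ e (Limits.pullback.lift_fst _ _ _) (Limits.pullback.lift_snd _ _ _)
  have sq' : IsPullback g (fst X N) f f := by
    rw [hf]
    exact sq.of_iso (Iso.refl _) (Iso.refl _) (Iso.refl _) (asIso τ) (by simp) (by simp) (by simp) (by simp)
  exact ⟨N, g, inferInstance, inferInstance, sq'.map (Over.forget _)⟩

end AV

end Groth.Agent.Lib.H3.EulerPull
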