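import Groth.Agent.Lib.H3.TraceSym
import Groth.Agent.H4.PicZero.CubeBase

/-!
# Positivity and symmetry of traces
-/

set_option autoImplicit false
set_option linter.style.haveILetI false
set_option linter.unusedSectionVars false

universe u

open CategoryTheory MonoidalCategory CartesianMonoidalCategory MonObj GrpObj AlgebraicGeometry

noncomputable section

namespace Groth.Agent.Lib.H3.TracePos

open Groth.Agent Groth.Agent.H3 Groth.Agent.H3.PicCalc Groth.Agent.Lib Groth.Agent.Lib.H3.TraceSym Groth.Agent.H63.DegreePoly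

local instance tracePosLaw (Y : Scheme.{u}) : PicGrp.Law Y := Groth.Agent.Lib.TensorMod.Invertible.law Y

variable {K : Type u} [Field K] [IsAlgClosed K]
  {A : Over (Spec (CommRingCat.of K))} [GrpObj A] [IsCommMonObj A] [IsProper A.hom] [GeometricallyIntegral A.hom]

local notation "T₀" => (𝟙_ (Over (Spec (CommRingCat.of K))))

/-- The symmetrized class, negated. -/
def cc (l : PicLoc.PicSet A.left) : PicLoc.PicSet A.left := (l * ph (𝟙 A)⁻¹ l)⁻¹

theorem cc_symm (l : PicLoc.PicSet A.left) : ph (𝟙 A)⁻¹ (cc l) = cc l := by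
  rw [cc, map_inv, map_mul, ← ph_comp, H63.AVSymmetric.inv_comp_inv, ph_id, _root_.mul_comm]

theorem phi_cc (l : PicLoc.PicSet A.left) (x : T₀ ⟶ A) : phi x (cc l) = (phi x l * phi x l)⁻¹ := by
  rw [cc, map_inv, map_mul, phi_neg]

theorem exists_ample_cc {L : A.left.Modules} (hL : CohB1.IsAmple L) :
    ∃ (L' : A.left.Modules) (hL' : CohB1.IsAmple L'), (PicGrp.cls L' hL'.1)⁻¹ = cc (PicGrp.cls L hL.1) := by
  let v : A ⟶ A := (𝟙 A)⁻¹
  have hvv : v ≫ v = 𝟙 A := H63.AVSymmetric.inv_comp_inv A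
  haveI : IsIso v.left := ⟨v.left, by rw [← Over.comp_left, hvv]; rfl, by rw [← Over.comp_left, hvv]; rfl⟩
  have hL₁ : CohB1.IsAmple ((Scheme.Modules.pullback v.left).obj L) :=
    Ample.Pullback.isAmple_pullback v.left (Ample.Pullback.isQuasiAffine_of_isAffineHom v.left) hL
  have hL' : CohB1.IsAmple (CohB1.tensorMod L ((Scheme.Modules.pullback v.left).obj L)) :=
    Ample.Basis.isAmple_tensor hL hL₁.1 fun x => by
      obtain ⟨n, hn, s, hs, -⟩ := (Ample.Pow.isAmple_iff.1 hL₁).2.2 x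
      exact ⟨n, hn, s, hs⟩
  refine ⟨_, hL', congrArg (·⁻¹) (Subtype.ext ?_)⟩
  exact cl_tensor (a := PicGrp.cls L hL.1) rfl (cl_pullback v (a := PicGrp.cls L hL.1) rfl)

section Rel

variable {L : A.left.Modules} (hL : PicF.IsInvertible L)

/-- The adjunction relation on classes. -/
theorem phi_of_iso (a : A ⟶ A) (x : T₀ ⟶ A) (y : T₀ ⟶ A) (n : ℕ)
    (h : Nonempty (CohB1.tensorMod ((Scheme.Modules.pullback ((𝟙 A * (toUnit A ≫ y))).left).obj L)
        ((Scheme.Modules.pullback a.left).obj (CohB1.tensorPow L n)) ≅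
      CohB1.tensorMod L ((Scheme.Modules.pullback a.left).obj
        ((Scheme.Modules.pullback ((𝟙 A * (toUnit A ≫ x))).left).obj (CohB1.tensorPow L n))))) :
    phi y (PicGrp.cls L hL) = ph a (phi x (PicGrp.cls L hL)) ^ n := by
  let l := PicGrp.cls L hL
  have hp : PicF.cl (CohB1.tensorPow L n) = (l ^ n).1 := H4.PicZero.cl_tensorPow rfl n
  have h1 := (iso_iff (cl_tensor (cl_pullback (𝟙 A * (toUnit A ≫ y)) (a := l) rfl) (cl_pullback a hp))
    (cl_tensor (a := l) rfl (cl_pullback a (cl_pullback (𝟙 A * (toUnit A ≫ x)) hp)))).1 h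
  simp only [map_pow] at h1
  rw [phi_apply, phi_apply, map_mul, map_inv, mul_pow, inv_pow, mul_inv_eq_iff_eq_mul, mul_right_comm,
    eq_mul_inv_iff_mul_eq, h1]
  exact _root_.mul_comm _ _

theorem phi_of_iso' (y x : T₀ ⟶ A) (m : ℕ) {M : A.left.Modules} (hM : PicF.IsInvertible M)
    (h : Nonempty (CohB1.tensorMod ((Scheme.Modules.pullback ((𝟙 A * (toUnit A ≫ x))).left).obj M) (CohB1.tensorPow L m) ≅
      CohB1.tensorMod M ((Scheme.Modules.pullback ((𝟙 A * (toUnit A ≫ y))).left).obj (CohB1.tensorPow L m)))) :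
    phi x (PicGrp.cls M hM) = phi y (PicGrp.cls L hL) ^ m := by
  let l := PicGrp.cls L hL
  let μ' := PicGrp.cls M hM
  have hp : PicF.cl (CohB1.tensorPow L m) = (l ^ m).1 := H4.PicZero.cl_tensorPow rfl m
  have h1 := (iso_iff (cl_tensor (cl_pullback (𝟙 A * (toUnit A ≫ x)) (a := μ') rfl) hp)
    (cl_tensor (a := μ') rfl (cl_pullback (𝟙 A * (toUnit A ≫ y)) hp))).1 h
  simp only [map_pow] at h1
  rw [phi_apply, phi_apply, mul_pow, inv_pow, mul_inv_eq_iff_eq_mul, mul_right_comm,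
    eq_mul_inv_iff_mul_eq, h1]
  exact _root_.mul_comm _ _

theorem phi_cc_of (l : PicLoc.PicSet A.left) (a : A ⟶ A) {x y : T₀ ⟶ A} {n : ℕ}
    (h : phi y l = ph a (phi x l) ^ n) : phi y (cc l) = ph a (phi x (cc l)) ^ n := by
  rw [phi_cc, phi_cc, map_inv, map_mul, inv_pow, mul_pow, h]

end Rel

variable {r : ℕ} (hr : topologicalKrullDim A.left = r)

include hr

/-- The trace of a symmetric positive endomorphism is positive. -/
theorem trace_pos {L : A.left.Modules} (hL : CohB1.IsAmple L) (g : EndAV.End A)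
    (hsym : ∀ x : T₀ ⟶ A, ph (EndAV.End.toHom g) (phi x (cc (PicGrp.cls L hL.1))) =
      phi (x ≫ EndAV.End.toHom g) (cc (PicGrp.cls L hL.1)))
    {m : ℕ} (hm : 1 ≤ m) {M : A.left.Modules} (hM : PicF.IsInvertible M)
    (s : Coh.structureModule A.left ⟶ M) (hs : s ≠ 0) (hs' : ¬ IsIso s)
    (hpos : ∀ x : T₀ ⟶ A, phi x (PicGrp.cls M hM) = phi (x ≫ EndAV.End.toHom g) (PicGrp.cls L hL.1) ^ m)
    {P : Polynomial ℚ} (hmon : P.Monic) (hdeg : P.natDegree = 2 * r)
    (hP : ∀ j : ℤ, (IsFinite (EndAV.End.toHom (g + (j : EndAV.End A))).left →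
        ∀ a : A.left, (Scheme.Hom.finrank (EndAV.End.toHom (g + (j : EndAV.End A))).left a : ℚ) = P.eval (j : ℚ)) ∧
      (¬ IsFinite (EndAV.End.toHom (g + (j : EndAV.End A))).left → P.eval (j : ℚ) = 0)) :
    0 < P.coeff (2 * r - 1) := by
  rcases Nat.eq_zero_or_pos r with rfl | hr0
  · rw [show 2 * 0 - 1 = P.natDegree by omega, hmon.coeff_natDegree]; exact one_pos
  obtain ⟨q, rfl⟩ : ∃ q, r = q + 1 := ⟨r - 1, by omega⟩
  letI : A.left.Over (Spec (CommRingCat.of K)) := ⟨A.hom⟩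
  haveI : IsProper (A.left ↘ Spec (CommRingCat.of K)) := ‹IsProper A.hom›
  haveI := Curves.GlobalSections.isNoetherian_of_proper K A.left
  obtain ⟨L', hL', hLc⟩ := exists_ample_cc hL
  let l := PicGrp.cls L hL.1
  let c := cc l
  let μ' := PicGrp.cls M hM
  let a : A ⟶ A := EndAV.End.toHom g
  let S := sym1 (K := K) hr.le c
  let b := bil c a (𝟙 A)
  have key := eq_of_sq S (sq_eq_of_phi_eq (b ^ m) (cc μ' ^ 2)
    (by rw [map_pow, ph_neg_bil]) (by rw [map_pow, cc_symm]) fun x => by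
      rw [map_pow, map_pow, phi_bil, hsym, phi_cc, phi_cc, hpos, pow_two, ← mul_pow, ← inv_pow, ← mul_pow])
  simp only [ofMul_pow, map_nsmul, nsmul_eq_mul] at key
  have hcc : S (Additive.ofMul (cc μ')) = 2 * S (Additive.ofMul μ'⁻¹) := by
    rw [cc, _root_.mul_inv, ← map_inv, ofMul_mul, map_add, sym1_neg hr rfl c (cc_symm l), two_mul]
  rw [hcc] at key
  have hp := sym_effective_pos hr rfl c hL' hLc hM s hs hs'
  have hD := self_pos hr rfl c hL' hLc
  have hco := coeff_eq hr rfl c (cc_symm l) g P hP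
  have hb : 0 < S (Additive.ofMul b) := by
    push_cast at key
    nlinarith [hp]
  have hbq : (0 : ℚ) < (S (Additive.ofMul b) : ℚ) := by exact_mod_cast hb
  have hDq : (0 : ℚ) < (S (Additive.ofMul c) : ℚ) := by exact_mod_cast hD
  have h2 : 0 < P.coeff (2 * (q + 1) - 1) * (S (Additive.ofMul c) : ℚ) := hco ▸ mul_pos (by positivity) hbq
  exact (mul_pos_iff_of_pos_right hDq).1 h2

/-- The involution multiplies traces by the integer. -/
theorem trace_adjoint {L : A.left.Modules} (hL : CohB1.IsAmple L) (α ρ : EndAV.End A) (n : ℕ)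
    (hρ : ∀ x : T₀ ⟶ A, phi (x ≫ EndAV.End.toHom ρ) (PicGrp.cls L hL.1) =
      ph (EndAV.End.toHom α) (phi x (PicGrp.cls L hL.1)) ^ n)
    (hr1 : 1 ≤ r) {P R : Polynomial ℚ}
    (hP : ∀ j : ℤ, (IsFinite (EndAV.End.toHom (α + (j : EndAV.End A))).left →
        ∀ a : A.left, (Scheme.Hom.finrank (EndAV.End.toHom (α + (j : EndAV.End A))).left a : ℚ) = P.eval (j : ℚ)) ∧
      (¬ IsFinite (EndAV.End.toHom (α + (j : EndAV.End A))).left → P.eval (j : ℚ) = 0))
    (hR : ∀ j : ℤ, (IsFinite (EndAV.End.toHom (ρ + (j : EndAV.End A))).left →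
        ∀ a : A.left, (Scheme.Hom.finrank (EndAV.End.toHom (ρ + (j : EndAV.End A))).left a : ℚ) = R.eval (j : ℚ)) ∧
      (¬ IsFinite (EndAV.End.toHom (ρ + (j : EndAV.End A))).left → R.eval (j : ℚ) = 0)) :
    R.coeff (2 * r - 1) = (n : ℚ) * P.coeff (2 * r - 1) := by
  obtain ⟨q, rfl⟩ : ∃ q, r = q + 1 := ⟨r - 1, by omega⟩
  letI : A.left.Over (Spec (CommRingCat.of K)) := ⟨A.hom⟩
  haveI : IsProper (A.left ↘ Spec (CommRingCat.of K)) := ‹IsProper A.hom›
  haveI := Curves.GlobalSections.isNoetherian_of_proper K A.left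
  obtain ⟨L', hL', hLc⟩ := exists_ample_cc hL
  let l := PicGrp.cls L hL.1
  let c := cc l
  let S := sym1 (K := K) hr.le c
  have hc : ∀ x, phi (x ≫ EndAV.End.toHom ρ) c = ph (EndAV.End.toHom α) (phi x c) ^ n :=
    fun x => phi_cc_of l _ (hρ x)
  have key := eq_of_sq S (sq_eq_of_phi_eq (bil c (EndAV.End.toHom ρ) (𝟙 A)) (bil c (EndAV.End.toHom α) (𝟙 A) ^ n)
    (ph_neg_bil c _) (by rw [map_pow, ph_neg_bil]) fun x => by
      rw [map_pow, phi_bil, phi_bil, hc, adjoint c _ _ n hc, mul_pow]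
      exact _root_.mul_comm _ _)
  simp only [ofMul_pow, map_nsmul, nsmul_eq_mul] at key
  have hD := self_pos hr rfl c hL' hLc
  have h1 := coeff_eq hr rfl c (cc_symm l) ρ R hR
  have h2 := coeff_eq hr rfl c (cc_symm l) α P hP
  have hDq : (S (Additive.ofMul c) : ℚ) ≠ 0 := by exact_mod_cast hD.ne'
  refine mul_right_cancel₀ hDq ?_
  rw [h1, _root_.mul_assoc, h2, key]
  push_cast
  ring

/-- `(α, β) ↦ tr(α'β)` is symmetric. -/
theorem trace_symm {L : A.left.Modules} (hL : CohB1.IsAmple L) (α β ρ σ : EndAV.End A) (n : ℕ)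
    (hρ : ∀ x : T₀ ⟶ A, phi (x ≫ EndAV.End.toHom ρ) (PicGrp.cls L hL.1) =
      ph (EndAV.End.toHom α) (phi x (PicGrp.cls L hL.1)) ^ n)
    (hσ : ∀ x : T₀ ⟶ A, phi (x ≫ EndAV.End.toHom σ) (PicGrp.cls L hL.1) =
      ph (EndAV.End.toHom β) (phi x (PicGrp.cls L hL.1)) ^ n)
    {P R : Polynomial ℚ} (hPm : P.Monic) (hPd : P.natDegree = 2 * r) (hRm : R.Monic) (hRd : R.natDegree = 2 * r)
    (hP : ∀ j : ℤ, (IsFinite (EndAV.End.toHom (ρ * β + (j : EndAV.End A))).left →
        ∀ a : A.left, (Scheme.Hom.finrank (EndAV.End.toHom (ρ * β + (j : EndAV.End A))).left a : ℚ) = P.eval (j : ℚ)) ∧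
      (¬ IsFinite (EndAV.End.toHom (ρ * β + (j : EndAV.End A))).left → P.eval (j : ℚ) = 0))
    (hR : ∀ j : ℤ, (IsFinite (EndAV.End.toHom (σ * α + (j : EndAV.End A))).left →
        ∀ a : A.left, (Scheme.Hom.finrank (EndAV.End.toHom (σ * α + (j : EndAV.End A))).left a : ℚ) = R.eval (j : ℚ)) ∧
      (¬ IsFinite (EndAV.End.toHom (σ * α + (j : EndAV.End A))).left → R.eval (j : ℚ) = 0)) :
    P.coeff (2 * r - 1) = R.coeff (2 * r - 1) := by
  rcases Nat.eq_zero_or_pos r with rfl | hr0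
  · have hP0 := hPm.coeff_natDegree
    have hR0 := hRm.coeff_natDegree
    rw [hPd] at hP0; rw [hRd] at hR0
    exact hP0.trans hR0.symm
  obtain ⟨q, rfl⟩ : ∃ q, r = q + 1 := ⟨r - 1, by omega⟩
  letI : A.left.Over (Spec (CommRingCat.of K)) := ⟨A.hom⟩
  haveI : IsProper (A.left ↘ Spec (CommRingCat.of K)) := ‹IsProper A.hom›
  haveI := Curves.GlobalSections.isNoetherian_of_proper K A.left
  obtain ⟨L', hL', hLc⟩ := exists_ample_cc hL
  let l := PicGrp.cls L hL.1
  let c := cc l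
  let S := sym1 (K := K) hr.le c
  let a := EndAV.End.toHom α
  let b := EndAV.End.toHom β
  let ro := EndAV.End.toHom ρ
  let si := EndAV.End.toHom σ
  have hc : ∀ x, phi (x ≫ ro) c = ph a (phi x c) ^ n := fun x => phi_cc_of l _ (hρ x)
  have hd : ∀ x, phi (x ≫ si) c = ph b (phi x c) ^ n := fun x => phi_cc_of l _ (hσ x)
  have key := eq_of_sq S (sq_eq_of_phi_eq (bil c (b ≫ ro) (𝟙 A)) (bil c (a ≫ si) (𝟙 A))
    (ph_neg_bil c _) (ph_neg_bil c _) fun x => by
      rw [phi_bil, phi_bil, ph_comp, ph_comp, adjoint c _ _ n hc, adjoint c _ _ n hd, map_pow, map_pow,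
        ← Category.assoc, hc, ← Category.assoc, hd]
      exact _root_.mul_comm _ _)
  have hD := self_pos hr rfl c hL' hLc
  have h1 := coeff_eq hr rfl c (cc_symm l) (ρ * β) P hP
  have h2 := coeff_eq hr rfl c (cc_symm l) (σ * α) R hR
  have hDq : (S (Additive.ofMul c) : ℚ) ≠ 0 := by exact_mod_cast hD.ne'
  refine mul_right_cancel₀ hDq ?_
  rw [EndAV.End.toHom_mul] at h1 h2
  rw [h1, h2, key]

end Groth.Agent.Lib.H3.TracePos
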