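import Groth.Agent.H63.DegreeHom
import Groth.Agent.H3.TransInv
import Groth.Agent.Lib.PosLin.TopVanish
import Groth.Agent.Lib.TensorMod.LocIso
import Groth.Agent.Lib.Ample.GenLocus

/-!
# Traces of endomorphisms as intersection symbols

* `phi`: `x ↦ [t_x^* c ⊗ c⁻¹]`
* `coeff_eq`: the trace of `α` is a multiple of the symbol of the class `bil c α 1` against powers of `c`
* `sym_effective_pos`: the symbol of a positive divisor against ample classes is positive
-/

set_option autoImplicit false
set_option linter.style.haveILetI false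
set_option linter.unusedSectionVars false

universe u

open CategoryTheory CategoryTheory.Limits MonoidalCategory CartesianMonoidalCategory MonObj GrpObj AlgebraicGeometry
open TopologicalSpace

noncomputable section

namespace Groth.Agent.Lib.H3.TraceSym

open Groth.Agent Groth.Agent.H3 Groth.Agent.H3.PicCalc Groth.Agent.H63.DegreePoly Groth.Agent.Lib Groth.Agent.Lib.Snapper
open Groth.Agent.Lib.IntTheory

local instance traceSymLaw (Y : Scheme.{u}) : PicGrp.Law Y := Groth.Agent.Lib.TensorMod.Invertible.law Y

section Bil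

variable {K : Type u} [Field K] [IsAlgClosed K]
  {A : Over (Spec (CommRingCat.of K))} [GrpObj A] [IsCommMonObj A] [IsProper A.hom] [GeometricallyIntegral A.hom]

local notation "T₀" => (𝟙_ (Over (Spec (CommRingCat.of K))))

/-- The constant morphism. -/
abbrev cst {V : Over (Spec (CommRingCat.of K))} (x : T₀ ⟶ A) : V ⟶ A := toUnit V ≫ x

/-- `x ↦ [t_x^* c ⊗ c⁻¹]`. -/
def phi (x : T₀ ⟶ A) : PicLoc.PicSet A.left →* PicLoc.PicSet A.left :=
  MonoidHom.mk' (fun c => ph (𝟙 A * cst x) c * c⁻¹) fun a b => by
    rw [map_mul, _root_.mul_inv, _root_.mul_mul_mul_comm]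

theorem phi_apply (x : T₀ ⟶ A) (c : PicLoc.PicSet A.left) : phi x c = ph (𝟙 A * cst x) c * c⁻¹ := rfl

variable {V : Over (Spec (CommRingCat.of K))}

theorem ph_bil {W : Over (Spec (CommRingCat.of K))} (w : W ⟶ V) (c : PicLoc.PicSet A.left) (f g : V ⟶ A) :
    ph w (bil c f g) = bil c (w ≫ f) (w ≫ g) := by
  simp only [bil, map_div, map_mul, ← ph_comp, MonObj.comp_mul]

theorem bil_mul' (c : PicLoc.PicSet A.left) (x y z : V ⟶ A) : bil c z (x * y) = bil c z x * bil c z y := by
  rw [bil_comm, bil_mul, bil_comm c x, bil_comm c y]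

theorem bil_cst (c : PicLoc.PicSet A.left) (f : V ⟶ A) (y : T₀ ⟶ A) :
    bil c f (cst y) = ph f (phi y c) := by
  have e : f ≫ (𝟙 A * cst y) = f * cst y := by simp [cst, MonObj.comp_mul]
  rw [bil, TransInv.ph_const, _root_.mul_one, phi_apply, map_mul, map_inv, ← ph_comp, e, div_eq_mul_inv]

theorem cst_bil (c : PicLoc.PicSet A.left) (f : V ⟶ A) (y : T₀ ⟶ A) :
    bil c (cst y) f = ph f (phi y c) := by
  rw [bil_comm, bil_cst]

theorem bil_one_right (c : PicLoc.PicSet A.left) (f : V ⟶ A) : bil c f 1 = 1 := by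
  rw [bil, _root_.mul_one, CubeRel.ph_one, _root_.mul_one, div_self']

theorem bil_inv_left (c : PicLoc.PicSet A.left) (f g : V ⟶ A) : bil c f⁻¹ g = (bil c f g)⁻¹ :=
  map_inv (bilHom c g) f

theorem bil_inv_inv (c : PicLoc.PicSet A.left) (f g : V ⟶ A) : bil c f⁻¹ g⁻¹ = bil c f g := by
  rw [bil_inv_left, bil_comm, bil_inv_left, _root_.inv_inv, bil_comm]

/-- The class `bil c α 1` is symmetric. -/
theorem ph_neg_bil (c : PicLoc.PicSet A.left) (a : A ⟶ A) [IsMonHom a] :
    ph (𝟙 A)⁻¹ (bil c a (𝟙 A)) = bil c a (𝟙 A) := by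
  rw [ph_bil, Category.comp_id, GrpObj.inv_comp, Category.id_comp, bil_inv_inv]

/-- Its translation defect. -/
theorem phi_bil (c : PicLoc.PicSet A.left) (a : A ⟶ A) [IsMonHom a] (x : T₀ ⟶ A) :
    phi x (bil c a (𝟙 A)) = ph a (phi x c) * phi (x ≫ a) c := by
  have e : (𝟙 A * cst x) ≫ a = a * cst (x ≫ a) := by
    simp [cst, MonObj.mul_comp]
  rw [phi_apply x (bil c a (𝟙 A)), ph_bil, Category.comp_id, e, bil_mul, bil_mul', bil_mul', bil_cst,
    cst_bil, ph_id, bil_cst, TransInv.ph_const, _root_.mul_one, _root_.mul_comm, ← _root_.mul_assoc,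
    inv_mul_cancel_left]

/-- The translation defect does not see the inversion. -/
theorem phi_neg (c : PicLoc.PicSet A.left) (x : T₀ ⟶ A) : phi x (ph (𝟙 A)⁻¹ c) = phi x c := by
  rw [phi_apply, phi_apply, mul_inv_eq_iff_eq_mul, mul_right_comm, eq_mul_inv_iff_mul_eq,
    TransInv.phi_inv]
  exact _root_.mul_comm _ _

/-- Symmetric classes with the same translation defects have the same square. -/
theorem sq_eq_of_phi_eq (p q : PicLoc.PicSet A.left) (hp : ph (𝟙 A)⁻¹ p = p) (hq : ph (𝟙 A)⁻¹ q = q)
    (h : ∀ x : T₀ ⟶ A, phi x p = phi x q) : p * p = q * q := by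
  have hinv : TransInv.Inv (p * q⁻¹) := fun x => by
    have e : phi x (p * q⁻¹) = 1 := by rw [map_mul, map_inv, h x, mul_inv_cancel]
    exact mul_inv_eq_one.1 e
  have h2 := TransInv.ph_inv_of_inv _ hinv
  rw [map_mul, map_inv, hp, hq, _root_.mul_inv_rev, _root_.inv_inv, mul_inv_eq_iff_eq_mul, _root_.mul_assoc] at h2
  calc p * p = q * (p⁻¹ * q) * p := congrArg (· * p) h2
    _ = q * q := by rw [_root_.mul_assoc q, inv_mul_cancel_comm]

/-- A class on the square trivial on the slices and on the axis is trivial. -/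
theorem eq_one_of_slices (d : PicLoc.PicSet (A ⊗ A).left)
    (hs : ∀ a : T₀ ⟶ A, ph (lift (𝟙 A) (cst a)) d = 1) (h0 : ph (lift (1 : A ⟶ A) (𝟙 A)) d = 1) :
    d = 1 := by
  obtain ⟨D, hD, hDc⟩ := PicGrp.exists_eq_cls d
  let f := (snd A A).left
  haveI : IsProper f := inferInstanceAs (IsProper (pullback.snd A.hom A.hom))
  haveI : Flat f := inferInstanceAs (Flat (pullback.snd A.hom A.hom))
  haveI : GeometricallyIntegral f := inferInstanceAs (GeometricallyIntegral (pullback.snd A.hom A.hom))
  haveI : IsLocallyNoetherian A.left := LocallyOfFiniteType.isLocallyNoetherian A.hom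
  haveI : JacobsonSpace A.left := LocallyOfFiniteType.jacobsonSpace A.hom
  haveI : IsIntegral A.left := GeometricallyIntegral.isIntegral_of_subsingleton A.hom
  obtain ⟨hH, -⟩ := Cube.SeesawCons.h0_of_geometricallyIntegral f
  have hclosed : ∀ y : A.left, IsClosed ({y} : Set A.left) →
      Nonempty ((Scheme.Modules.pullback (f.fiberι y)).obj D ≅ Coh.structureModule (f.fiber y)) := by
    intro y hy
    let a : T₀ ⟶ A := Over.homMk (pointOfClosedPoint A.hom y hy) (pointOfClosedPoint_comp A.hom y hy)
    let s : A ⟶ A ⊗ A := lift (𝟙 A) (toUnit A ≫ a)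
    obtain ⟨i⟩ : Nonempty ((Scheme.Modules.pullback s.left).obj D ≅ Coh.structureModule A.left) :=
      (PicCalc.iso_iff (PicCalc.cl_pullback s (a := PicGrp.cls D hD) rfl)
        (b := (1 : PicLoc.PicSet _)) PicGrp.one_val.symm).2 (by rw [← hDc]; exact hs a)
    let r : f.fiber y ⟶ A.left := f.fiberι y ≫ (fst A A).left
    have hr : r ≫ s.left = f.fiberι y := by
      apply pullback.hom_ext
      · show (r ≫ s.left) ≫ (fst A A).left = f.fiberι y ≫ (fst A A).left
        rw [Category.assoc, ← Over.comp_left, lift_fst, Over.id_left, Category.comp_id]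
      · show (r ≫ s.left) ≫ (snd A A).left = f.fiberι y ≫ f
        rw [Category.assoc, ← Over.comp_left, lift_snd, Over.comp_left, f.fiber_fac y]
        show (f.fiberι y ≫ (fst A A).left) ≫ (toUnit A).left ≫ pointOfClosedPoint A.hom y hy = _
        have e : A.left.fromSpecResidueField y =
            (A.left.fromSpecResidueField y ≫ A.hom) ≫ pointOfClosedPoint A.hom y hy := by
          rw [← SpecMap_residueFieldIsoBase_inv A.hom y hy, pointOfClosedPoint, ← Category.assoc,
            ← Spec.map_comp, Iso.hom_inv_id, Spec.map_id, Category.id_comp]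
        rw [e, ← Category.assoc (f.fiberι y ≫ _), ← Category.assoc, ← Category.assoc]
        congr 1
        rw [← f.fiber_fac y]
        simp only [Category.assoc]
        congr 1
        exact (Over.w (fst A A)).trans (Over.w (snd A A)).symm
    exact ⟨(Scheme.Modules.pullbackCongr hr.symm).app D ≪≫
      ((Scheme.Modules.pullbackComp r s.left).app D).symm ≪≫
      (Scheme.Modules.pullback r).mapIso i ≪≫ PicLoc.pullbackStructureIso r⟩
  obtain ⟨E, hE, ⟨e⟩⟩ := Cube.SeesawGlobal.exists_of_fibres f hH D hD
    (fun y => Cube.SeesawCons.trivial_of_closed_fibres f D hD hclosed y)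
  have he : d = PicCalc.ph (snd A A) (PicGrp.cls E hE) := by
    rw [hDc]
    exact (PicCalc.iso_iff (a := PicGrp.cls D hD) rfl
      (PicCalc.cl_pullback (snd A A) (a := PicGrp.cls E hE) rfl)).1 ⟨e.symm⟩
  rw [he, ← ph_comp, lift_snd, ph_id] at h0
  rw [he, h0, map_one]

/-- The two adjoint relations are equivalent. -/
theorem adjoint (c : PicLoc.PicSet A.left) (a r : A ⟶ A) [IsMonHom a] [IsMonHom r] (n : ℕ)
    (h : ∀ x : T₀ ⟶ A, phi (x ≫ r) c = ph a (phi x c) ^ n) (x : T₀ ⟶ A) :
    ph r (phi x c) = phi (x ≫ a) c ^ n := by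
  have hd : bil c (fst A A) (snd A A ≫ r) * (bil c (fst A A ≫ a) (snd A A) ^ n)⁻¹ = 1 := by
    refine eq_one_of_slices _ (fun z => ?_) ?_
    · simp only [map_mul, map_inv, map_pow, ph_bil, lift_fst, lift_snd, lift_fst_assoc, lift_snd_assoc,
        Category.id_comp, cst, Category.assoc]
      rw [bil_cst, bil_cst, ph_id, h, mul_inv_cancel]
    · simp only [map_mul, map_inv, map_pow, ph_bil, lift_fst, lift_snd, lift_fst_assoc, lift_snd_assoc,
        Category.id_comp, MonObj.one_comp]
      rw [bil_comm c 1 r, bil_comm c 1 (𝟙 A), bil_one_right, bil_one_right, one_pow, inv_one, _root_.mul_one]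
  have h2 := congrArg (ph (lift (cst x) (𝟙 A))) (mul_inv_eq_one.1 hd)
  simp only [map_pow, ph_bil, lift_fst, lift_snd, lift_fst_assoc, lift_snd_assoc, Category.id_comp,
    cst, Category.assoc] at h2
  rwa [cst_bil, cst_bil, ph_id] at h2

end Bil

section Sym

variable {K : Type u} [Field K] [IsAlgClosed K]
  {A : Over (Spec (CommRingCat.of K))} [GrpObj A] [IsCommMonObj A] [IsProper A.hom] [GeometricallyIntegral A.hom]
  [A.left.Over (Spec (CommRingCat.of K))] [IsProper (A.left ↘ Spec (CommRingCat.of K))] [IsNoetherian A.left]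
  {q : ℕ}

/-- The symbol against `q` copies of `c`. -/
def sym1 (hA : topologicalKrullDim A.left ≤ (q + 1 : ℕ)) (c : PicLoc.PicSet A.left) :
    Additive (PicLoc.PicSet A.left) →+ ℤ :=
  symHom (k := K) hA (List.replicate q c) (by rw [List.length_replicate])

variable (S : Additive (PicLoc.PicSet A.left) →+ ℤ)

theorem eq_of_sq {p p' : PicLoc.PicSet A.left} (h : p * p = p' * p') :
    S (Additive.ofMul p) = S (Additive.ofMul p') := by
  have h2 := congrArg (fun z => S (Additive.ofMul z)) h
  simp only [ofMul_mul, map_add] at h2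
  omega

/-- Multilinear expansion of the symbol of `x + t y + t² z`. -/
theorem exists_expansion {r : ℕ} (hA : topologicalKrullDim A.left ≤ r) (u : ℤ → PicLoc.PicSet A.left)
    (x y z : PicLoc.PicSet A.left)
    (hu : ∀ (S : Additive (PicLoc.PicSet A.left) →+ ℤ) (t : ℤ),
      S (Additive.ofMul (u t)) = S (Additive.ofMul x) + t * S (Additive.ofMul y) + t * t * S (Additive.ofMul z)) :
    ∀ (i : ℕ) (tail : List (PicLoc.PicSet A.left)), tail.length + i = r →
      ∃ P : Polynomial ℚ, P.natDegree ≤ 2 * i ∧
        (P.coeff (2 * i) = symC K A.left r (List.replicate i z ++ tail)) ∧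
        (1 ≤ i → P.coeff (2 * i - 1) = i * (symC K A.left r (y :: (List.replicate (i - 1) z ++ tail)) : ℚ)) ∧
        ∀ t : ℤ, P.eval (t : ℚ) = symC K A.left r (List.replicate i (u t) ++ tail) := by
  intro i
  induction i with
  | zero =>
    intro tail _
    exact ⟨Polynomial.C (symC K A.left r tail : ℚ), by simp, by simp, fun h => absurd h (by omega),
      fun t => by simp⟩
  | succ i ih =>
    intro tail htail
    obtain ⟨Px, hxd, hxc, hxb, hx⟩ := ih (x :: tail) (by rw [List.length_cons]; omega)
    obtain ⟨Py, hyd, hyc, hyb, hy⟩ := ih (y :: tail) (by rw [List.length_cons]; omega)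
    obtain ⟨Pz, hzd, hzc, hzb, hz⟩ := ih (z :: tail) (by rw [List.length_cons]; omega)
    refine ⟨Px + Polynomial.X * Py + Polynomial.X * (Polynomial.X * Pz), ?_, ?_, fun _ => ?_, fun t => ?_⟩
    · refine Polynomial.natDegree_add_le_of_degree_le (Polynomial.natDegree_add_le_of_degree_le (by omega) ?_) ?_
      · exact Polynomial.natDegree_mul_le.trans (by rw [Polynomial.natDegree_X]; omega)
      · refine Polynomial.natDegree_mul_le.trans ?_
        have := Polynomial.natDegree_mul_le (p := (Polynomial.X : Polynomial ℚ)) (q := Pz)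
        rw [Polynomial.natDegree_X] at this ⊢
        omega
    · rw [show 2 * (i + 1) = 2 * i + 1 + 1 by ring, Polynomial.coeff_add, Polynomial.coeff_add,
        Polynomial.coeff_X_mul, Polynomial.coeff_X_mul, Polynomial.coeff_X_mul, hzc,
        Polynomial.coeff_eq_zero_of_natDegree_lt (show Px.natDegree < 2 * i + 1 + 1 by omega),
        Polynomial.coeff_eq_zero_of_natDegree_lt (show Py.natDegree < 2 * i + 1 by omega), zero_add, zero_add,
        symC_perm (List.perm_middle (a := z) (l₁ := List.replicate i z) (l₂ := tail)),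
        List.replicate_succ, List.cons_append]
    · rw [show 2 * (i + 1) - 1 = 2 * i + 1 by omega, Polynomial.coeff_add, Polynomial.coeff_add,
        Polynomial.coeff_X_mul, Polynomial.coeff_X_mul, hyc,
        Polynomial.coeff_eq_zero_of_natDegree_lt (show Px.natDegree < 2 * i + 1 by omega), zero_add,
        Nat.add_sub_cancel, symC_perm (List.perm_middle (a := y) (l₁ := List.replicate i z) (l₂ := tail))]
      rcases Nat.eq_zero_or_pos i with rfl | hi
      · rw [Polynomial.mul_coeff_zero, Polynomial.coeff_X_zero, zero_mul, add_zero]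
        simp
      · obtain ⟨j, rfl⟩ : ∃ j, i = j + 1 := ⟨i - 1, by omega⟩
        have h := hzb hi
        rw [Nat.add_sub_cancel, show 2 * (j + 1) - 1 = 2 * j + 1 by omega] at h
        rw [show 2 * (j + 1) = 2 * j + 1 + 1 by ring, Polynomial.coeff_X_mul, h,
          symC_perm ((List.perm_middle (a := z) (l₁ := List.replicate j z) (l₂ := tail)).cons y)]
        push_cast [List.replicate_succ, List.cons_append]
        ring
    · let L := symHom (k := K) hA (List.replicate i (u t) ++ tail)
        (by rw [List.length_append, List.length_replicate]; omega)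
      have hL : ∀ w, L (Additive.ofMul w) = symC K A.left r (List.replicate i (u t) ++ w :: tail) :=
        fun w => symC_perm List.perm_middle.symm
      have h : symC K A.left r (List.replicate (i + 1) (u t) ++ tail) = L (Additive.ofMul (u t)) := rfl
      rw [h, hu L t, hL, hL, hL]
      simp only [Polynomial.eval_add, Polynomial.eval_mul, Polynomial.eval_X, hx, hy, hz]
      push_cast
      ring

/-- The degree as a symbol, for a given class. -/
theorem sym_eq_finrank {r : ℕ} (hA : topologicalKrullDim A.left = r)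
    (hAo : (A.left ↘ Spec (CommRingCat.of K)) = A.hom) (c : PicLoc.PicSet A.left) (φ : A ⟶ A) [IsMonHom φ] :
    (IsFinite φ.left → ∀ b : A.left, symC K A.left r (List.replicate r (ph φ c)) =
        (φ.left.finrank b : ℤ) * symC K A.left r (List.replicate r c)) ∧
      (¬ IsFinite φ.left → symC K A.left r (List.replicate r (ph φ c)) = 0) := by
  haveI : IsIntegral A.left := GeometricallyIntegral.isIntegral_of_subsingleton A.hom
  let M := rep c
  let l := List.replicate r M
  have hl : ∀ P ∈ l, PicF.IsInvertible P := fun P hP => by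
    rw [List.eq_of_mem_replicate hP]; exact isInvertible_rep c
  have hlr : l.length = r := List.length_replicate
  have hsym : symC K A.left r (List.replicate r (ph φ c)) =
      Vanish.sym K A.left r (l.map (Scheme.Modules.pullback φ.left).obj) (Coh.structureModule A.left) := by
    obtain ⟨e⟩ : Nonempty (rep (ph φ c) ≅ (Scheme.Modules.pullback φ.left).obj M) :=
      (PicCalc.iso_iff (cl_rep _) (PicCalc.cl_pullback φ (a := c) (cl_rep c))).2 rfl
    simp only [symC, l, List.map_replicate]
    have key : ∀ j (F : A.left.Modules),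
        Vanish.sym K A.left r (List.replicate j (rep (ph φ c))) F =
          Vanish.sym K A.left r (List.replicate j ((Scheme.Modules.pullback φ.left).obj M)) F := by
      intro j
      induction j with
      | zero => exact fun _ => rfl
      | succ j ih =>
        intro F
        rw [List.replicate_succ, List.replicate_succ, IntNum.sym_cons_iso e, IntNum.sym_congr_cons ih]
    exact key r _
  have hM : symC K A.left r (List.replicate r c) = Vanish.sym K A.left r l (Coh.structureModule A.left) := by
    simp only [symC, l, List.map_replicate]; rfl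
  have hg : φ.left ≫ (A.left ↘ Spec (CommRingCat.of K)) = A.left ↘ Spec (CommRingCat.of K) := by
    rw [hAo]; exact Over.w φ
  refine ⟨fun hfin b => ?_, fun hfin => ?_⟩
  · haveI : Surjective φ.left := (surjective_iff_isFinite A A hA hA φ).1 hfin
    obtain ⟨-, hflat⟩ := H4.IsogenyDim.isFinite_and_flat φ le_rfl
    haveI := hflat
    haveI : IsFinite φ.left := hfin
    rw [hsym, hM, H63.SymDegree.sym_pullback_finite_flat (k := K) φ.left hg hA.le hA.le l hl hlr,
      (Scheme.Hom.isLocallyConstant_finrank (f := φ.left)).apply_eq_of_preconnectedSpace b (genericPoint A.left)]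
  · haveI : IsProper φ.left := Push.isProper φ.left hg
    have hns : ¬ Surjective φ.left := fun h => hfin ((surjective_iff_isFinite A A hA hA φ).2 h)
    rw [hsym, Push.sym_push φ.left hg hA.le hA.le l hl _ (Twist.isCoh_structureModule A.left)
      ((Topology.IsInducing.subtypeVal.topologicalKrullDim_le).trans (hlr.symm ▸ hA.le))]
    refine Vanish.sym_eq_zero (Finite.cohFinite K A.left) hA.le l hl _
      (Cyc.PP.Push.isCoh_push φ.left (Twist.isCoh_structureModule A.left)) ?_
    have hT := φ.left.isClosedMap.isClosed_range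
    refine lt_of_le_of_lt (Devissage.Dim.dim_mono (Push.support_push_subset φ.left hT fun w _ => Set.mem_range_self w)) ?_
    rw [hlr]
    refine Push.dim_lt_of_pdim_lt (f := A.hom) hT fun x hx => ?_
    have hsp : genericPoint A.left ⤳ x := (genericPoint_spec A.left).specializes trivial
    have h1 := VarDim.Basic.pdim_lt A.hom hsp fun h => hns ⟨fun y => by
      rw [← h] at hx
      exact Set.mem_of_eq_of_mem rfl (hT.stableUnderSpecialization ((genericPoint_spec A.left).specializes trivial) hx)⟩
    have h2 : VarDim.Basic.pdim A.hom (genericPoint A.left) = r := by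
      have h := (VarDim.Basic.topologicalKrullDim_irreducibleSpace A.hom).symm.trans hA
      exact_mod_cast h
    omega

variable (hA : topologicalKrullDim A.left = (q + 1 : ℕ)) (hAo : (A.left ↘ Spec (CommRingCat.of K)) = A.hom)
  (c : PicLoc.PicSet A.left) (hc : ph (𝟙 A)⁻¹ c = c)

include hA hAo

/-- The inversion does not change symbols against symmetric classes. -/
theorem sym1_neg (hc : ph (𝟙 A)⁻¹ c = c) (w : PicLoc.PicSet A.left) :
    sym1 hA.le c (Additive.ofMul (ph (𝟙 A)⁻¹ w)) = sym1 hA.le c (Additive.ofMul w) := by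
  haveI : IsIntegral A.left := GeometricallyIntegral.isIntegral_of_subsingleton A.hom
  let v : A ⟶ A := (𝟙 A)⁻¹
  have hvv : v ≫ v = 𝟙 A := H63.AVSymmetric.inv_comp_inv A
  haveI : IsIso v.left := ⟨v.left, by rw [← Over.comp_left, hvv]; rfl, by rw [← Over.comp_left, hvv]; rfl⟩
  let l := rep w :: List.replicate q (rep c)
  have hl : ∀ P ∈ l, PicF.IsInvertible P := fun P hP => by
    rcases List.mem_cons.1 hP with rfl | hP
    · exact isInvertible_rep w
    · rw [List.eq_of_mem_replicate hP]; exact isInvertible_rep c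
  have hlr : l.length = q + 1 := by simp [l]
  have hg : v.left ≫ (A.left ↘ Spec (CommRingCat.of K)) = A.left ↘ Spec (CommRingCat.of K) := by
    rw [hAo]; exact Over.w v
  have h := H63.SymDegree.sym_pullback_finite_flat (k := K) v.left hg hA.le hA.le l hl hlr
  have h1 : v.left.finrank (genericPoint A.left) = 1 := by
    have hfv : IsFinite v.left := inferInstance
    have h2 := H63.DegreeHom.deg_comp hA hA hA v v
    rw [hvv, H63.DegreeHom.deg_one hA, H63.DegreeHom.deg_of_isFinite hfv] at h2
    exact Nat.eq_one_of_mul_eq_one_right h2.symm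
  rw [h1, Nat.cast_one, _root_.one_mul] at h
  obtain ⟨e⟩ : Nonempty (rep (ph v w) ≅ (Scheme.Modules.pullback v.left).obj (rep w)) :=
    (PicCalc.iso_iff (cl_rep _) (PicCalc.cl_pullback v (a := w) (cl_rep w))).2 rfl
  obtain ⟨e'⟩ : Nonempty (rep c ≅ (Scheme.Modules.pullback v.left).obj (rep c)) :=
    (PicCalc.iso_iff (cl_rep _) (PicCalc.cl_pullback v (a := c) (cl_rep c))).2 hc.symm
  have key : ∀ j (F : A.left.Modules),
      Vanish.sym K A.left (q + 1) (List.replicate j (rep c)) F =
        Vanish.sym K A.left (q + 1) (List.replicate j ((Scheme.Modules.pullback v.left).obj (rep c))) F := by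
    intro j
    induction j with
    | zero => exact fun _ => rfl
    | succ j ih =>
      intro F
      rw [List.replicate_succ, List.replicate_succ, IntNum.sym_cons_iso e', IntNum.sym_congr_cons ih]
  show symC K A.left (q + 1) (ph v w :: List.replicate q c) = symC K A.left (q + 1) (w :: List.replicate q c)
  simp only [symC, List.map_cons, List.map_replicate]
  simp only [l, List.map_cons, List.map_replicate] at h
  rw [IntNum.sym_cons_iso e, IntNum.sym_congr_cons (key q)]
  exact h

include hc

/-- The trace of `α` as a symbol. -/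
theorem coeff_eq (α : EndAV.End A) (P : Polynomial ℚ)
    (hP : ∀ j : ℤ, (IsFinite (EndAV.End.toHom (α + (j : EndAV.End A))).left →
        ∀ a : A.left, (Scheme.Hom.finrank (EndAV.End.toHom (α + (j : EndAV.End A))).left a : ℚ) = P.eval (j : ℚ)) ∧
      (¬ IsFinite (EndAV.End.toHom (α + (j : EndAV.End A))).left → P.eval (j : ℚ) = 0)) :
    P.coeff (2 * (q + 1) - 1) * (sym1 hA.le c (Additive.ofMul c) : ℚ) =
      ((q + 1 : ℕ) : ℚ) * (sym1 hA.le c (Additive.ofMul (bil c (EndAV.End.toHom α) (𝟙 A))) : ℚ) := by
  haveI : IsIntegral A.left := GeometricallyIntegral.isIntegral_of_subsingleton A.hom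
  let a : A ⟶ A := EndAV.End.toHom α
  let f : Fin 2 → (A ⟶ A) := ![a, 𝟙 A]
  let u : ℤ → PicLoc.PicSet A.left := fun t => ph (a * (𝟙 A) ^ t) c
  have hu : ∀ (S : Additive (PicLoc.PicSet A.left) →+ ℤ) (t : ℤ),
      S (Additive.ofMul (u t)) = S (Additive.ofMul (ph a c)) + t * S (Additive.ofMul (bil c a (𝟙 A))) +
        t * t * S (Additive.ofMul c) := fun S t => by
    have h := linear_quad c hc S f ![1, t]
    have ha := congrArg (fun z => S (Additive.ofMul z)) (bil_self c hc a)
    have h1 := congrArg (fun z => S (Additive.ofMul z)) (bil_self c hc (𝟙 A))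
    simp only [Fin.prod_univ_two, Fin.sum_univ_two, f, Matrix.cons_val_zero, Matrix.cons_val_one,
      zpow_one, bil_comm c (𝟙 A) a] at h
    simp only [ph_id, ofMul_mul, map_add] at ha h1
    rw [ha, h1] at h
    show S (Additive.ofMul (ph (a * (𝟙 A) ^ t) c)) = _
    linarith [h, _root_.mul_comm t t]
  obtain ⟨Q, -, -, hQ1, hQ⟩ := exists_expansion (A := A) hA.le u (ph a c) (bil c a (𝟙 A)) c hu (q + 1) []
    (by simp)
  have hD : symC K A.left (q + 1) (List.replicate (q + 1) c) = sym1 hA.le c (Additive.ofMul c) := rfl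
  have heq : Q = P * Polynomial.C (sym1 hA.le c (Additive.ofMul c) : ℚ) := by
    refine Polynomial.eq_of_infinite_eval_eq _ _
      ((Set.infinite_range_of_injective (Int.cast_injective (α := ℚ))).mono ?_)
    rintro _ ⟨t, rfl⟩
    show Q.eval (t : ℚ) = _
    rw [hQ t, List.append_nil, Polynomial.eval_mul, Polynomial.eval_C, ← hD]
    have e : EndAV.End.toHom (α + (t : EndAV.End A)) = a * (𝟙 A) ^ t := by
      rw [EndAV.End.toHom_add, EndAV.End.toHom_intCast]
    haveI : IsMonHom (a * (𝟙 A) ^ t) := e ▸ inferInstance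
    obtain ⟨h1, h2⟩ := sym_eq_finrank hA hAo c (a * (𝟙 A) ^ t)
    have hPt := hP t
    rw [e] at hPt
    show ((symC K A.left (q + 1) (List.replicate (q + 1) (ph (a * (𝟙 A) ^ t) c)) : ℤ) : ℚ) = _
    by_cases hf : IsFinite (a * (𝟙 A) ^ t).left
    · obtain ⟨b⟩ := (inferInstance : Nonempty A.left)
      rw [h1 hf b, ← hPt.1 hf b]; push_cast; ring
    · rw [h2 hf, hPt.2 hf]; simp
  have h := hQ1 (by omega)
  rw [heq, Polynomial.coeff_mul_C, Nat.add_sub_cancel, List.append_nil] at h
  exact h

omit hc

/-- The top self-intersection is positive. -/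
theorem self_pos {L : A.left.Modules} (hL : CohB1.IsAmple L) (hLc : (PicGrp.cls L hL.1)⁻¹ = c) :
    0 < sym1 hA.le c (Additive.ofMul c) := by
  haveI : IsIntegral A.left := GeometricallyIntegral.isIntegral_of_subsingleton A.hom
  let l := List.replicate (q + 1) (rep c)
  have hl : ∀ P ∈ l, PicF.IsInvertible P := fun P hP => by
    rw [List.eq_of_mem_replicate hP]; exact isInvertible_rep c
  have hLM : Nonempty (CohB1.tensorMod L (rep c) ≅ Coh.structureModule A.left) :=
    (PicCalc.iso_iff (PicCalc.cl_tensor (a := PicGrp.cls L hL.1) rfl (cl_rep c)) (b := 1) PicGrp.one_val.symm).2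
      (by rw [← hLc, mul_inv_cancel])
  have hO := Twist.isCoh_structureModule A.left
  have hsupp : CohB1.support (Coh.structureModule A.left) = Set.univ := by
    refine Set.eq_univ_of_forall fun x => ?_
    obtain ⟨e⟩ := Cyc.SheafLen.exists_unit_stalk_equiv (X := A.left) x
    exact not_subsingleton_iff_nontrivial.2 e.toEquiv.nontrivial
  have hdim : topologicalKrullDim (CohB1.support (Coh.structureModule A.left)) = (q + 1 : ℕ) := by
    rw [hsupp, IsHomeomorph.topologicalKrullDim_eq _ (Homeomorph.Set.univ A.left).isHomeomorph, hA]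
  show 0 < symC K A.left (q + 1) (List.replicate (q + 1) c)
  simp only [symC, List.map_replicate]
  refine Additive.pos A.hom (Additive.isAdd_sym (Finite.cohFinite K A.left) hA.le hl)
    (Additive.vanishBelow_sym (Finite.cohFinite K A.left) hA.le hl List.length_replicate) hO hdim fun y hy => ?_
  refine Positive.sym_closure_pos hA.le l hl (fun P hP => ?_) y (hy.2.trans (by simp [l]))
  rw [List.eq_of_mem_replicate hP]
  exact ⟨L, hL, hLM⟩

/-- A section generating everywhere is an isomorphism. -/
theorem genLocus_ne_top {M : A.left.Modules} {s : Coh.structureModule A.left ⟶ M} (hs : ¬ IsIso s) :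
    CohB1.genLocus M s ≠ ⊤ := fun h => hs <| TensorMod.LocIso.isIso_of_locally s fun x => by
  obtain ⟨U, hxU, hU⟩ := (Ample.GenLocus.mem_genLocus_iff s).1 (show x ∈ CohB1.genLocus M s by rw [h]; trivial)
  haveI := (Ample.GenLocus.isIso_restrict_iff s U).2 hU
  exact ⟨U, hxU, fun V hV => TensorMod.LocIso.isIso_app_of_isIso_restrict this hV⟩

/-- A positive divisor meets ample classes positively. -/
theorem sym_effective_pos {L : A.left.Modules} (hL : CohB1.IsAmple L) (hLc : (PicGrp.cls L hL.1)⁻¹ = c)
    {M : A.left.Modules} (hM : PicF.IsInvertible M) (s : Coh.structureModule A.left ⟶ M) (hs : s ≠ 0)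
    (hs' : ¬ IsIso s) : 0 < sym1 hA.le c (Additive.ofMul (PicGrp.cls M hM)⁻¹) := by
  haveI : IsIntegral A.left := GeometricallyIntegral.isIntegral_of_subsingleton A.hom
  haveI : IsLocallyNoetherian A.left := LocallyOfFiniteType.isLocallyNoetherian A.hom
  let N := rep (PicGrp.cls M hM)⁻¹
  have hN : PicF.IsInvertible N := isInvertible_rep _
  let l := List.replicate q (rep c)
  have hl : ∀ P ∈ l, PicF.IsInvertible P := fun P hP => by
    rw [List.eq_of_mem_replicate hP]; exact isInvertible_rep c
  have hlq : l.length = q := List.length_replicate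
  have hfin := Finite.cohFinite K A.left
  obtain ⟨hmono, hdim⟩ := Positive.dim_support_coker A.hom hA hM s
    (PosLin.TopVanish.genericPoint_mem_genLocus hM hs) (genLocus_ne_top hA hAo hs')
  haveI := hmono
  have hLM : Nonempty (CohB1.tensorMod L (rep c) ≅ Coh.structureModule A.left) :=
    (PicCalc.iso_iff (PicCalc.cl_tensor (a := PicGrp.cls L hL.1) rfl (cl_rep c)) (b := 1) PicGrp.one_val.symm).2
      (by rw [← hLc, mul_inv_cancel])
  obtain ⟨eN⟩ : Nonempty (CohB1.tensorMod N M ≅ Coh.structureModule A.left) :=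
    (PicCalc.iso_iff (PicCalc.cl_tensor (cl_rep _) (b := PicGrp.cls M hM) rfl) (b := 1) PicGrp.one_val.symm).2
      (inv_mul_cancel _)
  have hO := Twist.isCoh_structureModule A.left
  have hMc := Ample.GG.isCoh_of_isInvertible hM
  have hQ : Coh.IsCoh (cokernel s) := CohBasics.Closure.isCoh_cokernel s hO.1 hMc
  have hQpos : 0 < Vanish.sym K A.left (q + 1) l (cokernel s) :=
    Additive.pos A.hom (Additive.isAdd_sym hfin hA.le hl)
      (Additive.vanishBelow_sym hfin hA.le hl hlq) hQ hdim fun z hz =>
      Positive.sym_closure_pos hA.le l hl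
        (fun P hP => by rw [List.eq_of_mem_replicate hP]; exact ⟨L, hL, hLM⟩) z (hz.2.trans (by simp [l]))
  have hadd := (Additive.isAdd_sym hfin hA.le hl).add (Devissage.Basic.exists_ses_mono s) hO hMc hQ
  have htw : Vanish.sym K A.left (q + 1) (N :: l) M = Vanish.sym K A.left (q + 1) (N :: l) (Coh.structureModule A.left) := by
    rw [← Vanish.sym_of_iso (N :: l) (TensorMod.Basic.rightUnit M)]
    exact IntTheory.Basic.sym_twist hfin hA.le (fun P hP => by
      rcases List.mem_cons.1 hP with rfl | hP
      · exact hN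
      · exact hl P hP) hM hO ((Topology.IsInducing.subtypeVal.topologicalKrullDim_le).trans (by
        rw [hA]; simp [l]))
  show 0 < symC K A.left (q + 1) ((PicGrp.cls M hM)⁻¹ :: List.replicate q c)
  simp only [symC, List.map_cons, List.map_replicate]
  show 0 < Vanish.sym K A.left (q + 1) (N :: l) (Coh.structureModule A.left)
  rw [← htw, Vanish.sym_cons, Vanish.sym_of_iso l eN]
  change Vanish.sym K A.left (q + 1) l M = Vanish.sym K A.left (q + 1) l (Coh.structureModule A.left) +
    Vanish.sym K A.left (q + 1) l (cokernel s) at hadd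
  omega

end Sym

end Groth.Agent.Lib.H3.TraceSym
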