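import Groth.Agent.S7859
import Groth.Agent.Lib.H3.TraceSym
import Groth.Agent.Lib.H3.TracePos
import Groth.Agent.H52.DegenEuler
import Groth.Agent.H52.PicZeroTranslate
import Groth.Agent.H52.AmpleNondeg
import Groth.Agent.H4.PicZero.CubeBase
import Groth.Agent.H4.MulIso
import Groth.Agent.H63.AVDegree
import Groth.Agent.H63.HomLattice
import Groth.Agent.H63.AVProjective
import Groth.Agent.Lib.Snapper.Poly
import Mathlib.Algebra.Group.ForwardDiff

/-!
# Riemann–Roch on abelian varieties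
-/

set_option autoImplicit false
set_option linter.style.haveILetI false
set_option linter.unusedSectionVars false

universe u

open CategoryTheory MonoidalCategory CartesianMonoidalCategory MonObj GrpObj AlgebraicGeometry
open fwdDiff

noncomputable section

namespace Groth.Agent.Lib.H3.EulerRR

open Groth.Agent Groth.Agent.H3 Groth.Agent.H3.PicCalc Groth.Agent.Lib Groth.Agent.Lib.H3.TraceSym
open Groth.Agent.Lib.H3.TracePos Groth.Agent.H63.DegreePoly Groth.Agent.Lib.Snapper

local instance eulerRRLaw (Y : Scheme.{u}) : PicGrp.Law Y := Groth.Agent.Lib.TensorMod.Invertible.law Y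

theorem euler_over {K : Type u} [Field K] {Z : Scheme.{u}} (f : Z ⟶ Spec (CommRingCat.of K))
    (i : Z.Over (Spec (CommRingCat.of K))) (h : (letI := i; Z ↘ Spec (CommRingCat.of K)) = f) (M : Z.Modules) :
    @Curv2.euler K _ Z ⟨f⟩ M = @Curv2.euler K _ Z i M := by
  cases i; cases h; rfl

variable {K : Type u} [Field K] [IsAlgClosed K]
  {A : Over (Spec (CommRingCat.of K))} [GrpObj A] [IsCommMonObj A] [IsProper A.hom] [GeometricallyIntegral A.hom]
  [A.left.Over (Spec (CommRingCat.of K))] [IsProper (A.left ↘ Spec (CommRingCat.of K))] [IsNoetherian A.left]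
  {g : ℕ} (hA : topologicalKrullDim A.left = g) (hAo : (A.left ↘ Spec (CommRingCat.of K)) = A.hom)

/-- The Euler characteristic of a class. -/
def ec (c : PicLoc.PicSet A.left) : ℤ := FGA.eulerCharLE K A.left (rep c) g

theorem ec_eq {M : A.left.Modules} {c : PicLoc.PicSet A.left} (h : PicF.cl M = c.1) :
    FGA.eulerCharLE K A.left M g = ec (g := g) c := by
  obtain ⟨e⟩ := (PicCalc.iso_iff h (cl_rep c)).2 rfl
  exact Chi.eulerCharLE_of_iso e g

include hA

theorem euler_eq_ec {M : A.left.Modules} {c : PicLoc.PicSet A.left} (h : PicF.cl M = c.1) :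
    Curv2.euler K A.left M = ec (g := g) c := by
  rw [Chi.euler_eq_eulerCharLE hA.le]; exact ec_eq h

/-- Polynomiality. -/
theorem exists_poly (c d : PicLoc.PicSet A.left) :
    ∃ P : Polynomial ℚ, ∀ n : ℕ, (ec (g := g) (c ^ n * d) : ℚ) = P.eval (n : ℚ) := by
  obtain ⟨P, -, hP⟩ := Snapper.Poly.exists_poly (k := K) (d := g) (Finite.cohFinite K A.left) hA.le
    (Ample.GG.isCoh_of_isInvertible (isInvertible_rep d)) g
    ((Topology.IsInducing.subtypeVal.topologicalKrullDim_le).trans hA.le) 1 (fun _ => rep c)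
    (fun _ => isInvertible_rep c) [] (by simp)
  refine ⟨MvPolynomial.eval₂ Polynomial.C (fun _ => Polynomial.X) P, fun n => ?_⟩
  have h := hP fun _ => n
  rw [show Vanish.sym K A.left g [] (CohB1.tensorMod (FGA.multiTwist (fun _ : Fin 1 => rep c) fun _ => n) (rep d)) =
      FGA.eulerCharLE K A.left (CohB1.tensorMod (FGA.multiTwist (fun _ : Fin 1 => rep c) fun _ => n) (rep d)) g from rfl] at h
  obtain ⟨e⟩ : Nonempty (FGA.multiTwist (fun _ : Fin 1 => rep c) (fun _ => n) ≅ CohB1.tensorPow (rep c) n) :=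
    ⟨eqToIso (by simp [FGA.multiTwist, FGA.tensorList, List.finRange_succ]) ≪≫ TensorMod.Basic.rightUnit _⟩
  have hcl : PicF.cl (CohB1.tensorMod (FGA.multiTwist (fun _ : Fin 1 => rep c) fun _ => n) (rep d)) = (c ^ n * d).1 :=
    cl_tensor (a := c ^ n) ((Quot.sound ⟨e⟩ : PicF.cl _ = _).trans (H4.PicZero.cl_tensorPow (cl_rep c) n)) (cl_rep d)
  rw [ec_eq hcl] at h
  rw [h]
  rw [← Polynomial.coe_evalRingHom, MvPolynomial.eval₂_comp_left]
  simp only [Function.comp_def, Polynomial.coe_evalRingHom, Polynomial.eval_X]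
  rw [show (Polynomial.evalRingHom (n : ℚ)).comp Polynomial.C = RingHom.id ℚ from RingHom.ext fun _ => Polynomial.eval_C]
  rfl

include hAo

/-- Twisting by a translation invariant class. -/
theorem ec_mul_inv (c m : PicLoc.PicSet A.left) (hm : TransInv.Inv m) : ec (g := g) (c * m) = ec (g := g) c := by
  obtain ⟨L₀, hL₀⟩ := H63.AVProjective.exists_isAmple A
  let μ₀ := PicGrp.cls L₀ hL₀.1
  have hnd : Set.Finite {x : 𝟙_ (Over (Spec (CommRingCat.of K))) ⟶ A | ph (𝟙 A * (toUnit A ≫ x)) μ₀ = μ₀} :=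
    (H52.AmpleNondeg.finite_translationFixing A L₀ hL₀).subset fun a ha =>
      (iso_iff (cl_pullback (𝟙 A * (toUnit A ≫ a)) (a := μ₀) rfl) (b := μ₀) rfl).2 ha
  obtain ⟨x, hx⟩ := H52.PicZeroTranslate.exists_translate μ₀ m hm hnd
  obtain ⟨L', hL', hL'c⟩ := PicGrp.exists_eq_cls (c * m)
  have h := H52.DegenEuler.euler_twist c μ₀ x (rep c) L' (isInvertible_rep c) hL'
    (Subtype.ext (cl_rep c)) (by rw [← hL'c, ← hx])
  have e : ∀ M : A.left.Modules, @Curv2.euler K _ A.left ⟨A.hom⟩ M = Curv2.euler K A.left M :=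
    euler_over A.hom _ hAo
  rw [e, e, euler_eq_ec hA (cl_rep c), euler_eq_ec hA (c := c * m) (by rw [hL'c]; rfl)] at h
  exact h.symm

/-- Pulling back along multiplication by `n`. -/
theorem ec_pull {n : ℕ} (hn : n ≠ 0) (c : PicLoc.PicSet A.left) :
    ec (g := g) (ph ((𝟙 A) ^ n) c) = (n : ℤ) ^ (2 * g) * ec (g := g) c := by
  have hn' : (n : ℤ) ≠ 0 := Int.natCast_ne_zero.2 hn
  obtain ⟨hf, hflat, -⟩ := H4.MulIso.int A hn'
  rw [zpow_natCast] at hf hflat
  haveI := hf
  haveI := hflat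
  have hd : ∀ y : A.left, Scheme.Hom.finrank ((𝟙 A : A ⟶ A) ^ n).left y = n ^ (2 * g) := fun y => by
    rw [← zpow_natCast (𝟙 A : A ⟶ A) n, H63.AVDegree.finrank_zpow A hA hn', Int.natAbs_natCast]
  have h := Groth.Agent.S7859.result K A A ((𝟙 A : A ⟶ A) ^ n) _ hd (rep c)
    (Ample.GG.isCoh_of_isInvertible (isInvertible_rep c))
  have e : ∀ M : A.left.Modules, @Curv2.euler K _ A.left ⟨A.hom⟩ M = Curv2.euler K A.left M :=
    euler_over A.hom _ hAo
  rw [e, e, euler_eq_ec hA (cl_pullback ((𝟙 A : A ⟶ A) ^ n) (cl_rep c)), euler_eq_ec hA (cl_rep c)] at h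
  rw [h]; push_cast; ring

/-- Homogeneity. -/
theorem ec_pow (c : PicLoc.PicSet A.left) (n : ℕ) : ec (g := g) (c ^ n) = (n : ℤ) ^ g * ec (g := g) c := by
  let s := c * ph (𝟙 A)⁻¹ c
  have hs : ph (𝟙 A)⁻¹ s = s := by
    rw [map_mul, ← ph_comp, H63.AVSymmetric.inv_comp_inv, ph_id, _root_.mul_comm]
  obtain ⟨P, hP⟩ := exists_poly hA c 1
  obtain ⟨Q, hQ⟩ := exists_poly hA s 1
  simp only [_root_.mul_one] at hP hQ
  -- scaling of the symmetric class
  have hscale : ∀ a m : ℕ, m ≠ 0 → Q.eval (((m * m * a : ℕ)) : ℚ) = (m : ℚ) ^ (2 * g) * Q.eval (a : ℚ) := by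
    intro a m hm
    have h := H4.PicZero.ph_pow_base (𝟙 A) (s ^ a) m
    rw [CubeRel.ph_one, one_pow, _root_.mul_one, _root_.mul_one, ph_id, map_pow (ph (𝟙 A)⁻¹) s a, hs, ← pow_add,
      ← pow_mul] at h
    have hch : ((m + 1).choose 2 + m.choose 2) = m * m := by
      clear h hm
      induction m with
      | zero => rfl
      | succ m ih =>
        rw [Nat.choose_succ_succ (m + 1) 1, Nat.choose_one_right]
        have := Nat.choose_succ_succ m 1
        rw [Nat.choose_one_right] at this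
        simp only [Nat.succ_eq_add_one, Nat.reduceAdd] at this ⊢
        nlinarith
    rw [hch, Nat.mul_comm a] at h
    rw [← hQ, ← hQ, ← h, ec_pull hA hAo hm]
    push_cast; ring
  have hQc : ∀ i, i ≠ g → Q.coeff i = 0 := fun i hi => by
    have e : Q.comp (Polynomial.C 4 * Polynomial.X) = Polynomial.C ((2 : ℚ) ^ (2 * g)) * Q := by
      refine Polynomial.eq_of_infinite_eval_eq _ _
        ((Set.infinite_range_of_injective (Nat.cast_injective (R := ℚ))).mono ?_)
      rintro _ ⟨a, rfl⟩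
      have h := hscale a 2 two_ne_zero
      show Polynomial.eval _ _ = Polynomial.eval _ _
      simp only [Polynomial.eval_comp, Polynomial.eval_mul, Polynomial.eval_C, Polynomial.eval_X]
      push_cast at h
      rw [← h]
    have h := congrArg (fun p => Polynomial.coeff p i) e
    simp only [Polynomial.comp_C_mul_X_coeff, Polynomial.coeff_C_mul] at h
    by_contra hne
    have h2 : (4 : ℚ) ^ i = 4 ^ g := by
      rw [_root_.mul_comm (Q.coeff i)] at h
      rw [mul_right_cancel₀ hne h, pow_mul]; norm_num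
    exact hi (pow_right_injective₀ (by norm_num) (by norm_num) h2)
  -- comparison with the class
  have hinv : ∀ a : ℕ, TransInv.Inv ((c * (ph (𝟙 A)⁻¹ c)⁻¹) ^ a) := fun a x => by
    have h1 : phi x ((c * (ph (𝟙 A)⁻¹ c)⁻¹) ^ a) = 1 := by
      rw [map_pow, map_mul, map_inv, phi_neg, mul_inv_cancel, one_pow]
    exact mul_inv_eq_one.1 h1
  have hPQ : ∀ a : ℕ, P.eval ((2 * a : ℕ) : ℚ) = Q.eval (a : ℚ) := fun a => by
    rw [← hP, ← hQ, ← ec_mul_inv hA hAo (s ^ a) _ (hinv a), ← mul_pow]
    congr 2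
    rw [pow_mul]
    congr 1
    rw [_root_.mul_mul_mul_comm, mul_inv_cancel, _root_.mul_one, pow_two]
  have hPc : ∀ i, i ≠ g → P.coeff i = 0 := fun i hi => by
    have e : P.comp (Polynomial.C 2 * Polynomial.X) = Q := by
      refine Polynomial.eq_of_infinite_eval_eq _ _
        ((Set.infinite_range_of_injective (Nat.cast_injective (R := ℚ))).mono ?_)
      rintro _ ⟨a, rfl⟩
      have h := hPQ a
      show Polynomial.eval _ _ = Polynomial.eval _ _
      simp only [Polynomial.eval_comp, Polynomial.eval_mul, Polynomial.eval_C, Polynomial.eval_X]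
      push_cast at h
      exact h
    have h := congrArg (fun p => Polynomial.coeff p i) e
    simp only [Polynomial.comp_C_mul_X_coeff, hQc i hi] at h
    exact (mul_eq_zero.1 h).resolve_right (pow_ne_zero _ two_ne_zero)
  have hPm : P = Polynomial.monomial g (P.coeff g) := Polynomial.ext fun i => by
    rw [Polynomial.coeff_monomial]
    split_ifs with h
    · rw [h]
    · exact hPc i (Ne.symm h)
  have h1 := hP 1
  have hn := hP n
  rw [hPm, Polynomial.eval_monomial] at h1 hn
  rw [pow_one, Nat.cast_one, one_pow, _root_.mul_one] at h1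
  rw [← h1, _root_.mul_comm] at hn
  exact_mod_cast hn

/-- Homogeneity for all integers. -/
theorem ec_zpow (c : PicLoc.PicSet A.left) (t : ℤ) : ec (g := g) (c ^ t) = t ^ g * ec (g := g) c := by
  obtain ⟨N, rfl | rfl⟩ := t.eq_nat_or_neg
  · rw [zpow_natCast]; exact ec_pow hA hAo c N
  obtain ⟨R, hR⟩ := exists_poly hA c (c ^ (-(N : ℤ)))
  have e : R = ((Polynomial.X - Polynomial.C (N : ℚ)) ^ g) * Polynomial.C ((ec (g := g) c : ℤ) : ℚ) := by
    refine Polynomial.eq_of_infinite_eval_eq _ _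
      ((Set.infinite_range_of_injective (f := fun a : ℕ => ((a + N : ℕ) : ℚ))
        (fun a b h => by simpa using h)).mono ?_)
    rintro _ ⟨a, rfl⟩
    show Polynomial.eval _ _ = Polynomial.eval _ _
    rw [← hR, show c ^ (a + N) * c ^ (-(N : ℤ)) = c ^ a by
      rw [← zpow_natCast, ← zpow_add, ← zpow_natCast]; congr 1; push_cast; ring, ec_pow hA hAo c a]
    simp
  have h := hR 0
  rw [e] at h
  simp only [pow_zero, _root_.one_mul, Nat.cast_zero, Polynomial.eval_mul, Polynomial.eval_pow, Polynomial.eval_sub,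
    Polynomial.eval_X, Polynomial.eval_C, zero_sub] at h
  exact_mod_cast h

omit hA hAo in
/-- The symbol against a repeated class as a difference. -/
theorem sym_eq_fwdDiff (c : PicLoc.PicSet A.left) : ∀ (j : ℕ) (F : A.left.Modules) (i : ℤ), PicF.cl F = (c ^ i).1 →
    Vanish.sym K A.left g (List.replicate j (rep c)) F =
      (-1) ^ j * ((fwdDiff (1 : ℤ))^[j] (fun t => ec (g := g) (c ^ t))) i
  | 0, F, i, hF => by
    rw [pow_zero, _root_.one_mul, Function.iterate_zero_apply]
    exact ec_eq hF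
  | j + 1, F, i, hF => by
    rw [List.replicate_succ, Vanish.sym_cons, sym_eq_fwdDiff c j F i hF,
      sym_eq_fwdDiff c j _ (i + 1) ((cl_tensor (cl_rep c) hF).trans (congrArg Subtype.val (by
        rw [_root_.mul_comm, zpow_add_one]))),
      Function.iterate_succ_apply', fwdDiff, pow_succ]
    ring

/-- Riemann–Roch. -/
theorem factorial_mul_ec (c : PicLoc.PicSet A.left) :
    (Nat.factorial g : ℤ) * ec (g := g) c =
      Vanish.sym K A.left g (List.replicate g (rep c⁻¹)) (Coh.structureModule A.left) := by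
  rw [sym_eq_fwdDiff c⁻¹ g _ 0 (by rw [zpow_zero]; exact PicGrp.one_val.symm)]
  have hf : (fun t : ℤ => ec (g := g) (c⁻¹ ^ t)) = ((-1 : ℤ) ^ g * ec (g := g) c) • fun t : ℤ => t ^ g := by
    funext t
    rw [inv_zpow', ec_zpow hA hAo c (-t), Pi.smul_apply, smul_eq_mul, neg_pow]
    ring
  rw [hf, fwdDiff_iter_const_smul, Pi.smul_apply, fwdDiff_iter_eq_factorial, smul_eq_mul, Pi.natCast_apply,
    ← _root_.mul_assoc, ← _root_.mul_assoc, ← mul_pow, neg_one_mul, neg_neg, one_pow, _root_.one_mul, _root_.mul_comm]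

end Groth.Agent.Lib.H3.EulerRR
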