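import Groth.Agent.H52.PoincareSlices
import Groth.Agent.H52.PoincareCoh
import Groth.Agent.H52.RigidResidue
import Groth.Agent.H52.RestrictLinear
import Groth.Agent.H52.Acyclicity

/-!
# The cohomology of the Poincaré bundle
-/

set_option autoImplicit false
set_option linter.style.haveILetI false
universe u

open CategoryTheory CategoryTheory.Limits MonoidalCategory CartesianMonoidalCategory MonObj AlgebraicGeometry
open TopologicalSpace
open Groth.Agent.H52
open Groth.Agent.H52.PoincareCoh (trivial_iff)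
open Groth.Agent.H3
open Groth.Agent.Lib.GrpQ.MonoClosed (ptOf exists_ptOf)
open Groth.Agent.Lib.H3.SeesawSch (bcP bcG bcQ)
open ZarCoh.Exchange.Local (AV XV MV toSpec toGlobal_toSpec)

namespace Groth.Agent.Lib.H3.FamCoh

noncomputable section

local instance (Y : Scheme.{u}) : PicGrp.Law Y := Groth.Agent.Lib.TensorMod.Invertible.law Y

variable {K : Type u} [Field K] {A At : Over (Spec (CommRingCat.of K))}

local notation "S" => Spec (CommRingCat.of K)

variable [IsAlgClosed K] [GrpObj A] [IsProper A.hom] [Smooth A.hom] [GeometricallyIntegral A.hom]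
  [GrpObj At] [IsProper At.hom] [Smooth At.hom] [GeometricallyIntegral At.hom]
  (x : PicLoc.PicSet (A ⊗ At).left)
  (hinv : ∀ t : 𝟙_ (Over (Spec (CommRingCat.of K))) ⟶ At, TransInv.Inv (PicCalc.ph (PoincareSlices.slice t) x))
  (hne : ∀ t : 𝟙_ (Over (Spec (CommRingCat.of K))) ⟶ At, t ≠ 1 → PicCalc.ph (PoincareSlices.slice t) x ≠ 1)
  (hfam : ∀ (T : Over (Spec (CommRingCat.of K))) (g : T ⟶ At), PicCalc.ph (A ◁ g) x = 1 → g = 1)
  (hone : ∀ T : Over (Spec (CommRingCat.of K)), PicCalc.ph (A ◁ (1 : T ⟶ At)) x = 1)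

include hinv hne hfam hone in
/-- **The cohomology of a separating family of invariant classes.** -/
theorem exists_coh (D : (A ⊗ At).left.Modules) (hD : PicF.IsInvertible D) (hDx : PicGrp.cls D hD = x) (g : ℕ)
    (hg : topologicalKrullDim A.left = g) (hgt : topologicalKrullDim At.left = g) :
    (∀ n, n ≠ g → Subsingleton (Coh.HH (A ⊗ At).left D n)) ∧
      @Module.finrank K (Coh.HH (A ⊗ At).left D g) _ _
        (@Coh.moduleOver K _ (A ⊗ At).left ⟨(A ⊗ At).hom⟩ D g) = 1 := by
  haveI : IsIntegral At.left := GeometricallyIntegral.isIntegral_of_subsingleton At.hom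
  haveI : IsLocallyNoetherian A.left := LocallyOfFiniteType.isLocallyNoetherian A.hom
  haveI : IsLocallyNoetherian At.left := LocallyOfFiniteType.isLocallyNoetherian At.hom
  haveI : JacobsonSpace At.left := LocallyOfFiniteType.jacobsonSpace At.hom
  haveI : CompactSpace At.left := QuasiCompact.compactSpace_of_compactSpace At.hom
  haveI : IsNoetherian At.left := {}
  let f := (snd A At).left
  haveI : IsProper f := inferInstanceAs (IsProper (pullback.snd A.hom At.hom))
  haveI : Flat f := inferInstanceAs (Flat (pullback.snd A.hom At.hom))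
  haveI : GeometricallyIntegral f := inferInstanceAs (GeometricallyIntegral (pullback.snd A.hom At.hom))
  haveI : Smooth f := inferInstanceAs (Smooth (pullback.snd A.hom At.hom))
  haveI : IsProper (A ⊗ At).hom := inferInstanceAs (IsProper (pullback.fst A.hom At.hom ≫ A.hom))
  haveI : IsLocallyNoetherian (A ⊗ At).left := LocallyOfFiniteType.isLocallyNoetherian (A ⊗ At).hom
  have hcoh := Groth.Agent.Lib.Ample.GG.isCoh_of_isInvertible hD
  have hfl := Groth.Agent.Lib.Cube.FamCx.isFlatOver_of_isInvertible f hD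
  haveI : D.IsQuasicoherent := hcoh.1
  let e₀ : At.left := ptOf (1 : 𝟙_ (Over S) ⟶ At)
  have hclosed : IsClosed ({e₀} : Set At.left) :=
    (pointEquivClosedPoint At.hom ⟨(1 : 𝟙_ (Over S) ⟶ At).left, Over.w _⟩).2
  have hpt : ∀ y (hy : IsClosed ({y} : Set At.left)), ∃ t : 𝟙_ (Over S) ⟶ At,
      t.left = pointOfClosedPoint At.hom y hy ∧ ptOf t = y := fun y hy =>
    ⟨Over.homMk (pointOfClosedPoint At.hom y hy) (pointOfClosedPoint_comp At.hom y hy), rfl,
      pointOfClosedPoint_apply At.hom y hy _⟩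
  have hcls : ∀ t : 𝟙_ (Over S) ⟶ At, PicGrp.cls
      ((Scheme.Modules.pullback (PoincareSlices.slice (A := A) t).left).obj D)
      (PicLoc.isInvertible_pullback _ hD) = PicCalc.ph (PoincareSlices.slice t) x := fun t => by
    refine (Subtype.ext (PicCalc.cl_pullback _ (a := PicGrp.cls D hD) rfl)).trans ?_
    rw [hDx]
  have hoff : ∀ y, y ≠ e₀ → IsClosed ({y} : Set At.left) → ∀ n, Subsingleton (CohIII.fiberH f D y n) := by
    intro y hye hy n
    obtain ⟨t, ht, hty⟩ := hpt y hy
    obtain ⟨e⟩ := PoincareSlices.exists_fiber_iso (snd A At) D hD y hy _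
      (ht ▸ PoincareSlices.isPullback_slice t) n
    haveI := PicZeroTranslate.acyclic _ (PicLoc.isInvertible_pullback _ hD)
      (show TransInv.Inv (PicGrp.cls ((Scheme.Modules.pullback (PoincareSlices.slice (A := A) t).left).obj D)
        (PicLoc.isInvertible_pullback _ hD)) by
        rw [hcls]
        exact hinv t)
      (by
        rw [hcls]
        exact hne t (fun h => hye (by rw [← hty, h]))) n
    exact e.symm.toEquiv.subsingleton
  have habove : ∀ n, g < n → ∀ y, IsClosed ({y} : Set At.left) → Subsingleton (CohIII.fiberH f D y n) := by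
    intro n hn y hy
    obtain ⟨t, ht, -⟩ := hpt y hy
    obtain ⟨e⟩ := PoincareSlices.exists_fiber_iso (snd A At) D hD y hy _
      (ht ▸ PoincareSlices.isPullback_slice t) n
    haveI : CompactSpace A.left := QuasiCompact.compactSpace_of_compactSpace A.hom
    haveI : IsNoetherian A.left := {}
    haveI : Subsingleton (Coh.HH A.left _ n) := Groth.Agent.S0458.result g hg.le
      (Coh.toAb ((Scheme.Modules.pullback (PoincareSlices.slice (A := A) t).left).obj D)) n hn
    exact e.symm.toEquiv.subsingleton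
  -- the affine neighbourhood
  obtain ⟨V, hV, heV, -⟩ := exists_isAffineOpen_mem_and_subset (show e₀ ∈ (⊤ : At.left.Opens) from trivial)
  haveI : IsAffine (V : Scheme.{u}) := hV
  let U : At.left.Opens := ⟨{e₀}ᶜ, hclosed.isOpen_compl⟩
  have hU : ∀ W : At.left.Opens, W ≤ U → ∀ n, Subsingleton (CohTop.HU (Coh.toAb D) n (f ⁻¹ᵁ W)) :=
    fun W hW n => RelAcyclic.subsingleton_HU_of_affine f D U (fun W' hW' hW'a => RelAcyclic.subsingleton_HU
      f D hcoh hfl W' hW'a fun y hyW hy => hoff y (hW' hyW) hy) W hW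
        (NoetherianSpace.isCompact _) n
  have hreg : ∀ y ∈ ({e₀} : Set At.left), IsRegularLocalRing (At.left.presheaf.stalk y) ∧
      ringKrullDim (At.left.presheaf.stalk y) = g := by
    rintro y rfl
    exact ⟨Groth.Agent.Lib.Cyc.SmoothReg.isRegularLocalRing_stalk At.hom e₀,
      (Groth.Agent.Lib.AffineCompl.Dim.ringKrullDim_stalk_of_isClosed At.hom hclosed).trans hgt⟩
  have hVne : ∀ n, n ≠ g → Subsingleton (CohTop.HU (Coh.toAb D) n (f ⁻¹ᵁ V)) := fun n hn => by
    rcases lt_or_gt_of_ne hn with h | h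
    · exact Acyclicity.subsingleton_HU_lt f D hcoh hfl V hV {e₀} (Set.finite_singleton _) g
        (by rintro y rfl; exact hclosed) hreg (fun y _ hy => hoff y hy) n h
    · exact Acyclicity.subsingleton_HU_degree f D hcoh hfl V hV n fun y _ => habove n h y
  have hVU : V ⊔ U = ⊤ := by
    ext y
    simp only [Opens.coe_sup, Set.mem_union, Opens.coe_top, Set.mem_univ, iff_true]
    exact (em (y = e₀)).imp (fun h : y = e₀ => (congrArg (· ∈ V) h).mpr heV) id
  have htop : f ⁻¹ᵁ V ⊔ f ⁻¹ᵁ U = ⊤ := by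
    rw [← Scheme.Hom.preimage_sup, hVU, Scheme.Hom.preimage_top]
  refine ⟨fun n hn => ?_, ?_⟩
  · suffices h : Subsingleton (CohTop.HU (Coh.toAb D) n ⊤) from
      @Equiv.subsingleton _ _ (Groth.Agent.Lib.ZarCoh.Compare.hTop (Coh.toAb D) n).toEquiv h
    rw [← htop]
    haveI := hVne n hn
    haveI := hU U le_rfl n
    cases n with
    | zero => exact RelAcyclic.subsingleton_HU_zero _ _ _
    | succ n =>
      haveI : Subsingleton (CohTop.HU (Coh.toAb D) n (f ⁻¹ᵁ V ⊓ f ⁻¹ᵁ U)) := hU (V ⊓ U) inf_le_right n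
      exact Groth.Agent.Lib.Cech.MV.subsingleton_HU_sup _ _ _ n
  -- the top degree is supported at the origin
  have hres : Function.Bijective (CohTop.res (Coh.toAb D) g (le_top : f ⁻¹ᵁ V ≤ ⊤)) := by
    have key : ∀ (O : (A ⊗ At).left.Opens) (hO : O = ⊤) (hle : f ⁻¹ᵁ V ≤ O),
        Function.Bijective (CohTop.res (Coh.toAb D) g hle) →
        Function.Bijective (CohTop.res (Coh.toAb D) g (le_top : f ⁻¹ᵁ V ≤ ⊤)) := by
      rintro _ rfl hle h
      exact h
    refine key _ htop le_sup_left ⟨?_, fun z => ?_⟩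
    · cases g with
      | zero =>
        haveI : Subsingleton At.left := by
          by_contra hns
          haveI := not_subsingleton_iff_nontrivial.1 hns
          obtain ⟨y, hy⟩ := exists_ne e₀
          let p₀ : TopologicalSpace.IrreducibleCloseds At.left := ⟨{e₀}, isIrreducible_singleton, hclosed⟩
          let p₁ : TopologicalSpace.IrreducibleCloseds At.left :=
            ⟨Set.univ, irreducibleSpace_def _ |>.1 inferInstance, isClosed_univ⟩
          have hlt : p₀ < p₁ := by
            refine lt_of_le_of_ne (SetLike.coe_subset_coe.1 (Set.subset_univ _)) fun h => hy ?_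
            exact (congrArg SetLike.coe h).ge (Set.mem_univ y)
          let s : LTSeries (TopologicalSpace.IrreducibleCloseds At.left) :=
            (RelSeries.singleton _ p₀).snoc p₁ hlt
          have h1 := Order.LTSeries.length_le_krullDim s
          have h2 : topologicalKrullDim At.left = ((0 : ℕ) : WithBot ℕ∞) := hgt
          unfold topologicalKrullDim at h2
          rw [h2] at h1
          have h3 : ((1 : ℕ) : WithBot ℕ∞) ≤ ((0 : ℕ) : WithBot ℕ∞) := h1
          exact absurd (show (1 : ℕ) ≤ 0 by exact_mod_cast h3) (by omega)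
        have hVtop : V = ⊤ := by
          ext y
          simp only [Opens.coe_top, Set.mem_univ, iff_true]
          rw [Subsingleton.elim y e₀]
          exact heV
        have hle : f ⁻¹ᵁ V ⊔ f ⁻¹ᵁ U ≤ f ⁻¹ᵁ V := by rw [hVtop, Scheme.Hom.preimage_top]; exact le_top
        intro a b h
        have e : f ⁻¹ᵁ V ⊔ f ⁻¹ᵁ U = f ⁻¹ᵁ V := le_antisymm hle le_sup_left
        have := congrArg (CohTop.res (Coh.toAb D) 0 e.le) h
        simp only [CohTop.res, ← ConcreteCategory.comp_apply, ← Functor.map_comp, ← op_comp] at this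
        simpa using this
      | succ g =>
        refine (injective_iff_map_eq_zero _).2 fun z hz => ?_
        haveI := hU U le_rfl (g + 1)
        haveI : Subsingleton (CohTop.HU (Coh.toAb D) g (f ⁻¹ᵁ V ⊓ f ⁻¹ᵁ U)) := hU (V ⊓ U) inf_le_right g
        obtain ⟨w, rfl⟩ := Groth.Agent.Lib.Cech.MV.exists_δ_eq _ _ _ g z hz (Subsingleton.elim _ _)
        rw [Subsingleton.elim w 0, map_zero]
    · haveI : Subsingleton (CohTop.HU (Coh.toAb D) g (f ⁻¹ᵁ V ⊓ f ⁻¹ᵁ U)) := hU (V ⊓ U) inf_le_right g
      obtain ⟨w, hw, -⟩ := Groth.Agent.Lib.Cech.MV.exists_res_eq (Coh.toAb D) _ _ g z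
        (0 : CohTop.HU (Coh.toAb D) g (f ⁻¹ᵁ U)) (Subsingleton.elim _ _)
      exact ⟨w, hw⟩
  -- the local ring at the origin
  let Av := AV V
  let kV := ZarCoh.Exchange.LocalRep.k V
  obtain ⟨str, hstr⟩ := Spec.map_surjective (kV ≫ At.hom : Spec (CommRingCat.of Av) ⟶ S)
  let η₀ : S ⟶ (V : Scheme.{u}) := IsOpenImmersion.lift V.ι (1 : 𝟙_ (Over S) ⟶ At).left (by
    rw [Scheme.Opens.range_ι]
    rintro _ ⟨p, rfl⟩
    rw [Subsingleton.elim p (IsLocalRing.closedPoint K)]
    exact heV)
  obtain ⟨χ, hχ⟩ := Spec.map_surjective (η₀ ≫ (V : Scheme.{u}).isoSpec.hom : S ⟶ Spec (CommRingCat.of Av))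
  have hχV : Spec.map χ ≫ kV = (1 : 𝟙_ (Over S) ⟶ At).left := by
    rw [hχ]
    show (η₀ ≫ _) ≫ (V : Scheme.{u}).isoSpec.inv ≫ V.ι = _
    rw [Category.assoc, Iso.hom_inv_id_assoc, IsOpenImmersion.lift_fac]
  have hχs : ∀ r, χ.hom (str.hom r) = r := fun r => by
    have h : Spec.map (str ≫ χ) = Spec.map (𝟙 _) := by
      rw [Spec.map_comp, hstr, ← Category.assoc, hχV, Spec.map_id]
      exact Over.w (1 : 𝟙_ (Over S) ⟶ At)
    exact ConcreteCategory.congr_hom (Spec.map_injective h) r
  let m : Ideal Av := RingHom.ker χ.hom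
  haveI : m.IsMaximal := RingHom.ker_isMaximal_of_surjective χ.hom fun r => ⟨str.hom r, hχs r⟩
  let v₀ : (V : Scheme.{u}) := ⟨e₀, heV⟩
  have htop' : IsAffineOpen (⊤ : (V : Scheme.{u}).Opens) := isAffineOpen_top _
  have hkm : kV ⟨m, inferInstance⟩ = e₀ := by
    have h1 : (⟨m, inferInstance⟩ : PrimeSpectrum Av) = Spec.map χ (IsLocalRing.closedPoint K) := by
      refine PrimeSpectrum.ext ?_
      show m = Ideal.comap χ.hom (IsLocalRing.maximalIdeal K)
      rw [IsLocalRing.maximalIdeal_eq_bot, ← RingHom.ker_eq_comap_bot]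
    rw [h1]
    show (Spec.map χ ≫ kV) (IsLocalRing.closedPoint K) = e₀
    rw [hχV]
    rfl
  have hm₀ : ∀ p : PrimeSpectrum Av, kV p = e₀ → p.asIdeal = m := fun p hp =>
    congrArg PrimeSpectrum.asIdeal (kV.isOpenEmbedding.injective (hp.trans hkm.symm))
  haveI hregm : IsRegularLocalRing (Localization.AtPrime m) ∧
      ringKrullDim (Localization.AtPrime m) = g := by
    let v := htop'.fromSpec ⟨m, inferInstance⟩
    have hq : htop'.primeIdealOf ⟨v, trivial⟩ = ⟨m, inferInstance⟩ :=
      htop'.fromSpec.isOpenEmbedding.injective (htop'.fromSpec_primeIdealOf ⟨v, trivial⟩)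
    have hv : V.ι v = e₀ := by
      rw [← hkm]
      show V.ι (htop'.fromSpec _) = ((V : Scheme.{u}).isoSpec.inv ≫ V.ι) _
      rw [IsAffineOpen.fromSpec_top]
      rfl
    letI := TopCat.Presheaf.algebra_section_stalk (V : Scheme.{u}).presheaf (U := ⊤) ⟨v, trivial⟩
    haveI := htop'.isLocalization_stalk ⟨v, trivial⟩
    let p := (htop'.primeIdealOf ⟨v, trivial⟩).asIdeal
    have hp : p = m := congrArg PrimeSpectrum.asIdeal hq
    let e : (At.left.presheaf.stalk (V.ι v)) ≃+* Localization.AtPrime p :=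
      ((V.stalkIso v).symm.commRingCatIsoToRingEquiv).trans
        (IsLocalization.algEquiv p.primeCompl ((V : Scheme.{u}).presheaf.stalk v)
          (Localization.AtPrime p)).toRingEquiv
    haveI := (hreg _ hv).1
    have h1 : IsRegularLocalRing (Localization.AtPrime p) ∧ ringKrullDim (Localization.AtPrime p) = g :=
      ⟨IsRegularLocalRing.of_ringEquiv e, by rw [← ringKrullDim_eq_of_ringEquiv e, (hreg _ hv).2]⟩
    have key : ∀ (q : Ideal Av) [q.IsPrime] (_ : p = q),
        IsRegularLocalRing (Localization.AtPrime q) ∧ ringKrullDim (Localization.AtPrime q) = g := by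
      rintro q _ rfl
      exact h1
    exact key m hp
  haveI := hregm.1
  have hgen : (IsLocalRing.maximalIdeal (Localization.AtPrime m)).spanFinrank = g := by
    have h := IsRegularLocalRing.spanFinrank_maximalIdeal (R := Localization.AtPrime m)
    rw [hregm.2] at h
    exact_mod_cast h
  -- the family over `V`
  let W := XV f V
  let L := MV f V D
  have hR := ZarCoh.Exchange.LocalRep.isPullback_k f V
  have hL : PicF.IsInvertible L := Groth.Agent.Lib.TensorMod.Invertible.isInvertible_of_iso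
    ((Scheme.Modules.restrictFunctorIsoPullback (f ⁻¹ᵁ V).ι).app D).symm
    (PicLoc.isInvertible_pullback (f ⁻¹ᵁ V).ι hD)
  haveI : Flat (W ↘ Spec (CommRingCat.of Av)) := MorphismProperty.of_isPullback hR ‹Flat f›
  haveI : GeometricallyIntegral (W ↘ Spec (CommRingCat.of Av)) :=
    MorphismProperty.of_isPullback hR ‹GeometricallyIntegral f›
  haveI : Smooth (W ↘ Spec (CommRingCat.of Av)) := MorphismProperty.of_isPullback hR ‹Smooth f›
  have hHV : ∀ n, Nonempty (Coh.HH W L n ≃+ CohTop.HU (Coh.toAb D) n (f ⁻¹ᵁ V)) := fun n =>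
    Groth.Agent.Lib.ZarCoh.Morph.nonempty_HHon_equiv D (f ⁻¹ᵁ V) n
  have hlow : ∀ n : ℕ, n < g → Subsingleton (Coh.HH W L n) := fun n hn => by
    obtain ⟨e⟩ := hHV n
    haveI := hVne n hn.ne
    exact e.toEquiv.subsingleton
  have hkill : ∃ n, ∀ a ∈ m ^ n, ∀ h : Coh.HH W L g, a • h = 0 := by
    haveI : IsLocallyNoetherian W := LocallyOfFiniteType.isLocallyNoetherian (W ↘ Spec (CommRingCat.of Av))
    haveI : Module.Finite Av (Coh.HH W L g) := ZarCoh.Exchange.Proper.finite_HH Av L
      (Groth.Agent.Lib.RefHull.LocFree.isCoh_restrict hcoh (f ⁻¹ᵁ V)) g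
    obtain ⟨s⟩ := ZarCoh.Exchange.LocalRep.nonempty_sections f V D g
    haveI : ((Coh.Rpush f g).obj D).IsQuasicoherent := Groth.Agent.S0030.result f D g
    have hrad : m ≤ (Module.annihilator Av (Coh.HH W L g)).radical := by
      rw [Ideal.radical_eq_sInf]
      refine le_sInf fun p ⟨hle, hp⟩ => ?_
      let q : PrimeSpectrum Av := ⟨p, hp⟩
      have hq : q ∈ Module.support Av (Coh.HH W L g) := by
        rw [Module.support_eq_zeroLocus]
        exact hle
      let v : (V : Scheme.{u}) := htop'.fromSpec q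
      by_cases hve : kV q = e₀
      · exact (hm₀ q hve).ge
      exfalso
      obtain ⟨a, ha⟩ := Module.mem_support_iff_exists_annihilator.1 hq
      let G := ((Coh.Rpush f g).obj D).restrict V.ι
      have hv : V.ι v = kV q := by
        show V.ι (htop'.fromSpec _) = ((V : Scheme.{u}).isoSpec.inv ≫ V.ι) _
        rw [IsAffineOpen.fromSpec_top]
        rfl
      have hns : v ∉ CohB1.support G :=
        Acyclicity.notMem_support f D hcoh hfl V U g (fun y hy hyc => hoff y hy.2 hyc g) v
          (by rw [hv]; exact hve)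
      haveI : Subsingleton (G.presheaf.stalk v) := by
        by_contra hc; exact hns hc
      obtain ⟨r, hr, hr0⟩ := (Groth.Agent.Lib.QCoh.Stalk.germ_eq_zero_iff G htop' (x := v) trivial (s.symm a)).mp
        (Subsingleton.elim _ _)
      have hra : r • a = 0 := s.symm.injective (by rw [map_smul, map_zero]; exact hr0)
      have hrq : r ∈ q.asIdeal := ha (by
        rw [Submodule.mem_annihilator_span_singleton]
        exact hra)
      have h := SetLike.ext_iff.mp (htop'.fromSpec_preimage_basicOpen r) q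
      exact (h.mp hr) hrq
    obtain ⟨n, hn⟩ := Ideal.exists_pow_le_of_le_radical_of_fg hrad (IsNoetherian.noetherian m)
    exact ⟨n, fun a ha h => Module.mem_annihilator.1 (hn ha) h⟩
  have htriv : ∀ J : Ideal Av,
      Nonempty ((Scheme.Modules.pullback (bcG (A := Av) (W := W) (Av ⧸ J))).obj L ≅ Coh.structureModule _) ↔
        m ≤ J := by
    intro J
    let σ : Spec (CommRingCat.of (Av ⧸ J)) ⟶ Spec (CommRingCat.of Av) :=
      Spec.map (CommRingCat.ofHom (algebraMap Av (Av ⧸ J)))
    let T : Over S := Over.mk (σ ≫ kV ≫ At.hom)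
    let gJ : T ⟶ At := Over.homMk (σ ≫ kV) (Category.assoc _ _ _)
    have hbig : IsPullback (bcG (A := Av) (W := W) (Av ⧸ J) ≫ (f ⁻¹ᵁ V).ι)
        (bcQ (A := Av) (W := W) (Av ⧸ J)) (snd A At).left gJ.left :=
      (IsPullback.of_hasPullback _ _).paste_horiz hR
    have h1 : Nonempty ((Scheme.Modules.pullback (bcG (A := Av) (W := W) (Av ⧸ J))).obj L ≅
          Coh.structureModule _) ↔
        Nonempty ((Scheme.Modules.pullback (bcG (A := Av) (W := W) (Av ⧸ J) ≫ (f ⁻¹ᵁ V).ι)).obj D ≅
          Coh.structureModule _) := by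
      let i := (Scheme.Modules.pullback (bcG (A := Av) (W := W) (Av ⧸ J))).mapIso
          ((Scheme.Modules.restrictFunctorIsoPullback (f ⁻¹ᵁ V).ι).app D) ≪≫
        (Scheme.Modules.pullbackComp (bcG (A := Av) (W := W) (Av ⧸ J)) (f ⁻¹ᵁ V).ι).app D
      exact ⟨fun ⟨j⟩ => ⟨i.symm ≪≫ j⟩, fun ⟨j⟩ => ⟨i ≪≫ j⟩⟩
    rw [h1, trivial_iff D hD gJ _ _ hbig, hDx]
    constructor
    · intro h a ha
      have hgJ : gJ.left = (1 : T ⟶ At).left :=
        congrArg Over.Hom.left (hfam T gJ h)
      have h2 : σ ≫ kV = T.hom ≫ Spec.map χ ≫ kV := by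
        rw [hχV]
        refine hgJ.trans ?_
        exact congrArg Over.Hom.left (MonObj.comp_one (M := At) (toUnit T)).symm
      obtain ⟨ψ, hψ⟩ := Spec.map_surjective (T.hom : Spec (CommRingCat.of (Av ⧸ J)) ⟶ S)
      rw [← hψ, ← Category.assoc, ← Spec.map_comp, cancel_mono] at h2
      have h3 := ConcreteCategory.congr_hom (Spec.map_injective h2) a
      refine Ideal.Quotient.eq_zero_iff_mem.1 (h3.trans ?_)
      show ψ.hom (χ.hom a) = 0
      rw [show χ.hom a = 0 from ha, map_zero]
    · intro hmJ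
      have hgJ : gJ = 1 := by
        apply Over.OverMorphism.ext
        have hmk : CommRingCat.ofHom (algebraMap Av (Av ⧸ J)) =
            χ ≫ str ≫ CommRingCat.ofHom (algebraMap Av (Av ⧸ J)) := by
          ext a
          show Ideal.Quotient.mk J a = Ideal.Quotient.mk J (str.hom (χ.hom a))
          refine Ideal.Quotient.eq.2 (hmJ ?_)
          show χ.hom (a - str.hom (χ.hom a)) = 0
          rw [map_sub, hχs, sub_self]
        show σ ≫ kV = _
        conv_lhs => rw [show σ = Spec.map (χ ≫ str ≫ CommRingCat.ofHom (algebraMap Av (Av ⧸ J))) from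
          congrArg Spec.map hmk]
        rw [Spec.map_comp, Spec.map_comp, hstr, Category.assoc, hχV]
        refine Eq.trans ?_ (congrArg Over.Hom.left (MonObj.comp_one (M := At) (toUnit T)))
        rfl
      rw [hgJ]
      exact hone T
  obtain ⟨eH⟩ := RigidResidue.nonempty_equiv (A := Av) (W := W) m hL g hgen hlow hkill
    ((htriv m).2 le_rfl) fun J hJ _ h => le_antisymm hJ ((htriv J).1 h)
  -- linear algebra
  let R := RestrictLinear.restr (f ⁻¹ᵁ V).ι D g
  have hRb : Function.Bijective R := RestrictLinear.restr_bijective (f ⁻¹ᵁ V).ι D g (f ⁻¹ᵁ V)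
    (by rw [Scheme.Hom.image_top_eq_opensRange, Scheme.Opens.opensRange_ι]) hres
  letI : (A ⊗ At).left.Over S := ⟨(A ⊗ At).hom⟩
  have hover : (f ⁻¹ᵁ V).ι ≫ (A ⊗ At).hom = (W ↘ Spec (CommRingCat.of Av)) ≫ Spec.map str := by
    rw [hstr, ← Category.assoc, ← hR.w, Category.assoc]
    exact congrArg _ (Over.w (snd A At)).symm
  have hRs : ∀ (r : K) (z : Coh.HH (A ⊗ At).left D g), R (r • z) = (str.hom r • R z : Coh.HH W L g) := by
    intro r z
    refine (RestrictLinear.restr_smul (f ⁻¹ᵁ V).ι D g (Coh.toGlobal (A ⊗ At).hom r) z).trans ?_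
    refine congrArg (· • R z) ?_
    have h := ZarCoh.Exchange.LocalRep.toGlobal_comp str (W ↘ Spec (CommRingCat.of Av)) r
    rw [← hover] at h
    exact h
  let lift : (Av ⧸ m) →+* K := Ideal.Quotient.lift m χ.hom fun a ha => ha
  have hlift : Function.Bijective lift := by
    refine ⟨(injective_iff_map_eq_zero lift).2 fun z hz => ?_, fun r => ⟨Ideal.Quotient.mk m (str.hom r), hχs r⟩⟩
    obtain ⟨a, rfl⟩ := Ideal.Quotient.mk_surjective z
    exact Ideal.Quotient.eq_zero_iff_mem.2 hz
  let Φ : Coh.HH (A ⊗ At).left D g →ₗ[K] K :=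
    { toFun := fun z => lift (eH (R z))
      map_add' := fun z w => by rw [map_add, map_add, map_add]
      map_smul' := fun r z => by
        rw [hRs, map_smul, RingHom.id_apply, smul_eq_mul, Algebra.smul_def, map_mul]
        exact congrArg (· * _) (hχs r) }
  rw [(LinearEquiv.ofBijective Φ (hlift.comp (eH.bijective.comp hRb))).finrank_eq, Module.finrank_self]

end

end Groth.Agent.Lib.H3.FamCoh
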