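import Groth.Agent.Lib.H3.FamCoh
import Groth.Agent.H52.PoincareRR

/-!
# `χ(L)² = deg` for separating families
-/

set_option autoImplicit false
set_option linter.style.haveILetI false
set_option linter.unusedSectionVars false
universe u

open CategoryTheory CategoryTheory.Limits MonoidalCategory CartesianMonoidalCategory MonObj AlgebraicGeometry
open TopologicalSpace
open Groth.Agent.H3
open Groth.Agent.H52 Groth.Agent.H52.PoincareRR
open Groth.Agent.Lib.GrpQ.MonoClosed (ptOf exists_ptOf)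
open Groth.Agent.H52.NondegAmple (tr tr_mul ptOf_tr)
open scoped TensorProduct

namespace Groth.Agent.Lib.H3.FamRR

noncomputable section

local instance famRRLaw (Y : Scheme.{u}) : PicGrp.Law Y := Groth.Agent.Lib.TensorMod.Invertible.law Y

variable {K : Type u} [Field K]

local notation "S" => Spec (CommRingCat.of K)

variable [IsAlgClosed K] {A At : Over (Spec (CommRingCat.of K))} [GrpObj A] [IsCommMonObj A] [IsProper A.hom]
  [Smooth A.hom] [GeometricallyIntegral A.hom] [GrpObj At] [IsProper At.hom] [Smooth At.hom]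
  [GeometricallyIntegral At.hom]
  {L : A.left.Modules} (hL : PicF.IsInvertible L) {Λ : (A ⊗ A).left.Modules} (hΛi : PicF.IsInvertible Λ)
  (hΛ : AgPol.IsLambdaSheaf μ[A].left (fst A A).left (snd A A).left L Λ)

set_option maxHeartbeats 1000000 in
include hL hΛ in
/-- **`χ(L)² = deg h`** for a homomorphism pulling a separating family back to the Mumford bundle. -/
theorem euler_sq (x : PicLoc.PicSet (A ⊗ At).left)
    (hinv : ∀ t : 𝟙_ (Over (Spec (CommRingCat.of K))) ⟶ At, TransInv.Inv (PicCalc.ph (PoincareSlices.slice t) x))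
    (hne : ∀ t : 𝟙_ (Over (Spec (CommRingCat.of K))) ⟶ At, t ≠ 1 → PicCalc.ph (PoincareSlices.slice t) x ≠ 1)
    (hfam : ∀ (T : Over (Spec (CommRingCat.of K))) (g : T ⟶ At), PicCalc.ph (A ◁ g) x = 1 → g = 1)
    (hone : ∀ T : Over (Spec (CommRingCat.of K)), PicCalc.ph (A ◁ (1 : T ⟶ At)) x = 1)
    (hnd : Set.Finite {y : 𝟙_ (Over S) ⟶ A | PicCalc.ph (tr y) (PicGrp.cls L hL) = PicGrp.cls L hL})
    (q : A ⟶ At) [IsMonHom q] [IsFinite q.left] [Flat q.left] [Surjective q.left]
    (hPc' : PicCalc.ph (A ◁ q) x = PicGrp.cls Λ hΛi)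
    (g : ℕ) (hg : topologicalKrullDim A.left = g)
    (d : ℕ) (hd : ∀ y : ↥At.left, Scheme.Hom.finrank q.left y = d) :
    @Curv2.euler K _ A.left ⟨A.hom⟩ L ^ 2 = (d : ℤ) := by
  haveI : IsIntegral A.left := GeometricallyIntegral.isIntegral_of_subsingleton A.hom
  haveI : IsIntegral At.left := GeometricallyIntegral.isIntegral_of_subsingleton At.hom
  have hgt : topologicalKrullDim At.left = g := by
    rw [← hg]
    exact (Groth.Agent.Lib.AffineCompl.Dim.topologicalKrullDim_of_finite_surjective q.left q.left.surjective).symm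
  obtain ⟨L', hL', hL'c, i, j, hij, hvi, -, hvj, -⟩ := IndexThm.exists_index_pair g hg L hL hnd
  obtain ⟨P, hP, hPx⟩ := PicGrp.exists_eq_cls x
  obtain ⟨hPv, hP1⟩ := FamCoh.exists_coh x hinv hne hfam hone P hP hPx.symm g hg hgt
  have hPc : PicCalc.ph (A ◁ q) (PicGrp.cls P hP) = PicGrp.cls Λ hΛi := by rw [← hPx]; exact hPc'
  letI : A.left.Over S := ⟨A.hom⟩
  haveI : IsProper (A.left ↘ S) := ‹IsProper A.hom›
  letI : (A ⊗ A).left.Over S := ⟨(A ⊗ A).hom⟩
  letI : (A ⊗ At).left.Over S := ⟨(A ⊗ At).hom⟩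
  haveI : IsProper (fst A A).left := inferInstanceAs (IsProper (pullback.fst A.hom A.hom))
  haveI : Flat (fst A A).left := inferInstanceAs (Flat (pullback.fst A.hom A.hom))
  haveI : IsProper (A ⊗ A).hom := inferInstanceAs (IsProper (pullback.fst A.hom A.hom ≫ A.hom))
  haveI : IsProper ((A ⊗ A).left ↘ S) := ‹IsProper (A ⊗ A).hom›
  haveI : IsProper (A ⊗ At).hom := inferInstanceAs (IsProper (pullback.fst A.hom At.hom ≫ A.hom))
  -- the Euler characteristic of the Mumford bundle
  let F : A ⊗ A ⟶ A ⊗ At := A ◁ q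
  haveI : IsMonHom q := ‹_›
  haveI : IsMonHom F := by
    refine ⟨?_, ?_⟩ <;> apply CartesianMonoidalCategory.hom_ext <;>
      simp [F, IsMonHom.one_hom, IsMonHom.mul_hom, tensorObj.one_def, tensorObj.mul_def,
        lift_snd_assoc, IsMonHom.mul_hom_assoc]
  have hr : IsPullback (fst A At).left (snd A At).left A.hom At.hom :=
    IsPullback.of_hasPullback A.hom At.hom
  have hsq : IsPullback (A ◁ q).left (snd A A).left (snd A At).left q.left := by
    refine IsPullback.of_right ?_ ?_ hr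
    · rw [← Over.comp_left, whiskerLeft_fst, Over.w q]
      exact IsPullback.of_hasPullback A.hom A.hom
    · rw [← Over.comp_left, whiskerLeft_snd]
      rfl
  haveI : IsFinite F.left := MorphismProperty.of_isPullback (P := @IsFinite) hsq.flip ‹_›
  haveI : Flat F.left := MorphismProperty.of_isPullback (P := @Flat) hsq.flip ‹_›
  haveI : Surjective F.left := MorphismProperty.of_isPullback (P := @Surjective) hsq.flip ‹_›
  have hdeg : IsogenyDegree.gammaDeg (pullback F η[A ⊗ At]) = d := by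
    let G : Over S := pullback F η[A ⊗ At]
    have sq := (IsPullback.of_hasPullback F η[A ⊗ At]).map (Over.forget S)
    have e : G.hom = (pullback.snd F η[A ⊗ At]).left := by
      rw [← Over.w (pullback.snd F η[A ⊗ At])]
      exact Category.comp_id _
    haveI : IsFinite G.hom := by
      rw [e]; exact MorphismProperty.of_isPullback (P := @IsFinite) sq ‹_›
    rw [gammaDeg_eq_finrank G (IsLocalRing.closedPoint K), e]
    refine (Scheme.Hom.finrank_of_isPullback _ _ F.left η[A ⊗ At].left sq _).trans ?_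
    exact (Scheme.Hom.finrank_of_isPullback _ _ q.left (snd A At).left hsq.flip _).trans (hd _)
  obtain ⟨d', hd'⟩ : ∃ d' : ℕ, d' = d ∧ ∀ G : (A ⊗ At).left.Modules, Coh.IsCoh G →
      Curv2.euler K (A ⊗ A).left ((Scheme.Modules.pullback F.left).obj G) =
        d' * Curv2.euler K (A ⊗ At).left G :=
    ⟨_, hdeg, IsogenyDegree.euler_pullback_degree F⟩
  have hΛχ : Curv2.euler K (A ⊗ A).left Λ = (d : ℤ) * (-1) ^ g := by
    obtain ⟨i₁⟩ := (PicCalc.iso_iff (PicCalc.cl_pullback F (a := PicGrp.cls P hP) rfl)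
      (b := PicGrp.cls Λ hΛi) rfl).mpr hPc
    rw [← (IsogenyEuler.isAdd_euler (k := K)).iso i₁,
      hd'.2 P (Groth.Agent.Lib.Ample.GG.isCoh_of_isInvertible hP), hd'.1,
      euler_single (A ⊗ At).hom P g hPv, hP1, Nat.cast_one, _root_.mul_one]
  -- shear
  let ℓ := PicGrp.cls L hL
  let δ : PicLoc.PicSet (A ⊗ A).left :=
    PicCalc.ph (fst A A * snd A A) ℓ * (PicCalc.ph (snd A A) ℓ)⁻¹
  obtain ⟨D, hD, hDc⟩ := PicGrp.exists_eq_cls δ
  let σ : A ⊗ A ⟶ A ⊗ A := lift (fst A A * snd A A) (snd A A)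
  let τ : A ⊗ A ⟶ A ⊗ A := lift (fst A A * (snd A A)⁻¹) (snd A A)
  have hστ : σ ≫ τ = 𝟙 _ := by
    ext1 <;> simp [σ, τ, MonObj.comp_mul, GrpObj.comp_inv]
  have hτσ : τ ≫ σ = 𝟙 _ := by
    ext1 <;> simp [σ, τ, MonObj.comp_mul, GrpObj.comp_inv]
  haveI : IsIso σ.left :=
    ⟨τ.left, by rw [← Over.comp_left, hστ]; rfl, by rw [← Over.comp_left, hτσ]; rfl⟩
  haveI : Coh.IsQCoh L := Groth.Agent.Lib.TensorMod.QCohInv.isQCoh_of_isInvertible hL
  haveI : Coh.IsQCoh L' := Groth.Agent.Lib.TensorMod.QCohInv.isQCoh_of_isInvertible hL'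
  let M₂ := CohB1.tensorMod ((Scheme.Modules.pullback (fst A A).left).obj L)
    ((Scheme.Modules.pullback (snd A A).left).obj L')
  obtain ⟨iσ⟩ : Nonempty ((Scheme.Modules.pullback σ.left).obj M₂ ≅ D) :=
    (PicCalc.iso_iff (PicCalc.cl_pullback σ (PicCalc.cl_tensor
      (PicCalc.cl_pullback (fst A A) (a := PicGrp.cls L hL) rfl)
      (PicCalc.cl_pullback (snd A A) (a := PicGrp.cls L' hL') rfl))) (b := PicGrp.cls D hD) rfl).mpr (by
      rw [← hDc, hL'c]
      simp only [δ, σ, map_mul, map_inv, ← PicCalc.ph_comp, MonObj.comp_mul, lift_fst, lift_snd]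
      rfl)
  have hDfin : Curv2.euler K A.left L * Curv2.euler K A.left L' = Curv2.euler K (A ⊗ A).left D := by
    letI : (pullback (A.left ↘ S) (A.left ↘ S)).Over S :=
      ⟨pullback.fst (A.left ↘ S) (A.left ↘ S) ≫ (A.left ↘ S)⟩
    have hdim : ∀ n, Module.finrank K (Coh.HH (A ⊗ A).left D n) =
        ∑ pq : Finset.HasAntidiagonal.antidiagonal n, Module.finrank K (Coh.HH A.left L pq.1.1) *
          Module.finrank K (Coh.HH A.left L' pq.1.2) := fun n => by
      obtain ⟨eK⟩ := ZarCoh.Exchange.Kunneth.nonempty_kunneth_linear K A.left A.left L L'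
        (Groth.Agent.Lib.IntTheory.BaseChange.isFlatOver (k := K) (X := A.left) L) (fun _ => inferInstance) n
      haveI : ∀ p, Module.Finite K (Coh.HH A.left L p) := Groth.Agent.Lib.Snapper.Finite.cohFinite K A.left L
        (Groth.Agent.Lib.Ample.GG.isCoh_of_isInvertible hL)
      haveI : ∀ p, Module.Finite K (Coh.HH A.left L' p) := Groth.Agent.Lib.Snapper.Finite.cohFinite K A.left L'
        (Groth.Agent.Lib.Ample.GG.isCoh_of_isInvertible hL')
      rw [← (Groth.Agent.Lib.Curves.LES.isoK K iσ n).finrank_eq,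
        finrank_pullback_iso σ.left (A ⊗ A).hom (A ⊗ A).hom (Over.w σ) M₂
          (Groth.Agent.Lib.TensorMod.Invertible.isInvertible_tensorMod (PicLoc.isInvertible_pullback _ hL)
            (PicLoc.isInvertible_pullback _ hL')) n]
      refine eK.finrank_eq.trans ?_
      rw [Module.finrank_directSum]
      exact Finset.sum_congr rfl fun pq _ => Module.finrank_tensorProduct
    rw [euler_single A.hom L i hvi, euler_single A.hom L' j hvj]
    rw [show Curv2.euler K (A ⊗ A).left D = (-1 : ℤ) ^ g * Module.finrank K (Coh.HH (A ⊗ A).left D g) from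
      finsum_eq_single _ g fun n hn => by
        rw [hdim, Finset.sum_eq_zero, Nat.cast_zero, mul_zero]
        intro pq _
        by_cases hp : pq.1.1 = i
        · haveI := hvj pq.1.2 (fun hq => hn (by
            rw [← hij, ← hp, ← hq]; exact (Finset.HasAntidiagonal.mem_antidiagonal.1 pq.2).symm))
          rw [Module.finrank_zero_of_subsingleton (M := Coh.HH A.left L' pq.1.2), mul_zero]
        · haveI := hvi pq.1.1 hp
          rw [Module.finrank_zero_of_subsingleton, zero_mul]]
    have hpow : (-1 : ℤ) ^ g = (-1) ^ i * (-1) ^ j := by rw [← pow_add, hij]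
    rw [hdim, Finset.sum_eq_single ⟨(i, j), Finset.HasAntidiagonal.mem_antidiagonal.2 hij⟩, hpow]
    · push_cast; ring
    · rintro ⟨⟨p, p'⟩, hpp⟩ - hne
      have hp : p ≠ i := fun hp => hne (by
        have := Finset.HasAntidiagonal.mem_antidiagonal.1 hpp
        subst hp
        refine Subtype.ext (Prod.ext rfl ?_)
        show p' = j
        simp only at this
        omega)
      haveI := hvi p hp
      rw [Module.finrank_zero_of_subsingleton, zero_mul]
    · exact fun h => absurd (Finset.mem_univ _) h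
  have hDΛ : Curv2.euler K (A ⊗ A).left D = Curv2.euler K (A ⊗ A).left Λ :=
    finsum_congr fun n => by rw [PoincareRR.finrank_mumford_twist hL hΛi hΛ hnd D hD hDc.symm n]
  have hinv := HilbertIndex.euler_inverse g hg L L' hL hL' hL'c
  have h1 : (-1 : ℤ) ^ g * (-1 : ℤ) ^ g = 1 := by rw [← pow_add, ← two_mul, pow_mul]; simp
  have h := hDfin.trans (hDΛ.trans hΛχ)
  change Curv2.euler K A.left L ^ 2 = (d : ℤ)
  have hinv' : Curv2.euler K A.left L' = (-1 : ℤ) ^ g * Curv2.euler K A.left L := hinv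
  rw [hinv'] at h
  calc Curv2.euler K A.left L ^ 2
      = (Curv2.euler K A.left L * ((-1 : ℤ) ^ g * Curv2.euler K A.left L)) * (-1) ^ g := by
        linear_combination -(Curv2.euler K A.left L ^ 2) * h1
    _ = (d : ℤ) := by rw [h, _root_.mul_assoc, h1, _root_.mul_one]

end

end Groth.Agent.Lib.H3.FamRR
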