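import Groth.Agent.H2.Rigid.Push
import Mathlib.AlgebraicGeometry.Morphisms.ClosedImmersion

/-!
# Closed immersions through which a faithfully flat family factors
-/

set_option autoImplicit false

universe u

open CategoryTheory AlgebraicGeometry

namespace Groth.Agent.Lib.H3.FppfFactor

/-- A closed immersion through which a jointly surjective family of flat morphisms factors is an
isomorphism. -/
theorem isIso {Z T : Scheme.{u}} (c : Z ⟶ T) [IsClosedImmersion c]
    (h : ∀ t : T, ∃ (U : Scheme.{u}) (v : U ⟶ Z), Flat (v ≫ c) ∧ t ∈ Set.range (v ≫ c)) : IsIso c := by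
  rw [isIso_iff_isIso_stalkMap]
  have hs : Function.Surjective c := fun t => by
    obtain ⟨U, v, -, x, hx⟩ := h t
    exact ⟨v x, hx⟩
  refine ⟨?_, fun z => ?_⟩
  · exact (TopCat.isIso_iff_isHomeomorph _).2
      (isHomeomorph_iff_isEmbedding_surjective.2 ⟨c.isClosedEmbedding.isEmbedding, hs⟩)
  · rw [ConcreteCategory.isIso_iff_bijective]
    refine ⟨?_, c.stalkMap_surjective z⟩
    obtain ⟨U, v, hf, x, hx⟩ := h (c z)
    haveI := hf
    obtain rfl : v x = z := c.isClosedEmbedding.injective hx
    have := Groth.Agent.H2.Rigid.stalkMap_injective_of_flat (v ≫ c) x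
    rw [Scheme.Hom.stalkMap_comp] at this
    exact Function.Injective.of_comp (f := v.stalkMap x) this

end Groth.Agent.Lib.H3.FppfFactor
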