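import Groth.Agent.H52.SimpleAmple
import Groth.Agent.Lib.ProjDualExt.Dim

/-!
# The component through the origin of the points fixing a class
-/

set_option autoImplicit false
set_option linter.style.haveILetI false
universe u

open CategoryTheory CategoryTheory.Limits MonoidalCategory CartesianMonoidalCategory MonObj AlgebraicGeometry
open Groth.Agent.H3
open Groth.Agent.Lib.GrpQ.MonoClosed (ptOf exists_ptOf)
open Groth.Agent.H52.NondegAmple (tr tr_mul ptOf_tr)
open Groth.Agent.H52.SimpleAmple (geometricallyIntegral fix_of_mem_closure)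

namespace Groth.Agent.Lib.H3.KLComp

noncomputable section

local instance (Y : Scheme.{u}) : PicGrp.Law Y := Groth.Agent.Lib.TensorMod.Invertible.law Y

variable {K : Type u} [Field K] [IsAlgClosed K]

local notation "S" => Spec (CommRingCat.of K)

variable {A : Over (Spec (CommRingCat.of K))} [GrpObj A] [IsProper A.hom] [GeometricallyIntegral A.hom]

/-- The component through the origin, its dimension, and its finitely many cosets. -/
theorem exists_comp (ℓ : PicLoc.PicSet A.left) :
    ∃ (B : Over S) (_ : GrpObj B) (i : B ⟶ A), IsProper B.hom ∧ GeometricallyIntegral B.hom ∧ IsMonHom i ∧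
      IsClosedImmersion i.left ∧ (∀ b : 𝟙_ (Over S) ⟶ B, PicCalc.ph (tr (b ≫ i)) ℓ = ℓ) ∧
      topologicalKrullDim B.left =
        topologicalKrullDim ↥(closure (ptOf '' {b : 𝟙_ (Over S) ⟶ A | PicCalc.ph (tr b) ℓ = ℓ})) ∧
      ∃ s : Set (𝟙_ (Over S) ⟶ A), s.Finite ∧ ∀ b : 𝟙_ (Over S) ⟶ A, PicCalc.ph (tr b) ℓ = ℓ →
        ∃ s₀ ∈ s, ∃ y : 𝟙_ (Over S) ⟶ B, b = (y ≫ i) * s₀ := by
  let F : Set (𝟙_ (Over S) ⟶ A) := {b | PicCalc.ph (tr b) ℓ = ℓ}
  let Z : Set A.left := closure (ptOf '' F)
  have hone : (1 : 𝟙_ (Over S) ⟶ A) ∈ F := by simp [F, tr, PicCalc.ph_id]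
  have hmul : ∀ b c, b ∈ F → c ∈ F → b * c ∈ F := fun b c hb hc => by
    show PicCalc.ph (tr (b * c)) ℓ = ℓ
    rw [← tr_mul, PicCalc.ph_comp, show PicCalc.ph (tr c) ℓ = ℓ from hc]
    exact hb
  have hinv : ∀ b, b ∈ F → b⁻¹ ∈ F := fun b hb => by
    show PicCalc.ph (tr b⁻¹) ℓ = ℓ
    conv_lhs => rw [← show PicCalc.ph (tr b) ℓ = ℓ from hb]
    rw [← PicCalc.ph_comp, tr_mul, inv_mul_cancel]
    simp [tr, PicCalc.ph_id]
  have hZ : IsClosed Z := isClosed_closure
  have hpt : ∀ b, ptOf b ∈ Z ↔ b ∈ F :=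
    fun b => ⟨fix_of_mem_closure ℓ b, fun h => subset_closure ⟨b, h, rfl⟩⟩
  haveI : IsLocallyNoetherian A.left := LocallyOfFiniteType.isLocallyNoetherian A.hom
  haveI : CompactSpace A.left := QuasiCompact.compactSpace_of_compactSpace A.hom
  haveI : IsNoetherian A.left := { }
  haveI : JacobsonSpace A.left := LocallyOfFiniteType.jacobsonSpace A.hom
  -- reduced irreducible subsets and their products
  let red : TopologicalSpace.Closeds A.left → Over S := fun W =>
    Over.mk ((Scheme.IdealSheafData.vanishingIdeal (X := A.left) W).subschemeι ≫ A.hom)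
  let inc : ∀ W, red W ⟶ A := fun W => Over.homMk _ rfl
  have hred : ∀ W, IsReduced (red W).left := fun W => H75.RedSub.isReduced_vanishingIdeal W
  have hinc : ∀ W, IsClosedImmersion (inc W).left := fun W =>
    inferInstanceAs (IsClosedImmersion (Scheme.IdealSheafData.subschemeι _))
  have hrange : ∀ W : TopologicalSpace.Closeds A.left, Set.range (inc W).left = W := fun W => by
    show Set.range (Scheme.IdealSheafData.vanishingIdeal W).subschemeι = _
    rw [Scheme.IdealSheafData.range_subschemeι, Scheme.IdealSheafData.coe_support_vanishingIdeal]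
  have hint : ∀ W : TopologicalSpace.Closeds A.left, IsIrreducible (W : Set A.left) → IsIntegral (red W).left := fun W hW => by
    haveI := hred W
    haveI : IrreducibleSpace ↥(red W).left := by
      haveI : IrreducibleSpace ↥(W : Set A.left) := isIrreducible_iff_irreducibleSpace.mp hW
      haveI := hinc W
      exact ((inc W).left.isEmbedding.toHomeomorph.trans (Homeomorph.setCongr (hrange W))).irreducibleSpace_iff.2
        inferInstance
    exact isIntegral_of_irreducibleSpace_of_isReduced _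
  -- the sum of two irreducible closed subsets of the kernel
  have hsum : ∀ W W' : TopologicalSpace.Closeds A.left, IsIrreducible (W : Set A.left) →
      IsIrreducible (W' : Set A.left) → (W : Set A.left) ⊆ Z → (W' : Set A.left) ⊆ Z →
      IsReduced (red W ⊗ red W').left ∧
      ∃ T : Set A.left, IsIrreducible T ∧ T ⊆ Z ∧
        Set.range ((fst (red W) (red W') ≫ inc W) * (snd (red W) (red W') ≫ inc W')).left ⊆ T ∧
        ∀ b c, ptOf b ∈ (W : Set A.left) → ptOf c ∈ (W' : Set A.left) → ptOf (b * c) ∈ T := fun W W' hW hW' hWZ hWZ' => by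
    haveI := hinc W; haveI := hinc W'; haveI := hred W; haveI := hred W'
    haveI := hint W hW; haveI := hint W' hW'
    haveI : IsProper (red W).hom := inferInstanceAs (IsProper (Scheme.IdealSheafData.subschemeι _ ≫ A.hom))
    haveI : IsProper (red W').hom := inferInstanceAs (IsProper (Scheme.IdealSheafData.subschemeι _ ≫ A.hom))
    haveI := geometricallyIntegral (red W)
    haveI := geometricallyIntegral (red W')
    haveI : Flat (red W').hom := inferInstance
    haveI : UniversallyOpen (red W').hom := UniversallyOpen.of_flat _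
    haveI : IsLocallyNoetherian (red W).left := LocallyOfFiniteType.isLocallyNoetherian (red W).hom
    haveI : IsIntegral (red W ⊗ red W').left := inferInstanceAs (IsIntegral (pullback (red W).hom (red W').hom))
    haveI : IsProper (red W ⊗ red W').hom :=
      inferInstanceAs (IsProper (pullback.fst (red W).hom (red W').hom ≫ (red W).hom))
    let mW := (fst (red W) (red W') ≫ inc W) * (snd (red W) (red W') ≫ inc W')
    have hlift : ∀ (V : TopologicalSpace.Closeds A.left) b, ptOf b ∈ (V : Set A.left) →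
        ∃ z : 𝟙_ (Over S) ⟶ red V, z ≫ inc V = b := fun V b hb => by
      haveI := hinc V
      haveI : LocallyOfFiniteType (red V).hom :=
        inferInstanceAs (LocallyOfFiniteType (Scheme.IdealSheafData.subschemeι _ ≫ A.hom))
      obtain ⟨w, hw⟩ : ptOf b ∈ Set.range (inc V).left := (hrange V).ge hb
      obtain ⟨z, hz⟩ := exists_ptOf (X := red V) (s := (inc V).left ⁻¹' {ptOf b})
        (((pointEquivClosedPoint A.hom ⟨b.left, Over.w b⟩).2).preimage (inc V).left.continuous).isLocallyClosed ⟨w, hw⟩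
      exact ⟨z, Over.OverMorphism.ext (ext_of_apply_closedPoint_eq A.hom (Over.w (_ ≫ inc V)) (Over.w b) hz)⟩
    refine ⟨inferInstance, Set.range mW.left, ?_, ?_, le_rfl, fun b c hb hc => ?_⟩
    · rw [← Set.image_univ]
      exact (IrreducibleSpace.isIrreducible_univ _).image _ mW.left.continuous.continuousOn
    · rintro _ ⟨w, rfl⟩
      by_contra hw
      obtain ⟨q, hq⟩ := exists_ptOf (X := red W ⊗ red W')
        ((hZ.isOpen_compl.preimage mW.left.continuous).isLocallyClosed) ⟨w, hw⟩
      refine hq (show ptOf (q ≫ mW) ∈ Z from (hpt _).mpr ?_)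
      have hmem : ∀ (V : TopologicalSpace.Closeds A.left), (V : Set A.left) ⊆ Z →
          ∀ z : 𝟙_ (Over S) ⟶ red V, z ≫ inc V ∈ F := fun V hV z =>
        (hpt _).mp (hV ((hrange V).le ⟨ptOf z, rfl⟩))
      simp only [mW, MonObj.comp_mul, ← Category.assoc]
      exact hmul _ _ (hmem W hWZ _) (hmem W' hWZ' _)
    · obtain ⟨z, rfl⟩ := hlift W b hb
      obtain ⟨z', rfl⟩ := hlift W' c hc
      refine ⟨ptOf (lift z z'), (Groth.Agent.Lib.GrpQ.MonoClosed.ptOf_comp _ _).trans ?_⟩
      congr 1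
      simp [mW, MonObj.comp_mul]
  -- the component through the origin
  have hirr1 : IsIrreducible ({ptOf (1 : 𝟙_ (Over S) ⟶ A)} : Set A.left) := isIrreducible_singleton
  obtain ⟨B₀, hB₀, h1B₀⟩ := exists_mem_irreducibleComponents_subset_of_isIrreducible
    (Subtype.val ⁻¹' {ptOf (1 : 𝟙_ (Over S) ⟶ A)} : Set ↥Z) (by
      rw [show (Subtype.val ⁻¹' {ptOf (1 : 𝟙_ (Over S) ⟶ A)} : Set ↥Z) = {⟨ptOf 1, (hpt 1).mpr hone⟩} by
        ext x
        simp [Subtype.ext_iff]]
      exact isIrreducible_singleton)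
  let B : TopologicalSpace.Closeds A.left := ⟨Subtype.val '' B₀,
    hZ.isClosedEmbedding_subtypeVal.isClosedMap _ (isClosed_of_mem_irreducibleComponents _ hB₀)⟩
  have hBirr : IsIrreducible (B : Set A.left) := hB₀.1.image _ continuous_subtype_val.continuousOn
  have hBZ : (B : Set A.left) ⊆ Z := by rintro _ ⟨x, -, rfl⟩; exact x.2
  have h1B : ptOf (1 : 𝟙_ (Over S) ⟶ A) ∈ (B : Set A.left) := ⟨⟨_, (hpt 1).mpr hone⟩, h1B₀ rfl, rfl⟩
  have hmax : ∀ T : Set A.left, IsIrreducible T → T ⊆ Z → (B : Set A.left) ⊆ T → T ⊆ B := fun T hT hTZ hBT => by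
    have hT' : IsIrreducible (Subtype.val ⁻¹' T : Set ↥Z) := by
      refine ⟨?_, ?_⟩
      · obtain ⟨x, hx⟩ := hT.1
        exact ⟨⟨x, hTZ hx⟩, hx⟩
      · rintro U V hU hV ⟨y, hyT, hyU⟩ ⟨z, hzT, hzV⟩
        obtain ⟨U', hU', rfl⟩ := isOpen_induced_iff.mp hU
        obtain ⟨V', hV', rfl⟩ := isOpen_induced_iff.mp hV
        obtain ⟨w, hwT, hwU, hwV⟩ := hT.2 U' V' hU' hV' ⟨y.1, hyT, hyU⟩ ⟨z.1, hzT, hzV⟩
        exact ⟨⟨w, hTZ hwT⟩, hwT, hwU, hwV⟩
    intro x hx
    exact ⟨⟨x, hTZ hx⟩, hB₀.2 hT' (fun y hy => hBT ⟨y, hy, rfl⟩) hx, rfl⟩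
  -- every irreducible subset through the origin lies in the component
  have hthrough : ∀ W : TopologicalSpace.Closeds A.left, IsIrreducible (W : Set A.left) → (W : Set A.left) ⊆ Z →
      ptOf (1 : 𝟙_ (Over S) ⟶ A) ∈ (W : Set A.left) → (W : Set A.left) ⊆ B := fun W hW hWZ h1W => by
    obtain ⟨-, T, hT, hTZ, -, hTm⟩ := hsum B W hBirr hW hBZ hWZ
    have hT' : IsIrreducible (closure T) := hT.closure
    have hTZ' : closure T ⊆ Z := closure_minimal hTZ hZ
    have hsub : ∀ V : TopologicalSpace.Closeds A.left, (∀ b, ptOf b ∈ (V : Set A.left) → ptOf b ∈ T) → (V : Set A.left) ⊆ closure T :=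
      fun V hV x hx => by
        by_contra hxT
        obtain ⟨b, hb, hb'⟩ := exists_ptOf (X := A)
          (V.isClosed.isLocallyClosed.inter isClosed_closure.isOpen_compl.isLocallyClosed) ⟨x, hx, hxT⟩
        exact hb' (subset_closure (hV b hb))
    have hBT : (B : Set A.left) ⊆ closure T := hsub B fun b hb => by
      have := hTm b 1 hb h1W
      rwa [_root_.mul_one] at this
    exact fun x hx => hmax _ hT' hTZ' hBT (hsub W (fun c hc => by
      have := hTm 1 c h1B hc
      rwa [_root_.one_mul] at this) hx)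
  -- the component is a subgroup
  haveI := hinc B; haveI := hred B; haveI := hint B hBirr
  haveI : IsProper (red B).hom := inferInstanceAs (IsProper (Scheme.IdealSheafData.subschemeι _ ≫ A.hom))
  have hGI := geometricallyIntegral (red B)
  haveI : Mono (inc B).left := inferInstance
  haveI : Mono (inc B) := Over.mono_of_mono_left _
  have hfac : ∀ {T : Over S} (x : T ⟶ A), IsReduced T.left → Set.range x.left ⊆ (B : Set A.left) →
      ∃ y, y ≫ inc B = x := fun {T} x hT hx => by
    have H : (inc B).left.ker ≤ x.left.ker := by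
      rw [show (inc B).left.ker = Scheme.IdealSheafData.vanishingIdeal B from
        Scheme.IdealSheafData.ker_subschemeι _]
      refine Scheme.IdealSheafData.le_ofIdeals_iff.2 fun U c hc => RingHom.mem_ker.2 ?_
      refine (basicOpen_eq_bot_iff ((x.left.app U.1).hom c)).mp (le_bot_iff.mp fun t ht => ?_)
      have hts : x.left t ∈ A.left.basicOpen c := by
        rw [← Scheme.preimage_basicOpen] at ht
        exact ht
      have htU : x.left t ∈ U.1 := A.left.basicOpen_le c hts
      rw [Scheme.IdealSheafData.vanishingIdeal_ideal] at hc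
      have hmem := (PrimeSpectrum.mem_vanishingIdeal _ _).1 hc (U.2.primeIdealOf ⟨_, htU⟩)
        (show U.2.fromSpec _ ∈ (B : Set A.left) by rw [U.2.fromSpec_primeIdealOf]; exact hx ⟨t, rfl⟩)
      exact absurd hmem ((Groth.Agent.Lib.Ideal.EffCartier.mem_basicOpen_iff_notMem_prime U.2 htU c).mp hts)
    refine ⟨Over.homMk (IsClosedImmersion.lift (inc B).left x.left H) ?_, Over.OverMorphism.ext ?_⟩
    · rw [← Over.w (inc B), IsClosedImmersion.lift_fac_assoc, Over.w]
    · exact IsClosedImmersion.lift_fac _ _ _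
  obtain ⟨hredBB, T, hT, hTZ, hTr, hTm⟩ := hsum B B hBirr hBirr hBZ hBZ
  have hjac : ∀ {X : Over S} [LocallyOfFiniteType X.hom] (f : X ⟶ A),
      (∀ q : 𝟙_ (Over S) ⟶ X, ptOf (q ≫ f) ∈ (B : Set A.left)) → Set.range f.left ⊆ (B : Set A.left) := by
    intro X _ f h
    rintro _ ⟨w, rfl⟩
    by_contra hw
    obtain ⟨q, hq⟩ := exists_ptOf (X := X) ((B.isClosed.isOpen_compl.preimage f.left.continuous).isLocallyClosed) ⟨w, hw⟩
    exact hq (h q)
  have hiota : Set.range (inc B)⁻¹.left ⊆ (B : Set A.left) := by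
    haveI : IsIso (ι[A] : A ⟶ A).left := inferInstanceAs (IsIso ((Over.forget S).map ι[A]))
    rw [Hom.inv_def, Over.comp_left]
    let V : TopologicalSpace.Closeds A.left := ⟨(ι[A] : A ⟶ A).left '' B,
      (Scheme.homeoOfIso (asIso (ι[A] : A ⟶ A).left)).isClosedMap _ B.isClosed⟩
    have hVZ : (V : Set A.left) ⊆ Z := by
      rintro _ ⟨x, hx, rfl⟩
      by_contra hx'
      obtain ⟨b, hb, hb'⟩ := exists_ptOf (X := A)
        (B.isClosed.isLocallyClosed.inter (hZ.isOpen_compl.preimage (ι[A] : A ⟶ A).left.continuous).isLocallyClosed)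
        ⟨x, hx, hx'⟩
      refine hb' (show (ι[A] : A ⟶ A).left (ptOf b) ∈ Z from ?_)
      rw [Groth.Agent.Lib.GrpQ.MonoClosed.ptOf_comp, ← Hom.inv_def]
      exact (hpt _).mpr (hinv b ((hpt b).mp (hBZ hb)))
    have h1V : ptOf (1 : 𝟙_ (Over S) ⟶ A) ∈ (V : Set A.left) :=
      ⟨_, h1B, by rw [Groth.Agent.Lib.GrpQ.MonoClosed.ptOf_comp, ← Hom.inv_def, inv_one]⟩
    rintro _ ⟨w, rfl⟩
    exact hthrough V (hBirr.image _ (ι[A] : A ⟶ A).left.continuous.continuousOn) hVZ h1V
      ⟨_, (hrange B).le ⟨w, rfl⟩, rfl⟩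
  have hTB : T ⊆ (B : Set A.left) := by
    have hBT : (B : Set A.left) ⊆ closure T := fun x hx => by
      by_contra hxT
      obtain ⟨b, hb, hb'⟩ := exists_ptOf (X := A)
        (B.isClosed.isLocallyClosed.inter isClosed_closure.isOpen_compl.isLocallyClosed) ⟨x, hx, hxT⟩
      have := hTm b 1 hb h1B
      rw [_root_.mul_one] at this
      exact hb' (subset_closure this)
    exact subset_closure.trans (hmax _ hT.closure (closure_minimal hTZ hZ) hBT)
  obtain ⟨hG, hmon⟩ := Groth.Agent.Lib.GrpQ.InfSub.exists_grpObj_of_mono (inc B)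
    (hfac _ (inferInstanceAs (IsReduced (Spec (CommRingCat.of K)))) (by
      rintro _ ⟨w, rfl⟩
      have e : (η[A] : 𝟙_ (Over S) ⟶ A) = 1 := by
        rw [Hom.one_def, toUnit_unique (toUnit _) (𝟙 _), Category.id_comp]
      have hw : w = IsLocalRing.closedPoint K := @Subsingleton.elim _ (inferInstanceAs (Subsingleton (PrimeSpectrum K))) _ _
      rw [hw, e]
      exact h1B))
    (hfac _ hredBB (hTr.trans hTB))
    (hfac _ inferInstance hiota)
  haveI : TopologicalSpace.NoetherianSpace ↥Z :=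
    (Topology.IsInducing.subtypeVal : Topology.IsInducing (Subtype.val : ↥Z → A.left)).noetherianSpace
  have hfinC : (irreducibleComponents ↥Z).Finite := TopologicalSpace.NoetherianSpace.finite_irreducibleComponents
  -- translating a component into the component through the origin
  have hmove : ∀ C ∈ irreducibleComponents ↥Z, ∃ b ∈ F, ∀ x ∈ Subtype.val '' C,
      (tr b⁻¹).left x ∈ (B : Set A.left) := fun C hC => by
    let W : TopologicalSpace.Closeds A.left := ⟨Subtype.val '' C,
      hZ.isClosedEmbedding_subtypeVal.isClosedMap _ (isClosed_of_mem_irreducibleComponents _ hC)⟩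
    have hW : IsIrreducible (W : Set A.left) := hC.1.image _ continuous_subtype_val.continuousOn
    have hWZ : (W : Set A.left) ⊆ Z := by rintro _ ⟨x, -, rfl⟩; exact x.2
    obtain ⟨b, hbW⟩ := exists_ptOf (X := A) W.isClosed.isLocallyClosed hW.1
    have hb : b ∈ F := (hpt b).mp (hWZ hbW)
    haveI : IsIso (tr b⁻¹).left := inferInstanceAs (IsIso ((Over.forget S).map (tr b⁻¹)))
    let V : TopologicalSpace.Closeds A.left := ⟨(tr b⁻¹).left '' W,
      (Scheme.homeoOfIso (asIso (tr b⁻¹).left)).isClosedMap _ W.isClosed⟩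
    have hVZ : (V : Set A.left) ⊆ Z := by
      rintro _ ⟨x, hx, rfl⟩
      by_contra hx'
      obtain ⟨q, hq, hq'⟩ := exists_ptOf (X := A)
        (W.isClosed.isLocallyClosed.inter (hZ.isOpen_compl.preimage (tr b⁻¹).left.continuous).isLocallyClosed)
        ⟨x, hx, hx'⟩
      refine hq' (show (tr b⁻¹).left (ptOf q) ∈ Z from ?_)
      rw [ptOf_tr]
      exact (hpt _).mpr (hmul _ _ ((hpt q).mp (hWZ hq)) (hinv b hb))
    have h1V : ptOf (1 : 𝟙_ (Over S) ⟶ A) ∈ (V : Set A.left) :=
      ⟨ptOf b, hbW, by rw [ptOf_tr, mul_inv_cancel]⟩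
    exact ⟨b, hb, fun x hx =>
      hthrough V (hW.image _ (tr b⁻¹).left.continuous.continuousOn) hVZ h1V ⟨x, hx, rfl⟩⟩
  choose sb hsb hsub using hmove
  have eB : topologicalKrullDim (red B).left = topologicalKrullDim ↥(B : Set A.left) :=
    (((inc B).left.isEmbedding.toHomeomorph.trans (Homeomorph.setCongr (hrange B)))).isHomeomorph.topologicalKrullDim_eq
  refine ⟨red B, hG, inc B, inferInstance, hGI, hmon, hinc B,
    fun b => (hpt _).mp (hBZ ((hrange B).le ⟨ptOf b, rfl⟩)), ?_,
    {x | ∃ C, ∃ hC : C ∈ irreducibleComponents ↥Z, sb C hC = x}, ?_, fun b hb => ?_⟩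
  · rw [eB]
    refine le_antisymm ?_ (Groth.Agent.Lib.ProjDualExt.Dim.topologicalKrullDim_le_of_components fun C hC => ?_)
    · exact (Topology.IsEmbedding.inclusion hBZ).isInducing.topologicalKrullDim_le
    · let f : ↥C → ↥(B : Set A.left) := fun x => ⟨(tr (sb C hC)⁻¹).left x.1.1, hsub C hC _ ⟨x.1, x.2, rfl⟩⟩
      haveI : IsIso (tr (sb C hC)⁻¹).left := inferInstanceAs (IsIso ((Over.forget S).map (tr (sb C hC)⁻¹)))
      have hf : Topology.IsInducing f :=
        Topology.IsInducing.subtypeVal.of_comp_iff.1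
          ((Scheme.homeoOfIso (asIso (tr (sb C hC)⁻¹).left)).isInducing.comp
            (Topology.IsInducing.subtypeVal.comp Topology.IsInducing.subtypeVal))
      exact hf.topologicalKrullDim_le
  · exact (hfinC.dependent_image sb).subset (by rintro _ ⟨C, hC, rfl⟩; exact ⟨C, hC, rfl⟩)
  · obtain ⟨C, hC, hbC⟩ := exists_mem_irreducibleComponents_subset_of_isIrreducible
      ({⟨ptOf b, (hpt b).mpr hb⟩} : Set ↥Z) isIrreducible_singleton
    have h := hsub C hC (ptOf b) ⟨_, hbC rfl, rfl⟩
    rw [ptOf_tr] at h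
    obtain ⟨y, hy⟩ := hfac (b * (sb C hC)⁻¹) (inferInstanceAs (IsReduced (Spec (CommRingCat.of K)))) (by
      rintro _ ⟨w, rfl⟩
      rw [@Subsingleton.elim _ (inferInstanceAs (Subsingleton (PrimeSpectrum K))) w (IsLocalRing.closedPoint K)]
      exact h)
    exact ⟨_, ⟨C, hC, rfl⟩, y, by rw [hy, inv_mul_cancel_right]⟩

end

end Groth.Agent.Lib.H3.KLComp
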