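import Groth.Agent.Lib.H3.EulerRR
import Groth.Agent.Lib.H3.KLComp
import Groth.Agent.H52.IndexThm
import Groth.Agent.H52.EulerHomogeneous
import Groth.Agent.H63.Poincare
import Groth.Agent.H4.IsogenyDim
import Groth.Agent.Lib.Flat55.FlatEquidim
import Groth.Agent.Lib.GrpSch.Basic
import Groth.Agent.Lib.PtClosure98.Basic
import Groth.Agent.Lib.H3.RosatiPos

/-!
# The multiplicity of zero as a root of the Hilbert polynomial
-/

set_option autoImplicit false
set_option linter.style.haveILetI false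
set_option linter.unusedSectionVars false

universe u

open CategoryTheory MonoidalCategory CartesianMonoidalCategory MonObj GrpObj AlgebraicGeometry

noncomputable section

namespace Groth.Agent.Lib.H3.HilbertMult

open Groth.Agent Groth.Agent.H3 Groth.Agent.H3.PicCalc Groth.Agent.Lib Groth.Agent.Lib.H3.TraceSym
open Groth.Agent.Lib.H3.TracePos Groth.Agent.H63.DegreePoly Groth.Agent.Lib.Snapper

local instance hilbertMultLaw (Y : Scheme.{u}) : PicGrp.Law Y := Groth.Agent.Lib.TensorMod.Invertible.law Y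

variable {K : Type u} [Field K] [IsAlgClosed K]

local notation "T₀" => (𝟙_ (Over (Spec (CommRingCat.of K))))

/-- The Euler characteristic of a class. -/
def chi (A : Over (Spec (CommRingCat.of K))) (c : PicLoc.PicSet A.left) : ℤ :=
  @Curv2.euler K _ A.left ⟨A.hom⟩ (rep c)

variable {A : Over (Spec (CommRingCat.of K))} [GrpObj A] [IsCommMonObj A] [IsProper A.hom] [GeometricallyIntegral A.hom]

theorem exists_dim : ∃ g : ℕ, topologicalKrullDim A.left = g := by
  haveI : IsIntegral A.left := GeometricallyIntegral.isIntegral_of_subsingleton A.hom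
  exact ⟨_, Groth.Agent.Lib.GenFinite.Basic.topologicalKrullDim_eq_fdelta A.hom⟩

theorem euler_eq_chi {M : A.left.Modules} (hM : PicF.IsInvertible M) {c : PicLoc.PicSet A.left}
    (h : PicF.cl M = c.1) : @Curv2.euler K _ A.left ⟨A.hom⟩ M = chi A c :=
  H52.EulerHomogeneous.euler_congr hM (isInvertible_rep c) (Subtype.ext (h.trans (cl_rep c).symm))

/-- Twisting by an invariant class. -/
theorem chi_mul_inv (c m : PicLoc.PicSet A.left) (hm : TransInv.Inv m) : chi A (c * m) = chi A c := by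
  letI : A.left.Over (Spec (CommRingCat.of K)) := ⟨A.hom⟩
  haveI : IsProper (A.left ↘ Spec (CommRingCat.of K)) := ‹IsProper A.hom›
  haveI : IsNoetherian A.left := Curves.GlobalSections.isNoetherian_of_proper K A.left
  obtain ⟨g, hg⟩ := exists_dim (A := A)
  show Curv2.euler K A.left _ = Curv2.euler K A.left _
  rw [EulerRR.euler_eq_ec hg (cl_rep (c * m)), EulerRR.euler_eq_ec hg (cl_rep c)]
  exact EulerRR.ec_mul_inv hg rfl c m hm

/-- Finite flat pullback. -/
theorem chi_pull {B : Over (Spec (CommRingCat.of K))} [GrpObj B] [IsProper B.hom] [GeometricallyIntegral B.hom]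
    (f : A ⟶ B) [IsFinite f.left] [Flat f.left] (d : ℕ) (hd : ∀ y : B.left, Scheme.Hom.finrank f.left y = d)
    (c : PicLoc.PicSet B.left) : chi A (ph f c) = d * chi B c := by
  rw [chi, chi, ← Groth.Agent.S7859.result K A B f d hd (rep c) (Ample.GG.isCoh_of_isInvertible (isInvertible_rep c))]
  exact H52.EulerHomogeneous.euler_congr (isInvertible_rep _) (PicLoc.isInvertible_pullback _ (isInvertible_rep c))
    (Subtype.ext ((cl_rep (ph f c)).trans (cl_pullback f (cl_rep c)).symm))

/-- A non-degenerate class has non-zero Euler characteristic. -/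
theorem chi_ne_zero (c : PicLoc.PicSet A.left)
    (hnd : Set.Finite {x : T₀ ⟶ A | ph (𝟙 A * cst x) c = c}) : chi A c ≠ 0 := by
  letI : A.left.Over (Spec (CommRingCat.of K)) := ⟨A.hom⟩
  haveI : IsProper (A.left ↘ Spec (CommRingCat.of K)) := ‹IsProper A.hom›
  haveI : IsReduced A.left := by
    haveI : IsIntegral A.left := GeometricallyIntegral.isIntegral_of_subsingleton A.hom
    infer_instance
  haveI : Smooth A.hom := PtClosure98.Basic.smooth_closed _
  obtain ⟨g, hg⟩ := exists_dim (A := A)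
  have e : PicGrp.cls (rep c) (isInvertible_rep c) = c := Subtype.ext (cl_rep c)
  obtain ⟨i, -, hv, hne⟩ := H52.IndexThm.exists_index g hg (rep c) (isInvertible_rep c) (by
    rw [e]; exact hnd)
  haveI := Groth.Agent.Lib.Snapper.Finite.cohFinite K A.left (rep c)
    (Groth.Agent.Lib.Ample.GG.isCoh_of_isInvertible (isInvertible_rep c)) i
  haveI := hne
  have hpos : 0 < Module.finrank K (Coh.HH A.left (rep c) i) := Module.finrank_pos
  have hone : chi A c = (-1 : ℤ) ^ i * Module.finrank K (Coh.HH A.left (rep c) i) :=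
    finsum_eq_single _ i fun j hj => by
      haveI := hv j hj
      simp [Module.finrank_zero_of_subsingleton]
  rw [hone]
  exact mul_ne_zero (pow_ne_zero _ (by norm_num)) (by exact_mod_cast hpos.ne')

/-- Polynomiality in three variables. -/
theorem exists_poly₃ (e a b c : PicLoc.PicSet A.left) :
    ∃ P : MvPolynomial (Fin 3) ℚ, ∀ x y z : ℕ,
      (chi A (a ^ x * b ^ y * c ^ z * e) : ℚ) = MvPolynomial.eval ![(x : ℚ), y, z] P := by
  letI : A.left.Over (Spec (CommRingCat.of K)) := ⟨A.hom⟩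
  haveI : IsProper (A.left ↘ Spec (CommRingCat.of K)) := ‹IsProper A.hom›
  haveI : IsNoetherian A.left := Curves.GlobalSections.isNoetherian_of_proper K A.left
  obtain ⟨g, hg⟩ := exists_dim (A := A)
  let L : Fin 3 → A.left.Modules := ![rep a, rep b, rep c]
  obtain ⟨P, -, hP⟩ := Snapper.Poly.exists_poly (k := K) (d := g) (Finite.cohFinite K A.left) hg.le
    (Ample.GG.isCoh_of_isInvertible (isInvertible_rep e)) g
    ((Topology.IsInducing.subtypeVal.topologicalKrullDim_le).trans hg.le) 3 L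
    (fun i => by fin_cases i <;> exact isInvertible_rep _) [] (by simp)
  refine ⟨P, fun x y z => ?_⟩
  have h := hP ![x, y, z]
  rw [show Vanish.sym K A.left g [] (CohB1.tensorMod (FGA.multiTwist L ![x, y, z]) (rep e)) =
      FGA.eulerCharLE K A.left (CohB1.tensorMod (FGA.multiTwist L ![x, y, z]) (rep e)) g from rfl] at h
  obtain ⟨i⟩ : Nonempty (FGA.multiTwist L ![x, y, z] ≅ CohB1.tensorMod (CohB1.tensorPow (rep a) x)
      (CohB1.tensorMod (CohB1.tensorPow (rep b) y) (CohB1.tensorPow (rep c) z))) :=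
    ⟨eqToIso (by simp [L, FGA.multiTwist, FGA.tensorList, List.finRange_succ]) ≪≫
      TensorMod.Basic.tensorIso (Iso.refl _) (TensorMod.Basic.tensorIso (Iso.refl _) (TensorMod.Basic.rightUnit _))⟩
  have hcl : PicF.cl (CohB1.tensorMod (FGA.multiTwist L ![x, y, z]) (rep e)) = (a ^ x * b ^ y * c ^ z * e).1 :=
    cl_tensor (a := a ^ x * b ^ y * c ^ z) ((Quot.sound ⟨i⟩ : PicF.cl _ = _).trans
      ((cl_tensor (H4.PicZero.cl_tensorPow (cl_rep a) x) (cl_tensor (H4.PicZero.cl_tensorPow (cl_rep b) y)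
        (H4.PicZero.cl_tensorPow (cl_rep c) z))).trans (congrArg Subtype.val (_root_.mul_assoc (a ^ x) (b ^ y) (c ^ z)).symm)))
      (cl_rep e)
  rw [EulerRR.ec_eq hcl] at h
  show ((Curv2.euler K A.left _ : ℤ) : ℚ) = _
  rw [EulerRR.euler_eq_ec hg (cl_rep _), h]
  congr 2
  funext i
  fin_cases i <;> rfl

/-- Translation defects of pullbacks. -/
theorem phi_ph {V : Over (Spec (CommRingCat.of K))} [GrpObj V] [IsCommMonObj V] [IsProper V.hom]
    [GeometricallyIntegral V.hom] (u : V ⟶ A) [IsMonHom u] (x : T₀ ⟶ V) (c : PicLoc.PicSet A.left) :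
    phi x (ph u c) = ph u (phi (x ≫ u) c) := by
  have e : (𝟙 V * cst x) ≫ u = u ≫ (𝟙 A * cst (x ≫ u)) := by
    simp [cst, MonObj.mul_comp, MonObj.comp_mul]
  rw [phi_apply, phi_apply, ← ph_comp, e, map_mul, map_inv, ph_comp]

theorem rearr {G : Type*} [CommGroup G] (p q r s l : G) (a b n : ℕ) :
    l * (p ^ a * s * q * r ^ b) ^ n = p ^ (n * a) * r ^ (n * b) * q ^ n * l * s ^ n := by
  simp only [mul_pow, ← pow_mul, Nat.mul_comm n, _root_.mul_comm, _root_.mul_left_comm, _root_.mul_assoc]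

/-- The scaling identity forces the multiplicity. -/
theorem rootMultiplicity_of_scaling {m : ℕ} (Ψ : Polynomial ℚ) (G : MvPolynomial (Fin 3) ℚ)
    (h : ∀ t n : ℕ, MvPolynomial.eval ![(n : ℚ) * ((t : ℚ) + 1) ^ 2, (n : ℚ) * ((t : ℚ) + 1), (n : ℚ)] G = ((t : ℚ) + 1) ^ (2 * m) * Ψ.eval (n : ℚ))
    (h0 : MvPolynomial.eval ![1, 0, 0] G ≠ 0) : Ψ ≠ 0 ∧ Ψ.rootMultiplicity 0 = m := by
  have h1 : ∀ (t : ℕ) (n : ℚ), MvPolynomial.eval ![n * (t + 1) ^ 2, n * (t + 1), n] G =
      ((t : ℚ) + 1) ^ (2 * m) * Ψ.eval n := by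
    intro t n
    let R : Polynomial ℚ := MvPolynomial.eval₂ Polynomial.C
      ![Polynomial.X * Polynomial.C (((t : ℚ) + 1) ^ 2), Polynomial.X * Polynomial.C ((t : ℚ) + 1), Polynomial.X] G
    have hR : ∀ q : ℚ, R.eval q = MvPolynomial.eval ![q * (t + 1) ^ 2, q * (t + 1), q] G := fun q => by
      show (Polynomial.evalRingHom q) _ = _
      rw [MvPolynomial.eval₂_comp_left,
        show (Polynomial.evalRingHom q).comp Polynomial.C = RingHom.id ℚ from RingHom.ext fun _ => Polynomial.eval_C]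
      show MvPolynomial.eval _ G = _
      congr 2
      funext i
      fin_cases i <;> simp
    have e : R = Polynomial.C (((t : ℚ) + 1) ^ (2 * m)) * Ψ := by
      refine Polynomial.eq_of_infinite_eval_eq _ _
        ((Set.infinite_range_of_injective (Nat.cast_injective (R := ℚ))).mono ?_)
      rintro _ ⟨a, rfl⟩
      show R.eval _ = Polynomial.eval _ _
      rw [hR, h, Polynomial.eval_mul, Polynomial.eval_C]
    rw [← hR, e, Polynomial.eval_mul, Polynomial.eval_C]
  have h2 : ∀ (T n : ℚ), MvPolynomial.eval ![n * T ^ 2, n * T, n] G = T ^ (2 * m) * Ψ.eval n := by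
    intro T n
    let R : Polynomial ℚ := MvPolynomial.eval₂ Polynomial.C
      ![Polynomial.C n * Polynomial.X ^ 2, Polynomial.C n * Polynomial.X, Polynomial.C n] G
    have hR : ∀ q : ℚ, R.eval q = MvPolynomial.eval ![n * q ^ 2, n * q, n] G := fun q => by
      show (Polynomial.evalRingHom q) _ = _
      rw [MvPolynomial.eval₂_comp_left,
        show (Polynomial.evalRingHom q).comp Polynomial.C = RingHom.id ℚ from RingHom.ext fun _ => Polynomial.eval_C]
      show MvPolynomial.eval _ G = _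
      congr 2
      funext i
      fin_cases i <;> simp
    have e : R = Polynomial.X ^ (2 * m) * Polynomial.C (Ψ.eval n) := by
      refine Polynomial.eq_of_infinite_eval_eq _ _
        ((Set.infinite_range_of_injective (f := fun a : ℕ => (a : ℚ) + 1) fun a b h => by simpa using h).mono ?_)
      rintro _ ⟨a, rfl⟩
      show R.eval _ = Polynomial.eval _ _
      rw [hR, h1, Polynomial.eval_mul, Polynomial.eval_pow, Polynomial.eval_X, Polynomial.eval_C]
    rw [← hR, e, Polynomial.eval_mul, Polynomial.eval_pow, Polynomial.eval_X, Polynomial.eval_C]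
  let R : Polynomial ℚ := MvPolynomial.eval₂ Polynomial.C ![1, Polynomial.X, Polynomial.X ^ 2] G
  have hR : ∀ q : ℚ, R.eval q = MvPolynomial.eval ![1, q, q ^ 2] G := fun q => by
    show (Polynomial.evalRingHom q) _ = _
    rw [MvPolynomial.eval₂_comp_left,
      show (Polynomial.evalRingHom q).comp Polynomial.C = RingHom.id ℚ from RingHom.ext fun _ => Polynomial.eval_C]
    show MvPolynomial.eval _ G = _
    congr 2
    funext i
    fin_cases i <;> simp
  have hR0 : ¬ R.IsRoot 0 := by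
    rw [Polynomial.IsRoot.def, hR, zero_pow two_ne_zero]
    exact h0
  have hid : Ψ.comp (Polynomial.X ^ 2) = Polynomial.X ^ (2 * m) * R := by
    refine Polynomial.eq_of_infinite_eval_eq _ _
      ((Set.infinite_range_of_injective (f := fun a : ℕ => (a : ℚ) + 1) fun a b h => by simpa using h).mono ?_)
    rintro _ ⟨a, rfl⟩
    have hq : (a : ℚ) + 1 ≠ 0 := by positivity
    show Polynomial.eval _ _ = Polynomial.eval _ _
    rw [Polynomial.eval_comp, Polynomial.eval_mul, Polynomial.eval_pow, Polynomial.eval_pow, Polynomial.eval_X, hR]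
    have h3 := h2 ((a : ℚ) + 1)⁻¹ (((a : ℚ) + 1) ^ 2)
    rw [show ((a : ℚ) + 1) ^ 2 * (((a : ℚ) + 1)⁻¹) ^ 2 = 1 by field_simp,
      show ((a : ℚ) + 1) ^ 2 * ((a : ℚ) + 1)⁻¹ = (a : ℚ) + 1 by field_simp] at h3
    rw [h3, ← _root_.mul_assoc, ← mul_pow, mul_inv_cancel₀ hq, one_pow, _root_.one_mul]
  have hΨ : Ψ ≠ 0 := fun h => by
    rw [h, Polynomial.zero_comp] at hid
    rcases mul_eq_zero.1 hid.symm with h' | h'
    · exact pow_ne_zero _ Polynomial.X_ne_zero h'
    · exact hR0 (by rw [h']; simp)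
  obtain ⟨Q, hQ, hQd⟩ := Polynomial.exists_eq_pow_rootMultiplicity_mul_and_not_dvd Ψ hΨ 0
  rw [Polynomial.C_0, sub_zero] at hQ hQd
  have hQ0 : Q.eval 0 ≠ 0 := fun h => hQd (Polynomial.X_dvd_iff.2 (by rwa [Polynomial.coeff_zero_eq_eval_zero]))
  have hQ2 : ¬ (Q.comp (Polynomial.X ^ 2)).IsRoot 0 := by
    rw [Polynomial.IsRoot.def, Polynomial.eval_comp]
    simpa using hQ0
  have key : ∀ (k : ℕ) (S : Polynomial ℚ), ¬ S.IsRoot 0 →
      Polynomial.rootMultiplicity 0 (Polynomial.X ^ k * S) = k := fun k S hS => by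
    have hS0 : S ≠ 0 := fun h => hS (by simp [h])
    have hk : (Polynomial.X : Polynomial ℚ) ^ k = (Polynomial.X - Polynomial.C (0 : ℚ)) ^ k := by simp
    rw [Polynomial.rootMultiplicity_mul (mul_ne_zero (pow_ne_zero _ Polynomial.X_ne_zero) hS0),
      Polynomial.rootMultiplicity_eq_zero hS, add_zero, hk, Polynomial.rootMultiplicity_X_sub_C_pow]
  have h4 := congrArg (Polynomial.rootMultiplicity 0) hid
  rw [key (2 * m) R hR0] at h4
  have h5 : Ψ.comp (Polynomial.X ^ 2) =
      Polynomial.X ^ (2 * Ψ.rootMultiplicity 0) * Q.comp (Polynomial.X ^ 2) := by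
    conv_lhs => rw [hQ]
    rw [Polynomial.mul_comp, Polynomial.pow_comp, Polynomial.X_comp, pow_mul]
  rw [h5, key _ _ hQ2] at h4
  exact ⟨hΨ, by omega⟩

/-- The multiplicity of zero is the dimension of the component of the fixed points. -/
theorem rootMultiplicity_eq (l : PicLoc.PicSet A.left) {H : A.left.Modules} (hH : CohB1.IsAmple H)
    (Φ : Polynomial ℚ) (hΦ : ∀ n : ℕ, Φ.eval (n : ℚ) = (chi A (l * PicGrp.cls H hH.1 ^ n) : ℚ))
    {B : Over (Spec (CommRingCat.of K))} [GrpObj B] [IsProper B.hom] [GeometricallyIntegral B.hom] (i : B ⟶ A)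
    [IsMonHom i] [IsClosedImmersion i.left] (hfix : ∀ b : T₀ ⟶ B, ph (𝟙 A * cst (b ≫ i)) l = l)
    {m : ℕ} (hm : topologicalKrullDim B.left = m)
    (s : Set (T₀ ⟶ A)) (hs : s.Finite)
    (hcov : ∀ b : T₀ ⟶ A, ph (𝟙 A * cst b) l = l → ∃ s₀ ∈ s, ∃ y : T₀ ⟶ B, b = (y ≫ i) * s₀) :
    Φ.rootMultiplicity 0 = m := by
  haveI : IsCommMonObj B := isCommMonObj_of_isProper_of_geometricallyIntegral B
  obtain ⟨C, _, j, hCp, hCg, hjh, hjc, p, q, d, hp, hq, hd, hip, hjp, hiq, hjq, hsum, hfs, hff⟩ :=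
    H63.Poincare.exists_complement i
  haveI := hCp; haveI := hCg; haveI := hjh; haveI := hjc; haveI := hp; haveI := hq; haveI := hfs; haveI := hff
  haveI : IsCommMonObj C := isCommMonObj_of_isProper_of_geometricallyIntegral C
  haveI : IsProper (B ⊗ C).hom := inferInstanceAs (IsProper (Limits.pullback.fst B.hom C.hom ≫ B.hom))
  haveI : GeometricallyIntegral (B ⊗ C).hom := by
    haveI : GeometricallyReduced (B ⊗ C).hom := H52.FBase.GeomRedSch.geometricallyReduced_prod B.hom C.hom
    haveI : IsIntegral B.left := GeometricallyIntegral.isIntegral_of_subsingleton B.hom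
    haveI : Smooth B.hom := H4.HomImage.smooth_of_geometricallyReduced B
    haveI : IsLocallyNoetherian C.left := LocallyOfFiniteType.isLocallyNoetherian C.hom
    haveI : IsLocallyNoetherian B.left := LocallyOfFiniteType.isLocallyNoetherian B.hom
    haveI : IsIntegral (B ⊗ C).left := inferInstanceAs (IsIntegral (Limits.pullback B.hom C.hom))
    exact H4.HomImage.geometricallyIntegral_of_connected (B ⊗ C)
  haveI : IsCommMonObj (B ⊗ C) := inferInstance
  let f : B ⊗ C ⟶ A := (fst B C ≫ i) * (snd B C ≫ j)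
  haveI : IsMonHom f := by
    show IsMonHom (lift (fst B C ≫ i) (snd B C ≫ j) ≫ μ[A])
    infer_instance
  haveI : IsFinite f.left := hff
  haveI : Surjective f.left := hfs
  obtain ⟨-, hflat⟩ := H4.IsogenyDim.isFinite_and_flat f
    ((Flat55.FlatEquidim.topologicalKrullDim_le_of_quasiFinite f.left).trans
      Topology.IsInducing.subtypeVal.topologicalKrullDim_le)
  haveI := hflat
  haveI : IsIntegral A.left := GeometricallyIntegral.isIntegral_of_subsingleton A.hom
  haveI : IsLocallyNoetherian A.left := LocallyOfFiniteType.isLocallyNoetherian A.hom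
  haveI : LocallyOfFinitePresentation f.left := LocallyOfFinitePresentation.iff_locallyOfFiniteType.2 inferInstance
  obtain ⟨δ, hδ⟩ : ∃ δ : ℕ, ∀ y : A.left, Scheme.Hom.finrank f.left y = δ :=
    ⟨Scheme.Hom.finrank f.left (genericPoint A.left), fun y =>
      (Scheme.Hom.isLocallyConstant_finrank (f := f.left)).apply_eq_of_preconnectedSpace _ _⟩
  have hδ0 : δ ≠ 0 := by
    rw [← hδ (genericPoint A.left)]
    exact Nat.one_le_iff_ne_zero.1 ((Scheme.Hom.one_le_finrank_iff_surjective f.left).2 inferInstance _)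
  let h := PicGrp.cls H hH.1
  let hY := ph i h
  let pY := ph (fst B C) hY
  let qC := ph (snd B C) (ph j h)
  let cr := bil h (fst B C ≫ i) (snd B C ≫ j)
  let l' := ph (snd B C) (ph j l)
  -- the restriction to the fixed part
  have hI : TransInv.Inv (ph i l) := fun b => by
    have e : (𝟙 B * (toUnit B ≫ b)) ≫ i = i ≫ (𝟙 A * cst (b ≫ i)) := by
      simp [cst, MonObj.mul_comp, MonObj.comp_mul]
    rw [← ph_comp, e, ph_comp, hfix b]
  have hrel : ∀ {T : Over (Spec (CommRingCat.of K))} [LocallyOfFiniteType T.hom] (x : T ⟶ B) (y : T ⟶ A),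
      ph ((x ≫ i) * y) l = ph y l * ph x (ph i l) := by
    intro T _ x y
    have hsl : ∀ z : T₀ ⟶ B, ph (lift (toUnit A ≫ z) (𝟙 A))
        (ph ((fst B A ≫ i) * snd B A) l * (ph (snd B A) l)⁻¹) = 1 := fun z => by
      have e : lift (toUnit A ≫ z) (𝟙 A) ≫ ((fst B A ≫ i) * snd B A) = 𝟙 A * cst (z ≫ i) := by
        simp [cst, MonObj.comp_mul, _root_.mul_comm]
      rw [map_mul, map_inv, ← ph_comp, ← ph_comp, e, lift_snd, ph_id, hfix z, mul_inv_cancel]
    haveI : IsIntegral B.left := GeometricallyIntegral.isIntegral_of_subsingleton B.hom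
    haveI : JacobsonSpace B.left := LocallyOfFiniteType.jacobsonSpace B.hom
    obtain ⟨r, hr⟩ := H52.CubeCore.seesaw (ph ((fst B A ≫ i) * snd B A) l * (ph (snd B A) l)⁻¹) (closedPoints B.left)
      (dense_iff_closure_eq.mpr closure_closedPoints) fun y hy =>
        ⟨Over.homMk (pointOfClosedPoint B.hom y hy) (pointOfClosedPoint_comp B.hom y hy),
          ⟨IsLocalRing.closedPoint K, pointOfClosedPoint_apply B.hom y hy _⟩, hsl _⟩
    have hri : r = ph i l := by
      have h := congrArg (ph (lift (𝟙 B) (1 : B ⟶ A))) hr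
      simp only [map_mul, map_inv, ← ph_comp, MonObj.comp_mul, lift_fst_assoc, Category.id_comp,
        lift_snd, lift_fst, ph_id, _root_.mul_one, CubeRel.ph_one, inv_one] at h
      exact h.symm
    have h := congrArg (ph (lift x y)) hr
    simp only [map_mul, map_inv, ← ph_comp, MonObj.comp_mul, lift_fst_assoc, lift_snd, lift_fst, hri] at h
    rw [← ph_comp x i, ← h]
    simp [_root_.mul_comm]
  have hIn : ∀ (c : PicLoc.PicSet B.left), TransInv.Inv c → TransInv.Inv (ph (fst B C) c) := fun c hc a => by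
    have e : (𝟙 (B ⊗ C) * (toUnit (B ⊗ C) ≫ a)) ≫ fst B C = fst B C ≫ (𝟙 B * (toUnit B ≫ (a ≫ fst B C))) := by
      simp [MonObj.mul_comp, MonObj.comp_mul]
    rw [← ph_comp, e, ph_comp, hc]
  have hl : ph f l = l' * ph (fst B C) (ph i l) := by
    haveI : LocallyOfFiniteType (B ⊗ C).hom := inferInstance
    rw [hrel, ph_comp]
  have hh : ph f h = pY * qC * cr := by
    show _ = ph (fst B C) (ph i h) * ph (snd B C) (ph j h) * bil h _ _
    rw [bil, ← ph_comp, ← ph_comp, mul_div_cancel]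
  -- the scalings of the fixed part
  obtain ⟨G, hG⟩ := exists_poly₃ l' pY cr qC
  have hscal : ∀ t n : ℕ, (chi (B ⊗ C) (pY ^ (n * (t + 1) ^ 2) * cr ^ (n * (t + 1)) * qC ^ n * l') : ℚ) =
      ((t : ℚ) + 1) ^ (2 * m) * ((δ : ℚ) * Φ.eval (n : ℚ)) := by
    intro t n
    obtain ⟨h1, h2, h3⟩ := H4.MulIso.int B (d := ((t + 1 : ℕ) : ℤ)) (by omega)
    simp only [zpow_natCast] at h1 h2 h3
    haveI := h1; haveI := h2
    let u : B ⊗ C ⟶ B ⊗ C := ((𝟙 B) ^ (t + 1)) ▷ C
    have hsq := GrpSch.isPullback_whiskerRight ((𝟙 B : B ⟶ B) ^ (t + 1)) C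
    haveI : IsFinite u.left := MorphismProperty.of_isPullback (P := @IsFinite) hsq.flip h1
    haveI : Flat u.left := MorphismProperty.of_isPullback (P := @Flat) hsq.flip h2
    have hu : ∀ y : (B ⊗ C).left, Scheme.Hom.finrank u.left y = (t + 1) ^ (2 * m) := fun y => by
      rw [Scheme.Hom.finrank_of_isPullback _ _ _ _ hsq.flip y, ← zpow_natCast (𝟙 B : B ⟶ B) (t + 1),
        H63.AVDegree.finrank_zpow B hm (by omega), Int.natAbs_natCast]
    have e1 : chi (B ⊗ C) (ph u (l' * (ph f h) ^ n)) =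
        ((t + 1 : ℕ) ^ (2 * m) : ℕ) * chi (B ⊗ C) (l' * (ph f h) ^ n) := chi_pull u _ hu _
    have e2 : chi (B ⊗ C) (l' * (ph f h) ^ n) = (δ : ℤ) * chi A (l * h ^ n) := by
      rw [← chi_pull f δ hδ, map_mul, map_pow, hl, mul_right_comm l' _ (ph f h ^ n),
        chi_mul_inv _ _ (hIn _ hI)]
    have ufst : u ≫ fst B C = fst B C ≫ (𝟙 B : B ⟶ B) ^ (t + 1) := whiskerRight_fst _ _
    have usnd : u ≫ snd B C = snd B C := whiskerRight_snd _ _
    have el : ph u l' = l' := by
      show ph u (ph (snd B C) (ph j l)) = ph (snd B C) (ph j l)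
      rw [← ph_comp u, usnd]
    have eq' : ph u qC = qC := by
      show ph u (ph (snd B C) (ph j h)) = ph (snd B C) (ph j h)
      rw [← ph_comp u, usnd]
    have ecr : ph u cr = cr ^ (t + 1) := by
      show ph u (bil h _ _) = bil h _ _ ^ (t + 1)
      rw [ph_bil, ← Category.assoc, ← Category.assoc, ufst, usnd, Category.assoc, MonObj.pow_comp, Category.id_comp,
        MonObj.comp_pow]
      exact map_pow (bilHom h (snd B C ≫ j)) (fst B C ≫ i) (t + 1)
    have epY : ∃ r, TransInv.Inv r ∧ ph u pY = pY ^ ((t + 1) ^ 2) * ph (fst B C) r := by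
      refine ⟨(ph (𝟙 B)⁻¹ hY * hY⁻¹) ^ (t + 1).choose 2, fun a => ?_, ?_⟩
      · have h0 : phi a (ph (𝟙 B)⁻¹ hY * hY⁻¹) = 1 := by rw [map_mul, map_inv, phi_neg, mul_inv_cancel]
        rw [phi_apply, mul_inv_eq_one] at h0
        rw [map_pow, h0]
      · show ph u (ph (fst B C) hY) = ph (fst B C) hY ^ _ * _
        rw [← ph_comp u, ufst, ph_comp, ← map_pow (ph (fst B C)), ← map_mul]
        congr 1
        have h0 := H4.PicZero.ph_pow_base (𝟙 B) hY (t + 1)
        rw [CubeRel.ph_one, one_pow, _root_.mul_one, _root_.mul_one, ph_id] at h0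
        have hch : ∀ a : ℕ, (a + 1).choose 2 + a.choose 2 = a ^ 2 := fun a => by
          induction a with
          | zero => rfl
          | succ a ih =>
            rw [Nat.choose_succ_succ (a + 1) 1, Nat.choose_one_right]
            have := Nat.choose_succ_succ a 1
            rw [Nat.choose_one_right] at this
            simp only [Nat.succ_eq_add_one, Nat.reduceAdd] at this ⊢
            nlinarith
        rw [h0, ← hch (t + 1), pow_add, mul_pow, inv_pow, _root_.mul_assoc]
        congr 1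
        rw [_root_.mul_comm (ph (𝟙 B)⁻¹ hY ^ _) _, mul_inv_cancel_left]
    obtain ⟨r, hr, hpY⟩ := epY
    have e3 : chi (B ⊗ C) (ph u (l' * (ph f h) ^ n)) =
        chi (B ⊗ C) (pY ^ (n * (t + 1) ^ 2) * cr ^ (n * (t + 1)) * qC ^ n * l') := by
      rw [map_mul, map_pow, hh, map_mul, map_mul, el, eq', ecr, hpY]
      have hrn : TransInv.Inv ((ph (fst B C) r) ^ n) := fun a => by rw [map_pow, hIn r hr a]
      rw [← chi_mul_inv (pY ^ (n * (t + 1) ^ 2) * cr ^ (n * (t + 1)) * qC ^ n * l') _ hrn]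
      congr 1
      exact rearr _ _ _ _ _ _ _ _
    rw [← e3, e1, e2, hΦ n]
    push_cast
    ring
  have h100 : MvPolynomial.eval ![1, 0, 0] G ≠ 0 := by
    have := hG 1 0 0
    simp only [Nat.cast_one, Nat.cast_zero, pow_one, pow_zero, _root_.mul_one] at this
    rw [← this, Int.cast_ne_zero]
    refine chi_ne_zero _ ?_
    have hnY : Set.Finite {y : T₀ ⟶ B | ph (𝟙 B * cst y) hY = hY} := by
      have hamp : CohB1.IsAmple ((Scheme.Modules.pullback i.left).obj H) :=
        Ample.Pullback.isAmple_pullback _ (Ample.Pullback.isQuasiAffine_of_isAffineHom _) hH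
      refine (H52.AmpleNondeg.finite_translationFixing B _ hamp).subset fun y hy => ?_
      exact (iso_iff (cl_pullback _ (cl_pullback i (a := h) rfl)) (cl_pullback i (a := h) rfl)).2 hy
    have hnC : Set.Finite {c : T₀ ⟶ C | ph (𝟙 A * cst ((c ≫ j) ^ d)) l = l} := by
      have hfinB : ∀ s₀ : T₀ ⟶ A, Set.Finite {c : T₀ ⟶ C | ∃ y : T₀ ⟶ B, (c ≫ j) ^ d = (y ≫ i) * s₀} := fun s₀ => by
        refine (H52.EulerHomogeneous.finite_pow_preimage (A := C) (Set.finite_singleton (s₀ ≫ q)) (n := d * d)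
          (Nat.mul_pos hd hd)).subset ?_
        rintro c ⟨y, hy⟩
        have h0 := congrArg (· ≫ q) hy
        simp only [MonObj.pow_comp, MonObj.mul_comp, Category.assoc, hjq, hiq, MonObj.comp_one, _root_.one_mul,
          MonObj.comp_pow, Category.comp_id] at h0
        show c ^ (d * d) = s₀ ≫ q
        rw [pow_mul, h0]
      refine (hs.biUnion fun s₀ _ => hfinB s₀).subset fun c hc => ?_
      obtain ⟨s₀, hs₀, y, hy⟩ := hcov _ hc
      exact Set.mem_biUnion hs₀ ⟨y, hy⟩
    refine ((hnY.prod hnC).image fun w => lift w.1 w.2).subset fun w hw => ?_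
    refine ⟨(w ≫ fst B C, w ≫ snd B C), ?_, by ext <;> simp⟩
    let y := w ≫ fst B C
    let c := w ≫ snd B C
    have hw' : phi w (pY * l') = 1 := by rw [phi_apply, mul_inv_eq_one]; exact hw
    have hp1 : phi w pY = ph (fst B C) (phi y hY) := phi_ph (fst B C) w hY
    have hp2 : phi w l' = ph (snd B C) (ph j (phi (c ≫ j) l)) :=
      (phi_ph (snd B C) w (ph j l)).trans (congrArg (ph (snd B C)) (phi_ph j c l))
    rw [map_mul, hp1, hp2] at hw'
    have hy : phi y hY = 1 := by
      have h0 := congrArg (ph (lift (𝟙 B) (1 : B ⟶ C))) hw'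
      rwa [map_mul, map_one, ← ph_comp, ← ph_comp, lift_fst, lift_snd, ph_id, CubeRel.ph_one, _root_.mul_one] at h0
    have hc : ph j (phi (c ≫ j) l) = 1 := by
      have h0 := congrArg (ph (lift (1 : C ⟶ B) (𝟙 C))) hw'
      rwa [map_mul, map_one, ← ph_comp, ← ph_comp, lift_fst, lift_snd, ph_id, CubeRel.ph_one, _root_.one_mul] at h0
    have hi : ph i (phi (c ≫ j) l) = 1 := by
      have h0 := hrel (𝟙 B) (cst (c ≫ j))
      rw [Category.id_comp, ph_id, TransInv.ph_const, _root_.one_mul] at h0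
      rw [phi_apply, map_mul, map_inv, ← ph_comp]
      have e : i ≫ (𝟙 A * cst (c ≫ j)) = i * cst (c ≫ j) := by simp [cst, MonObj.comp_mul]
      rw [e, h0, mul_inv_cancel]
    have hall : phi ((c ≫ j) ^ d) l = 1 := by
      have hv := RosatiPos.inv_phi l (c ≫ j)
      have hpow : ∀ n : ℕ, ph ((𝟙 A : A ⟶ A) ^ n) (phi (c ≫ j) l) = phi ((c ≫ j) ^ n) l := by
        intro n
        induction n with
        | zero => rw [pow_zero, pow_zero, CubeRel.ph_one, RosatiPos.phi_one]
        | succ n ih => rw [pow_succ, pow_succ, TransInv.ph_mul _ _ _ hv, ih, ph_id, RosatiPos.phi_mul]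
      rw [← hpow d, ← hsum, TransInv.ph_mul _ _ _ hv, ph_comp, ph_comp, hi, hc, map_one, map_one, _root_.mul_one]
    rw [phi_apply, mul_inv_eq_one] at hy hall
    exact ⟨hy, hall⟩
  have := rootMultiplicity_of_scaling (m := m) (Polynomial.C (δ : ℚ) * Φ) G (fun t n => by
    rw [Polynomial.eval_mul, Polynomial.eval_C, ← hscal t n, hG]
    push_cast
    rfl) h100
  obtain ⟨hne, this⟩ := this
  rwa [Polynomial.rootMultiplicity_mul hne, Polynomial.rootMultiplicity_C, zero_add] at this

end Groth.Agent.Lib.H3.HilbertMult
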