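import Groth.Agent.Lib.H3.RankKL
import Groth.Agent.H4.KerDual.PolLocus
import Groth.Agent.H52.DegenEuler

/-!
# `K(L)` commutes with base change
-/

set_option autoImplicit false
set_option linter.style.haveILetI false
set_option linter.unusedSectionVars false

universe u

open CategoryTheory MonoidalCategory CartesianMonoidalCategory MonObj AlgebraicGeometry

noncomputable section

namespace Groth.Agent.Lib.H3.KLBaseChange

open Groth.Agent.H3 Groth.Agent.H3.PicCalc Groth.Agent.H4.KerDual

local instance (Y : Scheme.{u}) : PicGrp.Law Y := Groth.Agent.Lib.TensorMod.Invertible.law Y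

variable {k : Type u} [Field k] {Ω : Type u} [Field Ω]
  (t : Spec (CommRingCat.of Ω) ⟶ Spec (CommRingCat.of k))
  {X : Over (Spec (CommRingCat.of k))} [GrpObj X]

/-- The class on the base change. -/
abbrev upCls (c : PicLoc.PicSet X.left) : PicLoc.PicSet (Red.bc t X).left :=
  PicGrp.pullHom (GrpSch.bcProj t X) (Groth.Agent.Lib.TensorMod.Pullback.pullMul _) c

theorem ph_dn {V : Over (Spec (CommRingCat.of Ω))} (a : V ⟶ Red.bc t X) (c : PicLoc.PicSet X.left) :
    (ph (dn t a) c : PicLoc.PicSet V.left) = ph a (upCls t c) := by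
  apply Subtype.ext
  show PicF.pullCl (a.left ≫ GrpSch.bcProj t X) c.1 = PicF.pullCl a.left (PicF.pullCl (GrpSch.bcProj t X) c.1)
  rw [PicLoc.pullCl_comp]

theorem transTriv_dn_iff {U : Over (Spec (CommRingCat.of Ω))} (a : U ⟶ Red.bc t X) (c : PicLoc.PicSet X.left)
    (n : PicLoc.PicSet U.left) :
    TransTriv X c (dn t a) (n : PicLoc.PicSet (res t U).left) ↔ TransTriv (Red.bc t X) (upCls t c) a n := by
  let V := Red.bc t X ⊗ U
  let e : res t V ⟶ X ⊗ res t U := lift (dn t (fst (Red.bc t X) U)) (resMap t (snd (Red.bc t X) U))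
  have he : e.left = (AgPol.bcXTIso t X U).hom := by
    apply Limits.pullback.hom_ext
    · refine Eq.trans ?_ (Limits.pullbackLeftPullbackSndIso_hom_fst X.hom t U.hom).symm
      show (e ≫ fst X (res t U)).left = _
      rw [lift_fst]
      rfl
    · refine Eq.trans ?_ (Limits.pullbackLeftPullbackSndIso_hom_snd X.hom t U.hom).symm
      show (e ≫ snd X (res t U)).left = _
      rw [lift_snd]
      rfl
  haveI : IsIso e.left := he ▸ (AgPol.bcXTIso t X U).isIso_hom
  haveI : IsIso e := by
    haveI : IsIso ((Over.forget _).map e) := ‹IsIso e.left›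
    exact isIso_of_reflects_iso e (Over.forget _)
  have hinj : Function.Injective (ph e) := fun u v h => by
    have h' := congrArg (ph (inv e)) h
    rwa [← ph_comp, ← ph_comp, IsIso.inv_hom_id, ph_id, ph_id] at h'
  have e1 : e ≫ (fst X (res t U) * (snd X (res t U) ≫ dn t a)) =
      dn t (fst (Red.bc t X) U * (snd (Red.bc t X) U ≫ a)) := by
    rw [MonObj.comp_mul, lift_fst, ← Category.assoc, lift_snd, dn_mul, dn_comp]
  unfold TransTriv
  rw [ThetaGrp.transl_fst, ThetaGrp.transl_fst, ← hinj.eq_iff, map_mul, ← ph_comp, ← ph_comp, ← ph_comp,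
    e1, lift_fst, lift_snd, ph_dn, ph_dn]
  rfl

/-- The base change of `K(L)` is `K(L_Ω)`. -/
theorem isKL_bc
    {L : X.left.Modules} (hL : PicF.IsInvertible L) {K : Over (Spec (CommRingCat.of k))} {i : K ⟶ X}
    (hK : ThetaGrp.IsKL X L i) :
    ThetaGrp.IsKL (Red.bc t X) ((Scheme.Modules.pullback (GrpSch.bcProj t X)).obj L)
      ((Over.pullback t).map i) := by
  haveI : Subsingleton (Spec (CommRingCat.of k)) := inferInstanceAs (Subsingleton (PrimeSpectrum k))
  haveI : Nonempty (Spec (CommRingCat.of k)) := inferInstanceAs (Nonempty (PrimeSpectrum k))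
  refine ⟨MorphismProperty.of_isPullback (P := @IsClosedImmersion) (GrpSch.isPullback_bc_map t i).flip hK.closed,
    fun U a => (mumford_iff _ (PicLoc.isInvertible_pullback _ hL) a).trans ?_⟩
  have hc : PicGrp.cls ((Scheme.Modules.pullback (GrpSch.bcProj t X)).obj L) (PicLoc.isInvertible_pullback _ hL) =
      upCls t (PicGrp.cls L hL) := (PicGrp.pullHom_cls _ _ L hL).symm
  rw [hc]
  constructor
  · rintro ⟨n, hn⟩
    obtain ⟨y, hy⟩ := (KLBasics.factors_iff hL hK (dn t a)).mpr ⟨n, (transTriv_dn_iff t a _ n).mpr hn⟩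
    refine ⟨bcPt t y, dn_injective t ?_⟩
    rw [dn_map, dn_bcPt, hy]
  · rintro ⟨y, hy⟩
    obtain ⟨n, hn⟩ := (KLBasics.factors_iff hL hK (dn t a)).mp ⟨dn t y, by rw [← dn_map, hy]⟩
    exact ⟨n, (transTriv_dn_iff t a _ n).mp hn⟩

end Groth.Agent.Lib.H3.KLBaseChange
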