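import Groth.Agent.Lib.H3.KLBaseChange
import Groth.Agent.Lib.H3.HilbertMult
import Groth.Agent.Lib.DescAlg.Descends

/-!
# `rank K(f^*M) = d² rank K(M)`
-/

set_option autoImplicit false
set_option linter.style.haveILetI false
set_option linter.unusedSectionVars false

universe u

open CategoryTheory MonoidalCategory CartesianMonoidalCategory MonObj AlgebraicGeometry

noncomputable section

namespace Groth.Agent.Lib.H3.KLIsogeny

open Groth.Agent.H3 Groth.Agent.H3.PicCalc Groth.Agent.H63.AVBaseChange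

local instance (Y : Scheme.{u}) : PicGrp.Law Y := Groth.Agent.Lib.TensorMod.Invertible.law Y

/-- A non-degenerate class has finite `K(L)`. -/
theorem isFinite_of_euler_ne {k : Type u} [Field k] [IsAlgClosed k] {A : Over (Spec (CommRingCat.of k))}
    [GrpObj A] [IsCommMonObj A] [IsProper A.hom] [GeometricallyIntegral A.hom] {L : A.left.Modules}
    (hL : PicF.IsInvertible L) (hne : @Curv2.euler k _ A.left ⟨A.hom⟩ L ≠ 0)
    {K : Over (Spec (CommRingCat.of k))} {i : K ⟶ A} (hK : ThetaGrp.IsKL A L i) : IsFinite K.hom := by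
  haveI : IsClosedImmersion i.left := hK.closed
  haveI : IsProper K.hom := by rw [← Over.w i]; infer_instance
  haveI : Subsingleton (Spec (CommRingCat.of k)) := inferInstance
  haveI : Nonempty (Spec (CommRingCat.of k)) := inferInstance
  haveI : Subsingleton (𝟙_ (Over (Spec (CommRingCat.of k)))).left :=
    inferInstanceAs (Subsingleton (Spec (CommRingCat.of k)))
  haveI : Nonempty (𝟙_ (Over (Spec (CommRingCat.of k)))).left :=
    inferInstanceAs (Nonempty (Spec (CommRingCat.of k)))
  haveI : IsReduced A.left := by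
    haveI : IsIntegral A.left := GeometricallyIntegral.isIntegral_of_subsingleton A.hom
    infer_instance
  haveI : Smooth A.hom := PtClosure98.Basic.smooth_closed _
  haveI : Mono i := Over.mono_of_mono_left i
  haveI : JacobsonSpace K.left := LocallyOfFiniteType.jacobsonSpace K.hom
  have hfin : Set.Finite {a : 𝟙_ (Over (Spec (CommRingCat.of k))) ⟶ A |
      ph (Groth.Agent.H52.NondegAmple.tr a) (PicGrp.cls L hL) = PicGrp.cls L hL} := by
    by_contra hc
    exact hne (Groth.Agent.H52.DegenEuler.euler_eq_zero L hL hc)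
  have key : ∀ y : 𝟙_ (Over (Spec (CommRingCat.of k))) ⟶ K,
      ph (Groth.Agent.H52.NondegAmple.tr (y ≫ i)) (PicGrp.cls L hL) = PicGrp.cls L hL := by
    intro y
    obtain ⟨n, hn⟩ := (KLBasics.factors_iff hL hK (y ≫ i)).mp ⟨y, rfl⟩
    have h := congrArg (ph (lift (𝟙 A) (toUnit A))) hn
    rw [eq_one_of_subsingleton n, map_mul, map_one, map_one, _root_.mul_one, ← ph_comp, ← ph_comp,
      lift_fst, ph_id] at h
    have e : lift (𝟙 A) (toUnit A) ≫ ThetaGrp.transl A (y ≫ i) ≫ fst A _ =
        Groth.Agent.H52.NondegAmple.tr (y ≫ i) := by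
      rw [ThetaGrp.transl_fst, MonObj.comp_mul, lift_fst, lift_snd_assoc]
    rwa [e] at h
  haveI : Finite (𝟙_ (Over (Spec (CommRingCat.of k))) ⟶ K) := by
    haveI : Finite {a : 𝟙_ (Over (Spec (CommRingCat.of k))) ⟶ A //
        ph (Groth.Agent.H52.NondegAmple.tr a) (PicGrp.cls L hL) = PicGrp.cls L hL} := hfin.to_subtype
    exact Finite.of_injective (β := {a : 𝟙_ (Over (Spec (CommRingCat.of k))) ⟶ A //
        ph (Groth.Agent.H52.NondegAmple.tr a) (PicGrp.cls L hL) = PicGrp.cls L hL}) (fun y => ⟨y ≫ i, key y⟩)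
      fun y y' h => (cancel_mono i).1 (congrArg Subtype.val h)
  haveI : Finite {p : Spec (CommRingCat.of k) ⟶ K.left // p ≫ K.hom = 𝟙 _} :=
    Finite.of_injective (β := 𝟙_ (Over (Spec (CommRingCat.of k))) ⟶ K)
      (fun p => Over.homMk p.1 p.2) fun p q h => Subtype.ext (congrArg Over.Hom.left h)
  have hc : (closedPoints K.left).Finite :=
    Set.finite_coe_iff.1 (Finite.of_equiv _ (pointEquivClosedPoint K.hom))
  have hcl : IsClosed (closedPoints K.left) := by
    rw [← Set.biUnion_of_singleton (closedPoints K.left)]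
    exact hc.isClosed_biUnion fun x hx => hx
  haveI : Finite K.left :=
    Set.finite_univ_iff.1 ((hcl.closure_eq.symm.trans closure_closedPoints) ▸ hc)
  haveI : LocallyQuasiFinite K.hom :=
    LocallyQuasiFinite.of_finite_preimage_singleton K.hom fun s => Set.toFinite _
  exact IsFinite.of_isProper_of_locallyQuasiFinite K.hom

theorem main (k : Type u) [Field k]
    (X Y : Over (Spec (CommRingCat.of k)))
    [GrpObj X] [IsProper X.hom] [GeometricallyIntegral X.hom]
    [GrpObj Y] [IsProper Y.hom] [GeometricallyIntegral Y.hom]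
    (f : X ⟶ Y) [IsMonHom f] [IsFinite f.left] [Flat f.left]
    (d : ℕ) (hd : ∀ y : ↥Y.left, Scheme.Hom.finrank f.left y = d)
    (M : Y.left.Modules) (hM : PicF.IsInvertible M)
    (KM : Over (Spec (CommRingCat.of k))) (iM : KM ⟶ Y) (hKM : ThetaGrp.IsKL Y M iM)
    [IsFinite KM.hom] (r : ℕ) (hr : ∀ s : ↥(Spec (CommRingCat.of k)), Scheme.Hom.finrank KM.hom s = r)
    (KL : Over (Spec (CommRingCat.of k))) (iL : KL ⟶ X)
    (hKL : ThetaGrp.IsKL X ((Scheme.Modules.pullback f.left).obj M) iL) :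
    IsFinite KL.hom ∧ ∀ s : ↥(Spec (CommRingCat.of k)), Scheme.Hom.finrank KL.hom s = d ^ 2 * r := by
  let Ω := AlgebraicClosure k
  let t := GrpSch.extBase k Ω
  haveI : IsCommMonObj X := isCommMonObj_of_isProper_of_geometricallyIntegral X
  haveI : IsCommMonObj Y := isCommMonObj_of_isProper_of_geometricallyIntegral Y
  let X' := bc Ω X
  let Y' := bc Ω Y
  haveI : IsProper X'.hom := isProper_bc Ω X
  haveI : IsProper Y'.hom := isProper_bc Ω Y
  haveI : GeometricallyIntegral X'.hom := geometricallyIntegral_bc Ω X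
  haveI : GeometricallyIntegral Y'.hom := geometricallyIntegral_bc Ω Y
  haveI : IsCommMonObj X' := isCommMonObj_bc Ω X
  haveI : IsCommMonObj Y' := isCommMonObj_bc Ω Y
  let f' : X' ⟶ Y' := (Over.pullback t).map f
  have hsq := GrpSch.isPullback_bc_map t f
  haveI : IsFinite f'.left := MorphismProperty.of_isPullback (P := @IsFinite) hsq.flip ‹_›
  haveI : Flat f'.left := MorphismProperty.of_isPullback (P := @Flat) hsq.flip ‹_›
  haveI : IsLocallyNoetherian Y.left := LocallyOfFiniteType.isLocallyNoetherian Y.hom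
  haveI : IsLocallyNoetherian Y'.left := LocallyOfFiniteType.isLocallyNoetherian Y'.hom
  have hd' : ∀ y : Y'.left, Scheme.Hom.finrank f'.left y = d := fun y =>
    (Scheme.Hom.finrank_of_isPullback _ _ f.left (GrpSch.bcProj t Y) hsq.flip y).trans (hd _)
  let M' := (Scheme.Modules.pullback (GrpSch.bcProj t Y)).obj M
  have hM' : PicF.IsInvertible M' := PicLoc.isInvertible_pullback _ hM
  let L := (Scheme.Modules.pullback f.left).obj M
  have hL : PicF.IsInvertible L := PicLoc.isInvertible_pullback _ hM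
  let L' := (Scheme.Modules.pullback (GrpSch.bcProj t X)).obj L
  have hL' : PicF.IsInvertible L' := PicLoc.isInvertible_pullback _ hL
  haveI : IsFinite (Red.bc t KM).hom := GrpSch.bc_hom_of (P := @IsFinite) t KM ‹_›
  have hrankM : ∀ s, Scheme.Hom.finrank (Red.bc t KM).hom s = r := fun s =>
    (Scheme.Hom.finrank_of_isPullback _ _ KM.hom t (GrpSch.isPullback_bc t KM) s).trans (hr _)
  let s₀ : ↥(Spec (CommRingCat.of Ω)) := IsLocalRing.closedPoint Ω
  have hKM' := KLBaseChange.isKL_bc t hM hKM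
  have hχM := RankKL.euler_sq_eq hM' hKM' s₀
  rw [hrankM s₀] at hχM
  have hr0 : (r : ℤ) ≠ 0 := by
    haveI : Subsingleton (Spec (CommRingCat.of k)) := inferInstanceAs (Subsingleton (PrimeSpectrum k))
    haveI : Nonempty (Spec (CommRingCat.of k)) := inferInstanceAs (Nonempty (PrimeSpectrum k))
    obtain ⟨y, -⟩ := (KLBasics.factors_iff hM hKM (1 : 𝟙_ (Over (Spec (CommRingCat.of k))) ⟶ Y)).mpr
      ⟨1, TransTriv.one _ _⟩
    have h := Scheme.Hom.one_le_finrank_map KM.hom (y.left (IsLocalRing.closedPoint k))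
    rw [hr] at h
    omega
  have hpull : @Curv2.euler Ω _ X'.left ⟨X'.hom⟩ L' = (d : ℤ) * @Curv2.euler Ω _ Y'.left ⟨Y'.hom⟩ M' := by
    rw [HilbertMult.euler_eq_chi hL' (c := ph f' (PicGrp.cls M' hM')) ?_,
      HilbertMult.euler_eq_chi hM' (c := PicGrp.cls M' hM') rfl, HilbertMult.chi_pull f' d hd']
    show PicF.pullCl (GrpSch.bcProj t X) (PicF.pullCl f.left (PicF.cl M)) =
      PicF.pullCl f'.left (PicF.pullCl (GrpSch.bcProj t Y) (PicF.cl M))
    rw [← PicLoc.pullCl_comp, ← PicLoc.pullCl_comp]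
    exact congrArg (PicF.pullCl · (PicF.cl M)) hsq.w.symm
  have hne : @Curv2.euler Ω _ X'.left ⟨X'.hom⟩ L' ≠ 0 := by
    rw [hpull]
    refine mul_ne_zero ?_ fun h => hr0 (by rw [← hχM, h]; norm_num)
    haveI : IsIntegral X.left := GeometricallyIntegral.isIntegral_of_subsingleton X.hom
    have h := Scheme.Hom.one_le_finrank_map f.left (genericPoint X.left)
    rw [hd] at h
    omega
  have hKL' := KLBaseChange.isKL_bc t hL hKL
  haveI : IsFinite (Red.bc t KL).hom := isFinite_of_euler_ne hL' hne hKL'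
  have hq := GrpSch.extBase_surjective_flat_qc k Ω
  haveI hKLfin : IsFinite KL.hom :=
    MorphismProperty.of_pullback_snd_of_descendsAlong (P := @IsFinite)
      (Q := @Surjective ⊓ @Flat ⊓ @QuasiCompact) (f := KL.hom) (g := t) hq ‹IsFinite (Red.bc t KL).hom›
  refine ⟨hKLfin, fun s => ?_⟩
  have hχL := RankKL.euler_sq_eq hL' hKL' s₀
  rw [hpull, mul_pow, hχM] at hχL
  haveI : Subsingleton (Spec (CommRingCat.of k)) := inferInstanceAs (Subsingleton (PrimeSpectrum k))
  have e : Scheme.Hom.finrank (Red.bc t KL).hom s₀ = Scheme.Hom.finrank KL.hom s :=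
    (Scheme.Hom.finrank_of_isPullback _ _ KL.hom t (GrpSch.isPullback_bc t KL) s₀).trans
      (congrArg _ (Subsingleton.elim _ _))
  rw [← e]
  exact_mod_cast hχL.symm

end Groth.Agent.Lib.H3.KLIsogeny
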