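import Groth.Agent.Lib.H3.FrameRep
import Groth.Agent.Lib.Flat55.FlatFunSheaf

/-!
# Descent of morphisms of pairs along faithfully flat quasi-compact morphisms
-/

set_option autoImplicit false
set_option linter.style.haveILetI false

universe u

open CategoryTheory CategoryTheory.Limits AlgebraicGeometry Opposite
open Pseudofunctor Bicategory

noncomputable section

namespace Groth.Agent.Lib.H3.PairDesc

open Groth.Agent.H3 Groth.Agent.Lib Groth.Agent.Lib.H3.FrameRep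

theorem fpqc_singleton {X' X : Scheme.{u}} (p : X' ⟶ X) [Flat p] [Surjective p] [QuasiCompact p] :
    Sieve.ofArrows (fun _ : PUnit.{u + 1} => X') (fun _ => p) ∈ Scheme.fpqcTopology X := by
  refine Scheme.fpqcTopology.superset_covering (le_of_eq ?_)
    (Precoverage.generate_mem_toGrothendieck p.singleton_mem_fpqcPrecoverage)
  rw [← Presieve.ofArrows_pUnit.{u} p]

/-- A morphism of pairs invariant under the relation of `p` descends. -/
theorem exists_desc {X' X Y : Scheme.{u}} (p : X' ⟶ X) [Flat p] [Surjective p] [QuasiCompact p]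
    {M' : X'.Modules} {M : X.Modules} {N : Y.Modules} (hM : PicF.IsInvertible M)
    (hN : PicF.IsInvertible N) (P : pr M' ⟶ pr M) (hPb : P.base = p) (hP : IsIso P.fiber)
    (t : X ⟶ Y) (h : pr M' ⟶ pr N) (hb : h.base = p ≫ t) (hh : IsIso h.fiber)
    (H : ∀ (W : Scheme.{u}) (q : W ⟶ X)
      (α α' : pr ((Scheme.Modules.pullback q).obj M) ⟶ pr M'),
      α ≫ P = mkH q (𝟙 _) → α' ≫ P = mkH q (𝟙 _) → α ≫ h = α' ≫ h) :
    ∃ K : pr M ⟶ pr N, K.base = t ∧ IsIso K.fiber ∧ P ≫ K = h := by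
  obtain ⟨φ, rfl⟩ := exists_mk P hPb
  obtain ⟨η, rfl⟩ := exists_mk h hb
  haveI : IsIso φ := hP
  haveI : IsIso η := hh
  let N₀ := (Scheme.Modules.pullback t).obj N
  haveI : N₀.IsQuasicoherent :=
    TensorMod.QCohInv.isQCoh_of_isInvertible (PicLoc.isInvertible_pullback t hN)
  haveI : M.IsQuasicoherent := TensorMod.QCohInv.isQCoh_of_isInvertible hM
  let ψ : (Scheme.Modules.pullback p).obj M ⟶ (Scheme.Modules.pullback p).obj N₀ :=
    inv φ ≫ η ≫ (Scheme.Modules.pullbackComp p t).inv.app N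
  haveI : IsIso ((Scheme.Modules.pullbackComp p t).inv.app N) :=
    ((Scheme.Modules.pullbackComp p t).symm.app N).isIso_hom
  haveI : IsIso ψ := inferInstance
  have key : ∀ (F : M ⟶ N₀), (Scheme.Modules.pullback p).map F = ψ →
      mkH p φ ≫ mkH t F = mkH (p ≫ t) η := by
    intro F hF
    rw [mk_comp, hF]
    simp [ψ]
  have split : ∀ ⦃W : Scheme.{u}⦄ (q : W ⟶ X) (a : W ⟶ X') (ha : a ≫ p = q),
      ∃ α : pr ((Scheme.Modules.pullback q).obj M) ⟶ pr M', α ≫ mkH p φ = mkH q (𝟙 _) ∧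
        α ≫ mkH (p ≫ t) η =
          mkH q (DescAlg.PbSec.conj M N₀ a ha ψ) ≫ mkH (M := N₀) t (𝟙 _) := by
    intro W q a ha
    refine ⟨mkH a ((DescAlg.PbSec.tr a ha M).inv ≫ (Scheme.Modules.pullback a).map (inv φ)), ?_, ?_⟩
    · rw [mk_comp, mk_congr ha]
      simp [DescAlg.PbSec.tr]
    · have e : mkH p (φ ≫ ψ) ≫ mkH (M := N₀) t (𝟙 _) = mkH (p ≫ t) η := by
        rw [mk_comp]
        simp [ψ]
      rw [← e, ← Category.assoc]
      congr 1
      rw [mk_comp, mk_congr ha]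
      simp [DescAlg.PbSec.conj, DescAlg.PbSec.tr]
  have hψ : ∀ ⦃W : Scheme.{u}⦄ (q : W ⟶ X) ⦃i j : PUnit.{u + 1}⦄ (a : W ⟶ X') (b : W ⟶ X')
      (ha : a ≫ p = q) (hb : b ≫ p = q),
      DescAlg.PbSec.conj M N₀ a ha ψ = DescAlg.PbSec.conj M N₀ b hb ψ := by
    intro W q _ _ a b ha hb
    obtain ⟨α, hα, hα'⟩ := split q a ha
    obtain ⟨α₂, hα₂, hα₂'⟩ := split q b hb
    have e := H W q α α₂ hα hα₂
    rw [hα', hα₂'] at e
    exact mk_inj (Cartesian.eq_of_comp_eq (mkH (M := N₀) t (𝟙 _))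
      (inferInstanceAs (IsIso (𝟙 N₀))) rfl e)
  obtain ⟨F, hF⟩ := DescAlg.PbSec.exists_hom (fun _ : PUnit.{u + 1} => p) (fpqc_singleton p)
    (fun _ => ψ) hψ
  haveI : IsIso F := Flat55.FlatFunSheaf.isIso_of_pullback (fun _ : PUnit.{u + 1} => p)
    (fun _ => inferInstance) (fun x => ⟨PUnit.unit, p.surjective x⟩) F
    (fun i => by rw [hF i]; infer_instance)
  exact ⟨mkH t F, rfl, ‹IsIso F›, key F (hF PUnit.unit)⟩

end Groth.Agent.Lib.H3.PairDesc
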