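import Groth.Agent.Lib.H3.FamRR
import Groth.Agent.Lib.H3.NSHom
import Groth.Agent.Lib.H3.PhiInj
import Groth.Agent.H63.AVIsogeny
import Groth.Agent.H63.AVProjective
import Groth.Agent.H4.IsogenyDim
import Groth.Agent.Lib.PtClosure98.Basic

/-!
# `rank K(L) = χ(L)²` over an algebraically closed field
-/

set_option autoImplicit false
set_option linter.style.haveILetI false
set_option linter.unusedSectionVars false

universe u

open CategoryTheory MonoidalCategory CartesianMonoidalCategory MonObj AlgebraicGeometry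

noncomputable section

namespace Groth.Agent.Lib.H3.RankKL

open Groth.Agent.H3 Groth.Agent.H3.PicCalc Groth.Agent.H52 Groth.Agent.Lib.H3.NSHom

local instance (Y : Scheme.{u}) : PicGrp.Law Y := Groth.Agent.Lib.TensorMod.Invertible.law Y

variable {k : Type u} [Field k] [IsAlgClosed k] (A : Over (Spec (CommRingCat.of k))) [GrpObj A]
  [IsCommMonObj A] [IsProper A.hom] [GeometricallyIntegral A.hom]

theorem rig_mum (c : PicLoc.PicSet A.left) : PhiInj.rig (mum A c) = 1 := by
  have e : lift (1 : A ⟶ A) (𝟙 A) ≫ μ[A] = 𝟙 A := (Hom.mul_def _ _).symm.trans (_root_.one_mul _)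
  simp only [PhiInj.rig, mum, map_mul, map_inv, ← ph_comp, e, lift_fst, lift_snd, ph_id]
  rw [CubeRel.ph_one, inv_one, _root_.mul_one, mul_inv_cancel]

/-- A separating family through which all Mumford bundles factor. -/
theorem exists_family :
    ∃ (B : Over (Spec (CommRingCat.of k))) (_ : GrpObj B) (x : PicLoc.PicSet (A ⊗ B).left),
      IsProper B.hom ∧ GeometricallyIntegral B.hom ∧ topologicalKrullDim B.left = topologicalKrullDim A.left ∧
      (∀ t : 𝟙_ (Over (Spec (CommRingCat.of k))) ⟶ B, TransInv.Inv (ph (PoincareSlices.slice (A := A) t) x)) ∧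
      (∀ (T : Over (Spec (CommRingCat.of k))) (w w' : T ⟶ B) (n : PicLoc.PicSet T.left),
        ph (A ◁ w) x = ph (A ◁ w') x * ph (snd A T) n → w = w') ∧
      (∀ T : Over (Spec (CommRingCat.of k)), ph (A ◁ (1 : T ⟶ B)) x = 1) ∧
      ∀ c : PicLoc.PicSet A.left, ∃ h : A ⟶ B, IsMonHom h ∧ ph (A ◁ h) x = mum A c := by
  obtain ⟨L, hL⟩ := Groth.Agent.H63.AVProjective.exists_isAmple A
  obtain ⟨B, _, q, P, hP, K, iK, hB1, hB2, hqh, hqf, hqs, hqfl, hK, hiq, -, hp⟩ :=
    DualAV.exists_dual_full hL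
  haveI := hB1; haveI := hB2; haveI := hqh; haveI := hqf; haveI := hqs; haveI := hqfl
  let p := PicGrp.cls P hP
  let x := p * ph (snd A B) (PhiInj.rig p)⁻¹
  have hx : ∀ {T : Over (Spec (CommRingCat.of k))} (w : T ⟶ B),
      ph (A ◁ w) x = ph (A ◁ w) p * ph (snd A T) (ph w (PhiInj.rig p))⁻¹ := fun {T} w => by
    simp only [x, map_mul, map_inv, ← ph_comp, whiskerLeft_snd]
  have hslice : ∀ t : 𝟙_ (Over (Spec (CommRingCat.of k))) ⟶ B, ph (slice (A := A) t) x = ph (slice t) p :=
    fun t => by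
    simp only [x, map_mul, map_inv, ← ph_comp, slice, lift_snd, TransInv.ph_const, inv_one, _root_.mul_one]
  have hxq : ph (A ◁ q) x = mum A (PicGrp.cls L hL.1) := by
    have h1 : ph q (PhiInj.rig p) = 1 := by
      rw [← PhiInj.rig_ph]
      exact (congrArg PhiInj.rig hp).trans (rig_mum A _)
    rw [hx, hp, h1, inv_one, map_one, _root_.mul_one]
  have hrig : PhiInj.rig x = 1 := by
    simp only [x, PhiInj.rig_mul, PhiInj.rig_snd, mul_inv_cancel]
  have hdim : topologicalKrullDim B.left = topologicalKrullDim A.left :=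
    (Groth.Agent.Lib.AffineCompl.Dim.topologicalKrullDim_of_finite_surjective q.left q.left.surjective).symm
  refine ⟨B, inferInstance, x, hB1, hB2, hdim, fun t => ?_, fun T w w' n h => NSHom.eq_of_family hL hK hiq hxq w w' n h,
    fun T => ?_, fun c => ?_⟩
  · obtain ⟨a, ha⟩ := GrpSch.exists_lift_point q t
    have e : ph (PoincareSlices.slice (A := A) t) x = defect (PicGrp.cls L hL.1) a := by
      rw [← ha]
      exact NSHom.slice_pull hL hxq a
    rw [e]
    exact TransInv.inv_defect _ a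
  · have e : (1 : T ⟶ B) = (1 : T ⟶ A) ≫ q := (MonObj.one_comp q).symm
    rw [e, whiskerLeft_comp, ph_comp, hxq, NSHom.ph_mum, MonObj.comp_one, _root_.mul_one, CubeRel.ph_one,
      map_one, inv_one, _root_.mul_one, mul_inv_cancel]
  · obtain ⟨h, hh, -, n, hn⟩ := NSHom.exists_hom_full hL hK hiq hxq c
    refine ⟨h, hh, ?_⟩
    have h1 := congrArg PhiInj.rig hn
    rw [PhiInj.rig_mul, rig_mum, _root_.one_mul, PhiInj.rig_snd, PhiInj.rig_ph, hrig, map_one] at h1
    rw [hn, ← h1, map_one, _root_.mul_one]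

variable {A}

theorem transTriv_of_fixed (ℓ : PicLoc.PicSet A.left) (y : 𝟙_ (Over (Spec (CommRingCat.of k))) ⟶ A)
    (hy : ph (Groth.Agent.H52.NondegAmple.tr y) ℓ = ℓ) : TransTriv A ℓ y 1 := by
  have e2 : fst A (𝟙_ (Over (Spec (CommRingCat.of k)))) * (snd A (𝟙_ (Over (Spec (CommRingCat.of k)))) ≫ y) =
      fst A _ ≫ Groth.Agent.H52.NondegAmple.tr y := by
    rw [MonObj.comp_mul, Category.comp_id, ← Category.assoc]
    congr 2
    exact toUnit_unique _ _
  show ph (ThetaGrp.transl A y ≫ fst A _) ℓ = _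
  rw [ThetaGrp.transl_fst, e2, ph_comp, map_one, _root_.mul_one, hy]

set_option maxHeartbeats 1000000 in
/-- **`χ(L)² = rank K(L)`.** -/
theorem euler_sq_eq {L : A.left.Modules} (hL : PicF.IsInvertible L) {K : Over (Spec (CommRingCat.of k))}
    {iK : K ⟶ A} (hK : ThetaGrp.IsKL A L iK) [IsFinite K.hom] (s : ↥(Spec (CommRingCat.of k))) :
    @Curv2.euler k _ A.left ⟨A.hom⟩ L ^ 2 = (Scheme.Hom.finrank K.hom s : ℤ) := by
  obtain ⟨B, _, x, hB1, hB2, hdim, hinv, hsep, hone, hhom⟩ := exists_family A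
  haveI := hB1; haveI := hB2
  haveI : IsIntegral A.left := GeometricallyIntegral.isIntegral_of_subsingleton A.hom
  haveI : IsIntegral B.left := GeometricallyIntegral.isIntegral_of_subsingleton B.hom
  haveI : Smooth A.hom := Groth.Agent.Lib.PtClosure98.Basic.smooth_closed A
  haveI : Smooth B.hom := Groth.Agent.Lib.PtClosure98.Basic.smooth_closed B
  haveI : Subsingleton (Spec (CommRingCat.of k)) := inferInstanceAs (Subsingleton (PrimeSpectrum k))
  haveI : Nonempty (Spec (CommRingCat.of k)) := inferInstanceAs (Nonempty (PrimeSpectrum k))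
  haveI : Subsingleton (𝟙_ (Over (Spec (CommRingCat.of k)))).left :=
    inferInstanceAs (Subsingleton (Spec (CommRingCat.of k)))
  haveI : Nonempty (𝟙_ (Over (Spec (CommRingCat.of k)))).left :=
    inferInstanceAs (Nonempty (Spec (CommRingCat.of k)))
  let ℓ := PicGrp.cls L hL
  obtain ⟨h, hh, hhx⟩ := hhom ℓ
  haveI := hh
  have hker : ∀ {T : Over (Spec (CommRingCat.of k))} (a : T ⟶ A), a ≫ h = 1 ↔ ∃ y : T ⟶ K, y ≫ iK = a := by
    intro T a
    rw [KLBasics.factors_iff hL hK a]
    have e : ph (A ◁ (a ≫ h)) x = ph (A ◁ a) (mum A ℓ) := by rw [whiskerLeft_comp, ph_comp, hhx]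
    constructor
    · intro ha
      refine ⟨ph a ℓ, ?_⟩
      rw [ha, hone, NSHom.ph_mum, eq_comm, mul_inv_eq_one, mul_inv_eq_iff_eq_mul] at e
      show ph (ThetaGrp.transl A a ≫ fst A T) ℓ = _
      rw [ThetaGrp.transl_fst, e, mul_comm]
    · rintro ⟨n, hn⟩
      change ph (ThetaGrp.transl A a ≫ fst A T) ℓ = _ at hn
      rw [ThetaGrp.transl_fst] at hn
      refine hsep T _ 1 (n * (ph a ℓ)⁻¹) ?_
      rw [e, hone, _root_.one_mul, NSHom.ph_mum, hn, map_mul, map_inv, mul_comm (ph (fst A T) ℓ),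
        mul_inv_cancel_right]
  haveI : IsClosedImmersion iK.left := hK.closed
  haveI : IsProper K.hom := by rw [← Over.w iK]; infer_instance
  haveI : Mono iK := Over.mono_of_mono_left iK
  haveI : Finite (Over.mk (𝟙 (Spec (CommRingCat.of k))) ⟶ K) := by
    haveI : Finite K.left := Set.finite_univ_iff.mp
      ((K.hom.finite_preimage_singleton s).subset fun z _ => Subsingleton.elim (K.hom z) s)
    refine Finite.of_injective (fun z => z.left (IsLocalRing.closedPoint k)) fun a b e => ?_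
    exact Over.OverMorphism.ext (ext_of_apply_closedPoint_eq K.hom (Over.w a) (Over.w b) e)
  have hfinset : {a : Over.mk (𝟙 (Spec (CommRingCat.of k))) ⟶ A | a ≫ h = 1}.Finite := by
    refine (Set.finite_range fun z : Over.mk (𝟙 (Spec (CommRingCat.of k))) ⟶ K => z ≫ iK).subset ?_
    intro a ha
    exact (hker a).mp ha
  haveI : IsFinite h.left := Groth.Agent.H63.AVIsogeny.isFinite_of_finite_kerPts h hfinset
  haveI : Surjective h.left := Groth.Agent.H4.IsogenyDim.surjective_of_finite h hdim.le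
  haveI : Flat h.left := (Groth.Agent.H4.IsogenyDim.isFinite_and_flat h hdim.ge).2
  have hnd : Set.Finite {y : 𝟙_ (Over (Spec (CommRingCat.of k))) ⟶ A |
      ph (Groth.Agent.H52.NondegAmple.tr y) ℓ = ℓ} := by
    refine hfinset.subset fun y hy => ?_
    show y ≫ h = 1
    exact (hker (T := 𝟙_ (Over (Spec (CommRingCat.of k)))) y).mpr
      ((KLBasics.factors_iff hL hK (T := 𝟙_ (Over (Spec (CommRingCat.of k)))) y).mpr ⟨1, transTriv_of_fixed ℓ y hy⟩)
  -- the kernel
  have hKh : iK ≫ h = 1 := (hker iK).mpr ⟨𝟙 _, Category.id_comp _⟩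
  have hpb : IsPullback iK (toUnit K) h η[B] := by
    have hc : ∀ c : Limits.PullbackCone h η[B], ∃ y : c.pt ⟶ K, y ≫ iK = c.fst := fun c => by
      refine (hker c.fst).mp ?_
      rw [c.condition, Hom.one_def]
      congr 1
      exact toUnit_unique _ _
    refine ⟨⟨by rw [hKh, Hom.one_def]⟩, ⟨Limits.PullbackCone.IsLimit.mk _
      (fun c => (hc c).choose) (fun c => (hc c).choose_spec)
      (fun c => toUnit_unique _ _) fun c m h1 _ => ?_⟩⟩
    rw [← cancel_mono iK, h1]
    exact (hc c).choose_spec.symm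
  have hd : ∀ y, Scheme.Hom.finrank h.left y = Scheme.Hom.finrank K.hom s := by
    intro y
    haveI : LocallyOfFinitePresentation h.left := by
      haveI : IsLocallyNoetherian B.left := LocallyOfFiniteType.isLocallyNoetherian B.hom
      infer_instance
    have sq := hpb.map (Over.forget _)
    have e : (toUnit K).left = K.hom := (Category.comp_id _).symm.trans (Over.w (toUnit K))
    haveI : IsFinite (toUnit K).left := e.symm ▸ ‹IsFinite K.hom›
    refine ((Scheme.Hom.isLocallyConstant_finrank h.left).apply_eq_of_preconnectedSpace y (η[B].left s)).trans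
      ((Scheme.Hom.finrank_of_isPullback _ _ h.left η[B].left sq s).symm.trans ?_)
    show Scheme.Hom.finrank (toUnit K).left s = _
    rw [e]
  obtain ⟨Λ, hΛi, hΛ⟩ := DualAV.exists_mumford A hL
  have hΛc : PicGrp.cls Λ hΛi = mum A ℓ := by
    have hm := ThetaLift.cls_mul A hL hΛi hΛ
    show _ = ph μ[A] ℓ * (ph (fst A A) ℓ)⁻¹ * (ph (snd A A) ℓ)⁻¹
    rw [← hm, mul_right_comm _ (ph (fst A A) ℓ)⁻¹, mul_inv_cancel_right, mul_inv_cancel_right]
  obtain ⟨g, hg⟩ := Groth.Agent.H63.AVIsogeny.exists_dim (A := A)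
  exact FamRR.euler_sq hL hΛi hΛ x hinv
    (fun t ht e => ht (hsep _ t 1 1 (by
      rw [hone, NSHom.whisker_point t, ph_comp, e, map_one, map_one, _root_.mul_one])))
    (fun T g hg' => hsep T g 1 1 (by rw [hg', hone, map_one, _root_.mul_one]))
    hone hnd h (hhx.trans hΛc.symm) g hg _ hd

end Groth.Agent.Lib.H3.RankKL
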