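import Groth.Agent.S19476
import Groth.Agent.Lib.H3.FppfFactor
import Groth.Agent.Lib.TensorMod.LocFree
import Groth.Agent.H3.PicCalc
import Groth.Agent.H4.PicZero.Transpose

/-!
# Rigidified classes trivial on an fppf cover are trivial
-/

set_option autoImplicit false
set_option linter.style.haveILetI false

universe u

open CategoryTheory CategoryTheory.Limits MonoidalCategory CartesianMonoidalCategory MonObj AlgebraicGeometry

namespace Groth.Agent.Lib.H3.RigidDescent

open Groth.Agent.H3

noncomputable section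

local instance (Y : Scheme.{u}) : PicGrp.Law Y := Groth.Agent.Lib.TensorMod.Invertible.law Y

variable {S : Scheme.{u}} {A T : Over S} [GrpObj A] [IsProper A.hom] [Flat A.hom]
  [GeometricallyIntegral A.hom] [IsLocallyNoetherian T.left]

/-- A class rigidified along the unit section and trivial on an fppf cover of the parameters is
trivial. -/
theorem eq_one_of_locally (d : PicLoc.PicSet (A ⊗ T).left)
    (hrig : PicCalc.ph (lift (1 : T ⟶ A) (𝟙 T)) d = 1) {R : Presieve T.left}
    (hR : R ∈ Scheme.fppfPrecoverage T.left)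
    (hloc : ∀ ⦃U : Scheme.{u}⦄ (v : U ⟶ T.left), R v →
      PicF.pullCl (PicF.XTmap A.hom (AbDual.ovrHom T v)) d.1 = (1 : PicLoc.PicSet _).1) : d = 1 := by
  obtain ⟨D, hD, rfl⟩ := PicGrp.exists_eq_cls d
  let f : (A ⊗ T).left ⟶ T.left := pullback.snd A.hom T.hom
  haveI : IsProper f := inferInstanceAs (IsProper (pullback.snd A.hom T.hom))
  haveI : Flat f := inferInstanceAs (Flat (pullback.snd A.hom T.hom))
  haveI : GeometricallyIntegral f :=
    inferInstanceAs (GeometricallyIntegral (pullback.snd A.hom T.hom))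
  obtain ⟨Z, iZ, hiZ, huniv⟩ :=
    Groth.Agent.S19476.result f D (TensorMod.LocFree.of_isInvertible hD)
  obtain ⟨hcov, hprop⟩ := Groth.Agent.H4.PicZero.fppf_cover_props hR
  haveI : IsIso iZ := by
    refine FppfFactor.isIso iZ fun t => ?_
    obtain ⟨U, v, hv, ht⟩ := hcov t
    obtain ⟨hflat, hlfp⟩ := hprop v hv
    haveI := hlfp
    haveI : IsLocallyNoetherian U := LocallyOfFiniteType.isLocallyNoetherian v
    have h1 : Nonempty ((Scheme.Modules.pullback (PicF.XTmap A.hom (AbDual.ovrHom T v))).obj D ≅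
        Coh.structureModule (PicF.XT A.hom (AbDual.ovr T v))) := by
      have h := (hloc v hv).trans PicGrp.one_val
      rw [PicGrp.cls_val] at h
      exact (Quot.eqvGen_exact h).rec (fun _ _ h => h) (fun x => ⟨Iso.refl x⟩)
        (fun _ _ _ h => ⟨h.some.symm⟩) (fun _ _ _ _ _ h h' => ⟨h.some ≪≫ h'.some⟩)
    obtain ⟨e⟩ := h1
    let l : pullback f v ⟶ PicF.XT A.hom (AbDual.ovr T v) :=
      pullback.lift (pullback.fst f v ≫ pullback.fst A.hom T.hom) (pullback.snd f v) (by
        show _ = pullback.snd f v ≫ v ≫ T.hom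
        rw [Category.assoc, pullback.condition, ← Category.assoc, ← Category.assoc]
        exact congrArg (· ≫ T.hom) pullback.condition)
    have hl : l ≫ PicF.XTmap A.hom (AbDual.ovrHom T v) = pullback.fst f v := by
      apply pullback.hom_ext
      · rw [Category.assoc, PicF.XTmap, pullback.lift_fst, Category.comp_id]
        exact pullback.lift_fst _ _ _
      · rw [Category.assoc, PicF.XTmap, pullback.lift_snd]
        exact ((Category.assoc _ _ _).symm.trans (congrArg (· ≫ v) (pullback.lift_snd _ _ _))).trans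
          pullback.condition.symm
    obtain ⟨v', hv'⟩ := (huniv U v inferInstance).2
      ⟨Coh.structureModule U, TensorMod.LocFree.of_isInvertible
        (fun x => ⟨⊤, trivial, ⟨Scheme.Modules.restrictUnitIso _⟩⟩),
        ⟨(Scheme.Modules.pullbackCongr hl.symm).app D ≪≫ ((Scheme.Modules.pullbackComp l _).app D).symm ≪≫
          (Scheme.Modules.pullback l).mapIso e ≪≫ PicLoc.pullbackStructureIso l ≪≫
          (PicLoc.pullbackStructureIso (pullback.snd f v)).symm⟩⟩
    exact ⟨U, v', hv' ▸ hflat, hv' ▸ ht⟩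
  obtain ⟨M, hM, ⟨e⟩⟩ := (huniv T.left (𝟙 _) inferInstance).1 ⟨inv iZ, IsIso.inv_hom_id iZ⟩
  have hM' := TensorMod.LocFree.isInvertible_of_rank_one hM
  let s : (A ⊗ T).left ⟶ pullback f (𝟙 T.left) :=
    pullback.lift (𝟙 _) f ((Category.id_comp _).trans (Category.comp_id _).symm)
  have hd : PicGrp.cls D hD = PicCalc.ph (snd A T) (PicGrp.cls M hM') := by
    apply Subtype.ext
    rw [PicGrp.cls_val, PicCalc.ph_val, PicGrp.cls_val]
    exact Quot.sound ⟨(Scheme.Modules.pullbackId (X := (A ⊗ T).left)).symm.app D ≪≫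
      (Scheme.Modules.pullbackCongr (pullback.lift_fst (f := f) (g := 𝟙 T.left) _ _ _).symm).app D ≪≫
      ((Scheme.Modules.pullbackComp s (pullback.fst f (𝟙 T.left))).app D).symm ≪≫
      (Scheme.Modules.pullback s).mapIso e ≪≫
      (Scheme.Modules.pullbackComp s (pullback.snd f (𝟙 T.left))).app M ≪≫
      (Scheme.Modules.pullbackCongr (pullback.lift_snd (f := f) (g := 𝟙 T.left) _ _ _)).app M⟩
  rw [hd, ← PicCalc.ph_comp, lift_snd, PicCalc.ph_id] at hrig
  rw [hd, hrig, map_one]

end

end Groth.Agent.Lib.H3.RigidDescent
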