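import Groth.Agent.H3.ThetaMaps
import Groth.Agent.H2.FlatHom.Field
import Groth.Agent.Lib.TensorMod.Invertible
import Groth.Agent.Lib.H3.PairDesc
import Groth.Prelude.Def_AlgGrp

/-!
# Points of theta groups commuting with a kernel descend
-/

set_option autoImplicit false
set_option linter.style.haveILetI false

universe u

open CategoryTheory MonoidalCategory CartesianMonoidalCategory MonObj AlgebraicGeometry Opposite
open Pseudofunctor Bicategory

noncomputable section

namespace Groth.Agent.Lib.H3.ThetaDesc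

open Groth.Agent.H3 Groth.Agent.Lib.H3.FrameRep

variable {S : Scheme.{u}} {A B : Over S} [GrpObj A] [GrpObj B] (f : A ⟶ B) (M : B.left.Modules)

/-- The inverse image of `M`. -/
abbrev pM : A.left.Modules := (Scheme.Modules.pullback f.left).obj M

/-- The projection to `(B, M)`. -/
abbrev pj (T : Over S) := Cartesian.proj f M (Iso.refl (pM f M)) T

theorem exists_descP (T : Over S) :
    ∃ P : ThetaGrp.thetaObj A (pM f M) T ⟶ ThetaGrp.thetaObj B M T,
      IsIso P.fiber ∧ P.base = (f ▷ T).left ∧ P ≫ Cartesian.toBase M T = pj f M T := by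
  have hb : IsIso (Cartesian.toBase M T).fiber :=
    (show IsIso (𝟙 ((Scheme.Modules.pullback (fst B T).left).obj M)) from inferInstance)
  obtain ⟨P, ⟨h1, h2⟩, -⟩ := Cartesian.exists_unique_lift (Cartesian.toBase M T) hb (f ▷ T).left
    (pj f M T) (by
      show (fst A T ≫ f).left = (f ▷ T).left ≫ (fst B T).left
      rw [← Over.comp_left, whiskerRight_fst])
  exact ⟨P, ThetaMaps.isIso_fiber_of_comp P _ hb
    (h2.symm ▸ Cartesian.isIso_proj_fiber f M (Iso.refl _) T), h1, h2⟩

/-- The morphism `(A × T, f^*M) ⟶ (B × T, M)`. -/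
def descP (T : Over S) : ThetaGrp.thetaObj A (pM f M) T ⟶ ThetaGrp.thetaObj B M T :=
  (exists_descP f M T).choose

theorem isIso_descP_fiber (T : Over S) : IsIso (descP f M T).fiber :=
  (exists_descP f M T).choose_spec.1

theorem descP_base (T : Over S) : (descP f M T).base = (f ▷ T).left :=
  (exists_descP f M T).choose_spec.2.1

theorem descP_toBase (T : Over S) : descP f M T ≫ Cartesian.toBase M T = pj f M T :=
  (exists_descP f M T).choose_spec.2.2

theorem isIso_toBase_fiber (T : Over S) : IsIso (Cartesian.toBase M T).fiber :=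
  inferInstanceAs (IsIso (𝟙 ((Scheme.Modules.pullback (fst B T).left).obj M)))

variable [IsMonHom f]

theorem sq {T : Over S} (a : T ⟶ A) :
    ThetaGrp.transl A a ≫ (f ▷ T) = (f ▷ T) ≫ ThetaGrp.transl B (a ≫ f) := by
  apply CartesianMonoidalCategory.hom_ext
  · simp only [Category.assoc, whiskerRight_fst, ThetaGrp.transl_fst, MonObj.comp_mul,
      whiskerRight_snd_assoc]
    rw [← Category.assoc, ThetaGrp.transl_fst, MonObj.mul_comp, Category.assoc]
  · simp only [Category.assoc, whiskerRight_snd, ThetaGrp.transl_snd]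

theorem exists_liftPt {T : Over S} (x : T ⟶ A) (c : ThetaGrp.thetaPts B M T)
    (hc' : ThetaGrp.IsOverPt c (x ≫ f)) :
    ∃ β : ThetaGrp.thetaPts A (pM f M) T, ThetaGrp.IsOverPt β x ∧
      β.1.hom ≫ descP f M T = descP f M T ≫ c.1.hom :=
  ThetaMaps.exists_lift _ (isIso_descP_fiber f M T) c hc'
    (by rw [descP_base, ← Over.comp_left, ← Over.comp_left, sq])

theorem kernelPt_descP {T : Over S} {n : T ⟶ A} (hn : n ≫ f = 1)
    {ν : ThetaGrp.thetaPts A (pM f M) T} (hν : ThetaGrp.IsOverPt ν n)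
    (hνP : ν.1.hom ≫ pj f M T = pj f M T) : ν.1.hom ≫ descP f M T = descP f M T := by
  refine Cartesian.eq_of_comp_eq (Cartesian.toBase M T) (isIso_toBase_fiber M T) ?_ ?_
  · rw [CoGrothendieck.categoryStruct_comp_base, hν, descP_base, ← Over.comp_left, sq, hn,
      ThetaGrp.transl_one, Category.comp_id]
  · rw [Category.assoc, descP_toBase, hνP]

theorem bcLift_descP {T' T : Over S} (g : T' ⟶ T) :
    ThetaGrp.bcLift A (pM f M) g ≫ descP f M T = descP f M T' ≫ ThetaGrp.bcLift B M g := by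
  refine Cartesian.eq_of_comp_eq (Cartesian.toBase M T) (isIso_toBase_fiber M T) ?_ ?_
  · rw [CoGrothendieck.categoryStruct_comp_base, CoGrothendieck.categoryStruct_comp_base,
      descP_base, descP_base]
    show (A ◁ g).left ≫ (f ▷ T).left = (f ▷ T').left ≫ (B ◁ g).left
    rw [← Over.comp_left, ← Over.comp_left, MonoidalCategory.whisker_exchange]
  · rw [Category.assoc, descP_toBase, Category.assoc, Cartesian.bcLift_toBase, descP_toBase,
      Cartesian.bcLift_proj]

theorem kernelPt_bcLift {T' T : Over S} (g : T' ⟶ T) {n : T' ⟶ A} (hn : n ≫ f = 1)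
    {ν : ThetaGrp.thetaPts A (pM f M) T'} (hν : ThetaGrp.IsOverPt ν n)
    (hνP : ν.1.hom ≫ pj f M T' = pj f M T') :
    ν.1.hom ≫ ThetaGrp.bcLift A (pM f M) g ≫ descP f M T =
      ThetaGrp.bcLift A (pM f M) g ≫ descP f M T := by
  rw [bcLift_descP, ← Category.assoc, kernelPt_descP f M hn hν hνP]

/-- Lifted points commute with the kernel points. -/
theorem lift_commute_kernelPt [IsCommMonObj A] {T : Over S}
    {β : ThetaGrp.thetaPts A (pM f M) T} {c : ThetaGrp.thetaPts B M T}
    (hβ : β.1.hom ≫ descP f M T = descP f M T ≫ c.1.hom) {n : T ⟶ A} (hn : n ≫ f = 1)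
    {ν : ThetaGrp.thetaPts A (pM f M) T} (hν : ThetaGrp.IsOverPt ν n)
    (hνP : ν.1.hom ≫ pj f M T = pj f M T) : β * ν = ν * β := by
  obtain ⟨x, hx⟩ := β.2
  have e := kernelPt_descP f M hn hν hνP
  refine Subtype.ext (Aut.ext ?_)
  refine Cartesian.eq_of_comp_eq (descP f M T) (isIso_descP_fiber f M T) ?_ ?_
  · rw [Cartesian.overPt_mul (show ThetaGrp.IsOverPt β x from hx) hν,
      Cartesian.overPt_mul hν (show ThetaGrp.IsOverPt β x from hx), _root_.mul_comm]
  · show (ν.1.hom ≫ β.1.hom) ≫ _ = (β.1.hom ≫ ν.1.hom) ≫ _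
    rw [Category.assoc, Category.assoc, e, hβ, ← Category.assoc, e]

section Field

variable {k : Type u} [Field k] {A B : Over (Spec (CommRingCat.of k))} [GrpObj A] [GrpObj B]
  [IsProper A.hom] [IsProper B.hom] [GeometricallyIntegral B.hom] (f : A ⟶ B) [IsMonHom f]
  [Surjective f.left] (M : B.left.Modules)

theorem cover_props (T : Over (Spec (CommRingCat.of k))) :
    Flat (f ▷ T).left ∧ Surjective (f ▷ T).left ∧ QuasiCompact (f ▷ T).left := by
  haveI : GeometricallyReduced B.hom := inferInstance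
  haveI : Flat f.left := Groth.Agent.H2.FlatHom.Field.flat_of_geometricallyReduced f
  haveI : IsProper (f.left ≫ B.hom) := by rw [Over.w]; infer_instance
  haveI : IsProper f.left := IsProper.of_comp f.left B.hom
  have H : IsPullback (fst A T).left (f ▷ T).left f.left (fst B T).left := by
    refine IsPullback.of_bot (v₂₁ := (snd B T).left) (v₂₂ := B.hom) (h₃₁ := T.hom) ?_ ?_
      (IsPullback.of_hasPullback B.hom T.hom)
    · rw [← Over.comp_left, whiskerRight_snd, Over.w]
      exact IsPullback.of_hasPullback A.hom T.hom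
    · rw [← Over.comp_left, ← Over.comp_left, whiskerRight_fst]
  exact ⟨MorphismProperty.of_isPullback H ‹Flat f.left›,
    MorphismProperty.of_isPullback H ‹Surjective f.left›,
    MorphismProperty.of_isPullback H (inferInstance : QuasiCompact f.left)⟩

variable {f M} [GeometricallyIntegral A.hom] [IsCommMonObj A]

/-- A point commuting with all kernel points descends. -/
theorem exists_descPt (hM : PicF.IsInvertible M) {T : Over (Spec (CommRingCat.of k))} {x : T ⟶ A}
    (β : ThetaGrp.thetaPts A (pM f M) T) (hx : ThetaGrp.IsOverPt β x)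
    (hc : ∀ (T' : Over (Spec (CommRingCat.of k))) (g : T' ⟶ T) (n : T' ⟶ A), n ≫ f = 1 →
      ∀ β' ν : ThetaGrp.thetaPts A (pM f M) T', ThetaGrp.IsBaseChange β' g β →
        ThetaGrp.IsOverPt ν n → ν.1.hom ≫ pj f M T' = pj f M T' → β' * ν = ν * β') :
    ∃ c : ThetaGrp.thetaPts B M T, ThetaGrp.IsOverPt c (x ≫ f) ∧
      β.1.hom ≫ descP f M T = descP f M T ≫ c.1.hom := by
  obtain ⟨_, _, _⟩ := cover_props f T
  have hbase : (β.1.hom ≫ descP f M T).base = (f ▷ T).left ≫ (ThetaGrp.transl B (x ≫ f)).left := by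
    rw [CoGrothendieck.categoryStruct_comp_base, hx, descP_base, ← Over.comp_left, ← Over.comp_left, sq]
  refine Exists.elim (PairDesc.exists_desc (f ▷ T).left
    (M' := (Scheme.Modules.pullback (fst A T).left).obj (pM f M))
    (M := (Scheme.Modules.pullback (fst B T).left).obj M)
    (N := (Scheme.Modules.pullback (fst B T).left).obj M)
    (PicLoc.isInvertible_pullback _ hM) (PicLoc.isInvertible_pullback _ hM)
    (descP f M T) (descP_base f M T) (isIso_descP_fiber f M T)
    (ThetaGrp.transl B (x ≫ f)).left (β.1.hom ≫ descP f M T) hbase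
    (ThetaMaps.isIso_fiber_comp _ _ (ThetaMaps.isIso_fiber_pt β) (isIso_descP_fiber f M T)) ?_) fun K ⟨hKb, hKf, hK⟩ => ?_
  rotate_left
  · haveI : IsIso K := CoGrothIso.isIso_of_base_fiber K (by rw [hKb]; exact ThetaPts.isIso_transl _) hKf
    exact ⟨⟨asIso K, x ≫ f, hKb⟩, hKb, hK.symm⟩
  intro W q α α' hα hα'
  let a := α.base
  let b := α'.base
  have ha : a ≫ (f ▷ T).left = q := by
    have := congrArg CoGrothendieck.Hom.base hα
    rwa [CoGrothendieck.categoryStruct_comp_base, descP_base] at this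
  have hb : b ≫ (f ▷ T).left = q := by
    have := congrArg CoGrothendieck.Hom.base hα'
    rwa [CoGrothendieck.categoryStruct_comp_base, descP_base] at this
  let T' : Over (Spec (CommRingCat.of k)) := Over.mk (a ≫ (A ⊗ T).hom)
  let aT : T' ⟶ A ⊗ T := Over.homMk a rfl
  let bT : T' ⟶ A ⊗ T := Over.homMk b (by
    show b ≫ (A ⊗ T).hom = a ≫ (A ⊗ T).hom
    rw [← Over.w (f ▷ T), ← Category.assoc, ← Category.assoc, ha, hb])
  have hab : aT ≫ (f ▷ T) = bT ≫ (f ▷ T) := Over.OverMorphism.ext (ha.trans hb.symm)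
  let g : T' ⟶ T := aT ≫ snd A T
  have hg : bT ≫ snd A T = g := by
    show bT ≫ snd A T = aT ≫ snd A T
    rw [← whiskerRight_snd f T, ← Category.assoc, ← Category.assoc, hab]
  have h1 : (aT ≫ fst A T) ≫ f = (bT ≫ fst A T) ≫ f := by
    rw [Category.assoc, Category.assoc, ← whiskerRight_fst f T, ← Category.assoc, ← Category.assoc, hab]
  let n : T' ⟶ A := (aT ≫ fst A T)⁻¹ * (bT ≫ fst A T)
  have hn : n ≫ f = 1 := by rw [MonObj.mul_comp, GrpObj.inv_comp, h1, inv_mul_cancel]
  obtain ⟨ν, ⟨hν, hνP⟩, -⟩ := Cartesian.existsUnique_kernelPt f M (Iso.refl (pM f M)) n hn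
  obtain ⟨β', hβ', hβ'c⟩ := ThetaMaps.exists_lift (ThetaGrp.bcLift A (pM f M) g)
    (ThetaMaps.bcLift_fiber_isIso g) β hx (ThetaMaps.bcLift_transl g x)
  have hcomm := congrArg (fun z : ThetaGrp.thetaPts A (pM f M) T' => z.1.hom)
    (hc T' g n hn β' ν hβ'c hν hνP)
  change ν.1.hom ≫ β'.1.hom = β'.1.hom ≫ ν.1.hom at hcomm
  let sa : T' ⟶ A ⊗ T' := lift (aT ≫ fst A T) (𝟙 T')
  have hsa : sa ≫ (A ◁ g) = aT := by
    apply CartesianMonoidalCategory.hom_ext
    · simp [sa]
    · simp [sa, g]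
  have hsb : sa ≫ ThetaGrp.transl A n ≫ (A ◁ g) = bT := by
    apply CartesianMonoidalCategory.hom_ext
    · rw [Category.assoc, Category.assoc, whiskerLeft_fst, ThetaGrp.transl_fst, MonObj.comp_mul,
        lift_fst, lift_snd_assoc, Category.id_comp]
      exact mul_inv_cancel_left _ _
    · rw [Category.assoc, Category.assoc, whiskerLeft_snd, hg, ← Category.assoc (ThetaGrp.transl A n),
        ThetaGrp.transl_snd, lift_snd_assoc, Category.id_comp]
  obtain ⟨α₁, ⟨hα₁b, hα₁⟩, -⟩ := Cartesian.exists_unique_lift (ThetaGrp.bcLift A (pM f M) g)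
    (ThetaMaps.bcLift_fiber_isIso g) (a := pr ((Scheme.Modules.pullback q).obj
      ((Scheme.Modules.pullback (fst B T).left).obj M))) sa.left α (congrArg Over.Hom.left hsa).symm
  have hα'eq : α₁ ≫ ν.1.hom ≫ ThetaGrp.bcLift A (pM f M) g = α' := by
    refine Cartesian.eq_of_comp_eq (descP f M T) (isIso_descP_fiber f M T) ?_ ?_
    · rw [CoGrothendieck.categoryStruct_comp_base, CoGrothendieck.categoryStruct_comp_base, hα₁b, hν]
      exact congrArg Over.Hom.left hsb
    · rw [Category.assoc, Category.assoc, kernelPt_bcLift f M g hn hν hνP, ← Category.assoc, hα₁,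
        hα, hα']
  have hbc : ThetaGrp.bcLift A (pM f M) g ≫ β.1.hom = β'.1.hom ≫ ThetaGrp.bcLift A (pM f M) g :=
    hβ'c.symm
  calc α ≫ β.1.hom ≫ descP f M T
      = α₁ ≫ β'.1.hom ≫ ThetaGrp.bcLift A (pM f M) g ≫ descP f M T := by
        rw [← hα₁, Category.assoc, ← Category.assoc (ThetaGrp.bcLift A (pM f M) g), hbc, Category.assoc]
    _ = α₁ ≫ β'.1.hom ≫ ν.1.hom ≫ ThetaGrp.bcLift A (pM f M) g ≫ descP f M T := by
        rw [kernelPt_bcLift f M g hn hν hνP]
    _ = α₁ ≫ ν.1.hom ≫ β'.1.hom ≫ ThetaGrp.bcLift A (pM f M) g ≫ descP f M T := by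
        rw [← Category.assoc β'.1.hom ν.1.hom, ← hcomm, Category.assoc]
    _ = α' ≫ β.1.hom ≫ descP f M T := by
        rw [← hα'eq, Category.assoc, Category.assoc,
          ← Category.assoc (ThetaGrp.bcLift A (pM f M) g) β.1.hom, hbc, Category.assoc]

/-- The points of `f⁻¹ K(M)` are the points of `K(f^*M)` orthogonal to the kernel. -/
theorem factors_iff_perp (hM : PicF.IsInvertible M) {N : Over (Spec (CommRingCat.of k))}
    {i : N ⟶ A} (hN : AlgGrp.IsKernel i f)
    {KL : Over (Spec (CommRingCat.of k))} {iL : KL ⟶ A} (hKL : ThetaGrp.IsKL A (pM f M) iL)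
    {KM : Over (Spec (CommRingCat.of k))} {iM : KM ⟶ B} (hKM : ThetaGrp.IsKL B M iM)
    (T : Over (Spec (CommRingCat.of k))) (x : T ⟶ A) :
    (∃ y : T ⟶ KM, y ≫ iM = x ≫ f) ↔
      ((∃ y : T ⟶ KL, y ≫ iL = x) ∧ ThetaGrp.IsPerpPt (pM f M) i x) := by
  letI : ∀ Y : Scheme.{u}, PicGrp.Law Y := Groth.Agent.Lib.TensorMod.Invertible.law
  haveI : Subsingleton ↥(Spec (CommRingCat.of k)) := inferInstance
  have hL : PicF.IsInvertible (pM f M) := PicLoc.isInvertible_pullback f.left hM
  constructor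
  · intro hx
    refine ⟨(KLBasics.factors_iff hL hKL x).mpr ?_, fun T' g y β₁ β₂ h₁ h₂ => ?_⟩
    · obtain ⟨n, hn⟩ := (KLBasics.factors_iff hM hKM _).mp hx
      refine ⟨n, ?_⟩
      have hl : PicGrp.cls (pM f M) hL = PicCalc.ph f (PicGrp.cls M hM) := Subtype.ext (by
        rw [PicCalc.ph_val, PicGrp.cls_val, PicGrp.cls_val, PicLoc.pullCl_cl])
      have h := congrArg (PicCalc.ph (f ▷ T)) hn
      unfold PicCalc.TransTriv
      rw [map_mul, ← PicCalc.ph_comp, ← PicCalc.ph_comp, ← PicCalc.ph_comp, whiskerRight_fst,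
        whiskerRight_snd, ← Category.assoc, ← sq, Category.assoc, whiskerRight_fst] at h
      rwa [hl, ← PicCalc.ph_comp, ← PicCalc.ph_comp, Category.assoc]
    · refine ThetaMaps.commute_of_local hL h₁ h₂ fun t => ?_
      obtain ⟨z, hz⟩ := hx
      obtain ⟨U, htU, c, hc'⟩ := (ThetaPts.factors_iff_local hM hKM ((g ≫ x) ≫ f)).mp
        ⟨g ≫ z, by rw [Category.assoc, hz, Category.assoc]⟩ t
      refine ⟨U, htU, fun c₁ c₂ hc₁ hc₂ => ?_⟩
      obtain ⟨d, hd, hdP⟩ := exists_liftPt f M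
        ((Over.homMk U.ι rfl : Over.mk (U.ι ≫ T'.hom) ⟶ T') ≫ g ≫ x) c (by simpa only [Category.assoc] using hc')
      let n := (Over.homMk U.ι rfl : Over.mk (U.ι ≫ T'.hom) ⟶ T') ≫ y ≫ i
      have hn : n ≫ f = 1 := by
        simp only [n, Category.assoc, hN.w, MonObj.comp_one, MonObj.one_eq_one]
      obtain ⟨ν, ⟨hν, hνP⟩, -⟩ := Cartesian.existsUnique_kernelPt f M (Iso.refl (pM f M)) n hn
      obtain ⟨r₁, hr₁⟩ := ThetaMaps.exists_act hL hc₁ hd
      obtain ⟨r₂, hr₂⟩ := ThetaMaps.exists_act hL hc₂ hν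
      exact ThetaMaps.commute_act hr₁ hr₂ (lift_commute_kernelPt f M hdP hn hν hνP)
  · rintro ⟨hx, hperp⟩
    rw [ThetaPts.factors_iff_local hM hKM]
    intro t
    obtain ⟨U, htU, β, hβ⟩ := (ThetaPts.factors_iff_local hL hKL x).mp hx t
    refine ⟨U, htU, ?_⟩
    obtain ⟨c, hc', -⟩ := exists_descPt hM β hβ fun T' g n hn β' ν hβ' hν _ => by
      have hn' : n ≫ f = toUnit T' ≫ η[B] := by rw [hn, MonObj.one_eq_one, MonObj.comp_one]
      obtain ⟨y, hy, -⟩ : ∃ y : T' ⟶ N, y ≫ i = n ∧ True := ⟨hN.lift n (toUnit T') hn', hN.lift_fst _ _ _, trivial⟩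
      obtain ⟨x', hx'⟩ := β'.2
      have e := Cartesian.overPt_baseChange hβ' hβ hx'
      refine hperp T' (g ≫ Over.homMk U.ι rfl) y β' ν ?_ (by rw [hy]; exact hν)
      rw [Category.assoc, ← e]
      exact hx'
    exact ⟨c, by simpa only [Category.assoc] using hc'⟩

end Field

end Groth.Agent.Lib.H3.ThetaDesc
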