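import Groth.Agent.Lib.H3.ThetaDesc
import Groth.Agent.Lib.QCohDesc.ModPF
import Groth.Agent.Lib.DescAlg.LocFreeDescent
import Groth.Agent.Lib.TensorMod.TensorInv
import Groth.Agent.Lib.H3.ThetaRep

/-!
# Descending invertible modules along a split kernel in the theta group
-/

set_option autoImplicit false
set_option linter.style.haveILetI false

universe u

open CategoryTheory MonoidalCategory CartesianMonoidalCategory MonObj AlgebraicGeometry Opposite
open Pseudofunctor Bicategory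

noncomputable section

namespace Groth.Agent.Lib.H3.ThetaEff

open Groth.Agent.H3 Groth.Agent.Lib Groth.Agent.Lib.H3.FrameRep

theorem id_coh {W X : Scheme.{u}} (c : W ⟶ X) (L : X.Modules) :
    (Scheme.Modules.pullbackId W).inv.app ((Scheme.Modules.pullback c).obj L) ≫
      (Scheme.Modules.pullbackComp (𝟙 W) c).hom.app L ≫
      (Scheme.Modules.pullbackCongr (Category.id_comp c)).hom.app L = 𝟙 _ := by
  have h : mkH (𝟙 W) ((Scheme.Modules.pullbackId W).inv.app ((Scheme.Modules.pullback c).obj L)) ≫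
      mkH (M := (Scheme.Modules.pullback c).obj L) c (𝟙 _) = mkH c (𝟙 _) := Category.id_comp _
  rw [mk_comp, mk_congr (Category.id_comp c)] at h
  simpa using mk_inj h

/-- A morphism of modules as a morphism of pairs over the identity. -/
abbrev vert {W : Scheme.{u}} {P Q : W.Modules} (φ : P ⟶ Q) : pr P ⟶ pr Q :=
  mkH (𝟙 W) (φ ≫ (Scheme.Modules.pullbackId W).inv.app Q)

theorem vert_comp {W X : Scheme.{u}} {P Q : W.Modules} (φ : P ⟶ Q) {c : W ⟶ X} {L : X.Modules}
    (ψ : Q ⟶ (Scheme.Modules.pullback c).obj L) : vert φ ≫ mkH c ψ = mkH c (φ ≫ ψ) := by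
  have hn : (Scheme.Modules.pullbackId W).inv.app Q ≫ (Scheme.Modules.pullback (𝟙 W)).map ψ =
      ψ ≫ (Scheme.Modules.pullbackId W).inv.app _ :=
    ((Scheme.Modules.pullbackId W).inv.naturality ψ).symm
  rw [mk_comp, mk_congr (Category.id_comp c)]
  congr 1
  simp only [Category.assoc]
  rw [← Category.assoc ((Scheme.Modules.pullbackId W).inv.app Q), hn, Category.assoc, id_coh]
  erw [Category.comp_id]

theorem mkH_tr {W' W X : Scheme.{u}} (g : W' ⟶ W) {a : W ⟶ X} {a' : W' ⟶ X} (h : g ≫ a = a')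
    {L : X.Modules} {P : W.Modules} (φ : P ⟶ (Scheme.Modules.pullback a).obj L)
    {P' : W'.Modules} (θ : P' ⟶ (Scheme.Modules.pullback g).obj P) :
    mkH g θ ≫ mkH a φ =
      mkH a' (θ ≫ (Scheme.Modules.pullback g).map φ ≫ (DescAlg.PbSec.tr g h L).hom) := by
  rw [mk_comp, mk_congr h]
  simp [DescAlg.PbSec.tr]

variable {k : Type u} [Field k] {A B : Over (Spec (CommRingCat.of k))} [GrpObj A] [GrpObj B]
  [IsCommMonObj A] (f : A ⟶ B) [IsMonHom f] {N : Over (Spec (CommRingCat.of k))} [GrpObj N]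
  {i : N ⟶ A} [IsMonHom i] (hN : AlgGrp.IsKernel i f) {L : A.left.Modules}

/-- A compatible family of lifts of the kernel to the theta group. -/
structure Splitting (i : N ⟶ A) (L : A.left.Modules) where
  /-- the lift -/
  pt : ∀ {T : Over (Spec (CommRingCat.of k))}, (T ⟶ N) → ThetaGrp.thetaPts A L T
  over_pt : ∀ {T : Over (Spec (CommRingCat.of k))} (n : T ⟶ N), ThetaGrp.IsOverPt (pt n) (n ≫ i)
  pt_one : ∀ (T : Over (Spec (CommRingCat.of k))), pt (1 : T ⟶ N) = 1
  pt_mul : ∀ {T : Over (Spec (CommRingCat.of k))} (n m : T ⟶ N), pt (n * m) = pt n * pt m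
  pt_comp : ∀ {T T' : Over (Spec (CommRingCat.of k))} (g : T' ⟶ T) (n : T ⟶ N),
    ThetaGrp.IsBaseChange (pt (g ≫ n)) g (pt n)

section Act

variable (s : Splitting i L)

theorem exists_lift {T : Over (Spec (CommRingCat.of k))} {P : T.left.Modules} (h : pr P ⟶ pr L)
    (a : T ⟶ A) (ha : h.base = a.left) :
    ∃ l : pr P ⟶ ThetaGrp.thetaObj A L T, l.base = (lift a (𝟙 T)).left ∧
      l ≫ Cartesian.toBase L T = h := by
  obtain ⟨l, ⟨hb, hl⟩, -⟩ := Cartesian.exists_unique_lift (Cartesian.toBase L T)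
    (ThetaRep.isIso_toBase_fiber T) (a := pr P) (lift a (𝟙 T)).left h (by
      show h.base = (lift a (𝟙 T)).left ≫ (fst A T).left
      rw [← Over.comp_left, lift_fst, ha])
  exact ⟨l, hb, hl⟩

/-- The lift of a morphism to `(A, L)`. -/
def liftH {T : Over (Spec (CommRingCat.of k))} {P : T.left.Modules} (h : pr P ⟶ pr L)
    (a : T ⟶ A) (ha : h.base = a.left) : pr P ⟶ ThetaGrp.thetaObj A L T :=
  (exists_lift h a ha).choose

theorem liftH_base {T : Over (Spec (CommRingCat.of k))} {P : T.left.Modules} (h : pr P ⟶ pr L)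
    (a : T ⟶ A) (ha : h.base = a.left) : (liftH h a ha).base = (lift a (𝟙 T)).left :=
  (exists_lift h a ha).choose_spec.1

theorem liftH_toBase {T : Over (Spec (CommRingCat.of k))} {P : T.left.Modules} (h : pr P ⟶ pr L)
    (a : T ⟶ A) (ha : h.base = a.left) : liftH h a ha ≫ Cartesian.toBase L T = h :=
  (exists_lift h a ha).choose_spec.2

theorem liftH_unique {T : Over (Spec (CommRingCat.of k))} {P : T.left.Modules} {h : pr P ⟶ pr L}
    {a : T ⟶ A} {ha : h.base = a.left} {l : pr P ⟶ ThetaGrp.thetaObj A L T}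
    (hb : l.base = (lift a (𝟙 T)).left) (hl : l ≫ Cartesian.toBase L T = h) : l = liftH h a ha :=
  Cartesian.eq_of_comp_eq _ (ThetaRep.isIso_toBase_fiber T) (hb.trans (liftH_base h a ha).symm)
    (hl.trans (liftH_toBase h a ha).symm)

/-- The action of the kernel. -/
def act {T : Over (Spec (CommRingCat.of k))} {P : T.left.Modules} (h : pr P ⟶ pr L)
    (a : T ⟶ A) (ha : h.base = a.left) (n : T ⟶ N) : pr P ⟶ pr L :=
  liftH h a ha ≫ (s.pt n).1.hom ≫ Cartesian.toBase L T

theorem lift_transl {T : Over (Spec (CommRingCat.of k))} (a x : T ⟶ A) :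
    lift a (𝟙 T) ≫ ThetaGrp.transl A x = lift (a * x) (𝟙 T) := by
  apply CartesianMonoidalCategory.hom_ext
  · rw [Category.assoc, ThetaGrp.transl_fst, MonObj.comp_mul, lift_fst, lift_snd_assoc, lift_fst,
      Category.id_comp]
  · rw [Category.assoc, ThetaGrp.transl_snd, lift_snd, lift_snd]

theorem act_base {T : Over (Spec (CommRingCat.of k))} {P : T.left.Modules} (h : pr P ⟶ pr L)
    (a : T ⟶ A) (ha : h.base = a.left) (n : T ⟶ N) :
    (act s h a ha n).base = (a * (n ≫ i)).left := by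
  show (liftH h a ha ≫ (s.pt n).1.hom ≫ Cartesian.toBase L T).base = _
  rw [CoGrothendieck.categoryStruct_comp_base, CoGrothendieck.categoryStruct_comp_base, liftH_base,
    s.over_pt n]
  show _ ≫ _ ≫ (fst A T).left = _
  rw [← Over.comp_left, ← Over.comp_left, ← Category.assoc, lift_transl, lift_fst]

theorem act_one {T : Over (Spec (CommRingCat.of k))} {P : T.left.Modules} (h : pr P ⟶ pr L)
    (a : T ⟶ A) (ha : h.base = a.left) : act s h a ha 1 = h := by
  rw [act, s.pt_one]
  show liftH h a ha ≫ 𝟙 _ ≫ _ = h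
  rw [Category.id_comp, liftH_toBase]

theorem act_act {T : Over (Spec (CommRingCat.of k))} {P : T.left.Modules} (h : pr P ⟶ pr L)
    (a : T ⟶ A) (ha : h.base = a.left) (n m : T ⟶ N) :
    act s (act s h a ha n) (a * (n ≫ i)) (act_base s h a ha n) m = act s h a ha (m * n) := by
  have e : liftH h a ha ≫ (s.pt n).1.hom =
      liftH (act s h a ha n) (a * (n ≫ i)) (act_base s h a ha n) := by
    refine liftH_unique ?_ (Category.assoc _ _ _)
    rw [CoGrothendieck.categoryStruct_comp_base, liftH_base, s.over_pt n]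
    show (lift a (𝟙 T)).left ≫ (ThetaGrp.transl A (n ≫ i)).left = _
    rw [← Over.comp_left, lift_transl]
  show _ = liftH h a ha ≫ (s.pt (m * n)).1.hom ≫ _
  rw [act, ← e, s.pt_mul]
  show _ = liftH h a ha ≫ ((s.pt n).1.hom ≫ (s.pt m).1.hom) ≫ _
  simp only [Category.assoc]

theorem act_congr {T : Over (Spec (CommRingCat.of k))} {P : T.left.Modules} {h h' : pr P ⟶ pr L}
    (e : h = h') {a a' : T ⟶ A} {ha : h.base = a.left} {ha' : h'.base = a'.left} {n n' : T ⟶ N}
    (hn : n = n') : act s h a ha n = act s h' a' ha' n' := by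
  subst e hn
  obtain rfl : a = a' := Over.OverMorphism.ext (ha.symm.trans ha')
  rfl

theorem act_natural {T T' : Over (Spec (CommRingCat.of k))} {P : T.left.Modules}
    {P' : T'.left.Modules} (g : T' ⟶ T) (κ : pr P' ⟶ pr P) (hκ : κ.base = g.left)
    (h : pr P ⟶ pr L) (a : T ⟶ A) (ha : h.base = a.left)
    (hga : (κ ≫ h).base = (g ≫ a).left) (n : T ⟶ N) :
    κ ≫ act s h a ha n = act s (κ ≫ h) (g ≫ a) hga (g ≫ n) := by
  have e : liftH (κ ≫ h) (g ≫ a) hga ≫ ThetaGrp.bcLift A L g = κ ≫ liftH h a ha := by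
    refine Cartesian.eq_of_comp_eq _ (ThetaRep.isIso_toBase_fiber T) ?_ ?_
    · rw [CoGrothendieck.categoryStruct_comp_base, CoGrothendieck.categoryStruct_comp_base,
        liftH_base, liftH_base, hκ, ThetaRep.bcLift_base, ← Over.comp_left, ← Over.comp_left]
      congr 1
      apply CartesianMonoidalCategory.hom_ext <;> simp
    · rw [Category.assoc, Cartesian.bcLift_toBase, liftH_toBase, Category.assoc, liftH_toBase]
  show κ ≫ liftH h a ha ≫ _ ≫ _ = liftH (κ ≫ h) (g ≫ a) hga ≫ (s.pt (g ≫ n)).1.hom ≫ _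
  rw [← Cartesian.bcLift_toBase L g, ← Category.assoc (s.pt (g ≫ n)).1.hom,
    show (s.pt (g ≫ n)).1.hom ≫ ThetaGrp.bcLift A L g = _ from s.pt_comp g n, Category.assoc,
    ← Category.assoc (liftH (κ ≫ h) (g ≫ a) hga), e, Category.assoc]

end Act

section Datum

variable (s : Splitting i L)

/-- An object over the base through `q`. -/
abbrev obj (f : A ⟶ B) {W : Scheme.{u}} (q : W ⟶ B.left) : Over (Spec (CommRingCat.of k)) :=
  Over.mk (q ≫ B.hom)

/-- A lift of `q`, as a morphism over the base. -/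
abbrev toA {W : Scheme.{u}} (q : W ⟶ B.left) (a : W ⟶ A.left) (ha : a ≫ f.left = q) : obj f q ⟶ A :=
  Over.homMk a (by
    show a ≫ A.hom = q ≫ B.hom
    rw [← ha, Category.assoc, Over.w f])

theorem kbase {W : Scheme.{u}} (q : W ⟶ B.left) (a : W ⟶ A.left) (ha : a ≫ f.left = q) :
    (mkH (M := (Scheme.Modules.pullback a).obj L) a (𝟙 _)).base = (toA f q a ha).left := rfl

include hN in
theorem exists_diff {W : Scheme.{u}} (q : W ⟶ B.left) (a b : W ⟶ A.left) (ha : a ≫ f.left = q)
    (hb : b ≫ f.left = q) : ∃ n : obj f q ⟶ N, n ≫ i = (toA f q a ha)⁻¹ * toA f q b hb := by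
  have h : ((toA f q a ha)⁻¹ * toA f q b hb) ≫ f = toUnit (obj f q) ≫ η[B] := by
    rw [MonObj.mul_comp, GrpObj.inv_comp,
      show toA f q b hb ≫ f = toA f q a ha ≫ f from Over.OverMorphism.ext (hb.trans ha.symm),
      inv_mul_cancel, Hom.one_def]
  exact ⟨hN.lift _ _ h, hN.lift_fst _ _ _⟩

/-- The point of the kernel moving `a` to `b`. -/
def diff {W : Scheme.{u}} (q : W ⟶ B.left) (a b : W ⟶ A.left) (ha : a ≫ f.left = q)
    (hb : b ≫ f.left = q) : obj f q ⟶ N := (exists_diff f hN q a b ha hb).choose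

theorem diff_spec {W : Scheme.{u}} (q : W ⟶ B.left) (a b : W ⟶ A.left) (ha : a ≫ f.left = q)
    (hb : b ≫ f.left = q) :
    diff f hN q a b ha hb ≫ i = (toA f q a ha)⁻¹ * toA f q b hb :=
  (exists_diff f hN q a b ha hb).choose_spec

include hN in
theorem eq_of_comp_i {T : Over (Spec (CommRingCat.of k))} {n m : T ⟶ N} (h : n ≫ i = m ≫ i) : n = m :=
  hN.hom_ext h (toUnit_unique _ _)

theorem exists_hom {W : Scheme.{u}} (q : W ⟶ B.left) (a b : W ⟶ A.left) (ha : a ≫ f.left = q)
    (hb : b ≫ f.left = q) :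
    ∃ φ : (Scheme.Modules.pullback a).obj L ⟶ (Scheme.Modules.pullback b).obj L,
      act s (T := obj f q) (mkH (M := (Scheme.Modules.pullback a).obj L) a (𝟙 _)) (toA f q a ha) (kbase f q a ha)
        (diff f hN q a b ha hb) = mkH b φ := by
  refine exists_mk (M := (Scheme.Modules.pullback a).obj L) _ ((act_base s _ _ _ _).trans ?_)
  rw [diff_spec, mul_inv_cancel_left]
  rfl

/-- The transition morphisms. -/
def hom {W : Scheme.{u}} (q : W ⟶ B.left) (a b : W ⟶ A.left) (ha : a ≫ f.left = q)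
    (hb : b ≫ f.left = q) :
    (Scheme.Modules.pullback a).obj L ⟶ (Scheme.Modules.pullback b).obj L :=
  (exists_hom f hN s q a b ha hb).choose

theorem hom_spec {W : Scheme.{u}} (q : W ⟶ B.left) (a b : W ⟶ A.left) (ha : a ≫ f.left = q)
    (hb : b ≫ f.left = q) :
    act s (T := obj f q) (mkH (M := (Scheme.Modules.pullback a).obj L) a (𝟙 _)) (toA f q a ha) (kbase f q a ha)
      (diff f hN q a b ha hb) = mkH b (hom f hN s q a b ha hb) :=
  (exists_hom f hN s q a b ha hb).choose_spec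

theorem hom_self {W : Scheme.{u}} (q : W ⟶ B.left) (a : W ⟶ A.left) (ha : a ≫ f.left = q) :
    hom f hN s q a a ha ha = 𝟙 _ := by
  refine mk_inj ((hom_spec f hN s q a a ha ha).symm.trans ?_)
  refine (act_congr s rfl ?_).trans (act_one s _ _ (kbase f q a ha))
  exact eq_of_comp_i f hN (by rw [diff_spec, inv_mul_cancel, MonObj.one_comp])

theorem hom_comp {W : Scheme.{u}} (q : W ⟶ B.left) (a b c : W ⟶ A.left) (ha : a ≫ f.left = q)
    (hb : b ≫ f.left = q) (hc : c ≫ f.left = q) :
    hom f hN s q a b ha hb ≫ hom f hN s q b c hb hc = hom f hN s q a c ha hc := by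
  refine mk_inj ?_
  rw [← hom_spec f hN s q a c ha hc, ← vert_comp, ← hom_spec f hN s q b c hb hc]
  refine (act_natural s (T' := obj f q) (T := obj f q) (𝟙 (obj f q)) (vert (hom f hN s q a b ha hb)) rfl
    (mkH (M := (Scheme.Modules.pullback b).obj L) b (𝟙 _)) (toA f q b hb) (kbase f q b hb)
    (by rw [vert_comp, Category.id_comp]; rfl) (diff f hN q b c hb hc)).trans ?_
  have e : vert (hom f hN s q a b ha hb) ≫ mkH (M := (Scheme.Modules.pullback b).obj L) b (𝟙 _) =
      act s (T := obj f q) (mkH (M := (Scheme.Modules.pullback a).obj L) a (𝟙 _)) (toA f q a ha) (kbase f q a ha)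
        (diff f hN q a b ha hb) := by
    rw [vert_comp, Category.comp_id, hom_spec]
  refine (act_congr s e (Category.id_comp _)).trans
    ((act_act s _ _ (kbase f q a ha) (diff f hN q a b ha hb) (diff f hN q b c hb hc)).trans (act_congr s rfl ?_))
  refine eq_of_comp_i f hN ?_
  rw [MonObj.mul_comp, diff_spec, diff_spec, diff_spec, _root_.mul_comm, ← _root_.mul_assoc,
    mul_inv_cancel_right]

theorem hom_pullHom {W' W : Scheme.{u}} (g : W' ⟶ W) (q : W ⟶ B.left) (q' : W' ⟶ B.left)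
    (hq : g ≫ q = q') (a b : W ⟶ A.left) (ha : a ≫ f.left = q) (hb : b ≫ f.left = q)
    (a' b' : W' ⟶ A.left) (hga : g ≫ a = a') (hgb : g ≫ b = b')
    (ha' : a' ≫ f.left = q') (hb' : b' ≫ f.left = q') :
    (DescAlg.PbSec.tr g hga L).inv ≫ (Scheme.Modules.pullback g).map (hom f hN s q a b ha hb) ≫
      (DescAlg.PbSec.tr g hgb L).hom = hom f hN s q' a' b' ha' hb' := by
  let κ : pr ((Scheme.Modules.pullback a').obj L) ⟶ pr ((Scheme.Modules.pullback a).obj L) :=
    mkH g (DescAlg.PbSec.tr g hga L).inv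
  let gT : obj f q' ⟶ obj f q := Over.homMk g (by
    show g ≫ q ≫ B.hom = q' ≫ B.hom
    rw [← Category.assoc, hq])
  refine mk_inj ?_
  rw [← hom_spec f hN s q' a' b' ha' hb', ← mkH_tr g hgb (hom f hN s q a b ha hb),
    ← hom_spec f hN s q a b ha hb]
  have e : κ ≫ mkH (M := (Scheme.Modules.pullback a).obj L) a (𝟙 _) =
      mkH (M := (Scheme.Modules.pullback a').obj L) a' (𝟙 _) := by
    rw [mkH_tr g hga]
    simp
  refine (act_natural s (T' := obj f q') (T := obj f q) gT κ rfl
    (mkH (M := (Scheme.Modules.pullback a).obj L) a (𝟙 _)) (toA f q a ha) (kbase f q a ha) rfl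
    (diff f hN q a b ha hb)).trans ?_
  refine act_congr s e (eq_of_comp_i f hN ?_)
  rw [Category.assoc, diff_spec, diff_spec, MonObj.comp_mul, GrpObj.comp_inv,
    show gT ≫ toA f q a ha = toA f q' a' ha' from Over.OverMorphism.ext hga,
    show gT ≫ toA f q b hb = toA f q' b' hb' from Over.OverMorphism.ext hgb]

/-- The descent datum. -/
def datum : Desc.modPF.{u}.DescentData (fun _ : PUnit.{u + 1} => f.left) where
  obj _ := L
  hom {W} q {_ _} a b ha hb := hom f hN s q a b ha hb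
  pullHom_hom := fun {W' W} g q q' hq {_ _} a b ha hb a' b' hga hgb => by
    refine Eq.trans ?_ (hom_pullHom f hN s g q q' hq a b ha hb a' b' hga hgb _ _)
    rw [← DescAlg.PbSec.modPF_mapComp'_inv_app g b b' hgb L,
      ← DescAlg.PbSec.modPF_mapComp'_hom_app g a a' hga L]
    rfl
  hom_self {W} q {_} a ha := hom_self f hN s q a ha
  hom_comp {W} q {_ _ _} a b c ha hb hc := hom_comp f hN s q a b c ha hb hc

variable [IsProper A.hom] [IsProper B.hom] [GeometricallyIntegral B.hom] [Surjective f.left]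

include hN s in
/-- A module whose theta group splits over the kernel descends. -/
theorem exists_descent (hL : PicF.IsInvertible L) :
    ∃ M : B.left.Modules, PicF.IsInvertible M ∧
      Nonempty ((Scheme.Modules.pullback f.left).obj M ≅ L) := by
  haveI : GeometricallyReduced B.hom := inferInstance
  haveI : Flat f.left := Groth.Agent.H2.FlatHom.Field.flat_of_geometricallyReduced f
  haveI : IsProper (f.left ≫ B.hom) := by rw [Over.w]; infer_instance
  haveI : IsProper f.left := IsProper.of_comp f.left B.hom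
  have hcov : Presieve.ofArrows (fun _ : PUnit.{u + 1} => A.left) (fun _ => f.left) ∈
      Scheme.fpqcPrecoverage B.left := by
    rw [Presieve.ofArrows_pUnit]
    exact Scheme.Hom.singleton_mem_fpqcPrecoverage f.left
  haveI hLq : L.IsQuasicoherent := TensorMod.QCohInv.isQCoh_of_isInvertible hL
  obtain ⟨M, hM, ⟨e⟩⟩ := QCohDesc.exists_iso hcov (datum f hN s) (fun _ => hLq)
  let e' : (Scheme.Modules.pullback f.left).obj M ≅ L :=
    { hom := e.hom.hom PUnit.unit
      inv := e.inv.hom PUnit.unit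
      hom_inv_id := congrArg (fun t => t.hom PUnit.unit) e.hom_inv_id
      inv_hom_id := congrArg (fun t => t.hom PUnit.unit) e.inv_hom_id }
  refine ⟨M, ?_, ⟨e'⟩⟩
  haveI := hM
  have h1 : FlatMod.IsFinLocFreeOfRank 1 ((Scheme.Modules.pullback f.left).obj M) :=
    TensorMod.LocFree.rank_of_iso e'.symm (TensorMod.LocFree.of_isInvertible hL)
  have h2 : FlatMod.IsFinLocFree M :=
    DescAlg.LocFreeDescent.isFinLocFree_of_pullback f.left M (TensorMod.LocFree.of_rank h1)
  refine TensorMod.LocFree.isInvertible_of_rank_one fun x => ?_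
  obtain ⟨U, n, hxU, ⟨j⟩⟩ := h2 x
  obtain ⟨z, hz⟩ := f.left.surjective x
  obtain ⟨j'⟩ := TensorMod.LocFree.pullback_iso_of_restrict_iso f.left j
  obtain ⟨V, hzV, ⟨l⟩⟩ := h1 z
  have hzU : z ∈ f.left ⁻¹ᵁ U := by
    show f.left z ∈ U
    rw [hz]; exact hxU
  obtain ⟨j''⟩ := TensorMod.LocFree.exists_restrict_iso_freeMod
    (inf_le_left : f.left ⁻¹ᵁ U ⊓ V ≤ f.left ⁻¹ᵁ U) j'
  obtain ⟨l'⟩ := TensorMod.LocFree.exists_restrict_iso_freeMod
    (inf_le_right : f.left ⁻¹ᵁ U ⊓ V ≤ V) l
  obtain rfl : n = 1 := TensorMod.TensorInv.freeMod_rank_eq (⟨z, hzU, hzV⟩ : ↥(f.left ⁻¹ᵁ U ⊓ V))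
    (j''.symm ≪≫ l')
  exact ⟨U, hxU, ⟨j⟩⟩

end Datum

end Groth.Agent.Lib.H3.ThetaEff
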