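import Groth.Agent.Lib.H3.ThetaRep

/-!
# The theta group is of finite type
-/

set_option autoImplicit false
set_option linter.style.haveILetI false
set_option linter.unusedSectionVars false

universe u

open CategoryTheory MonoidalCategory CartesianMonoidalCategory MonObj AlgebraicGeometry Opposite
open Pseudofunctor Bicategory

noncomputable section

namespace Groth.Agent.Lib.H3.ThetaFT

open Groth.Agent.H3 Groth.Agent.Lib.H3.FrameRep

theorem gm_finiteType : (Limits.terminal.from (Spec GmRing.{u})) |> fun f =>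
    LocallyOfFiniteType f ∧ QuasiCompact f := by
  let ψ : CommRingCat.of (ULift.{u} ℤ) ⟶ GmRing.{u} :=
    CommRingCat.ofHom (algebraMap (ULift.{u} ℤ) (Localization.Away (Polynomial.X : Polynomial (ULift.{u} ℤ))))
  let e : Spec (CommRingCat.of (ULift.{u} ℤ)) ≅ ⊤_ Scheme.{u} :=
    specULiftZIsTerminal.uniqueUpToIso Limits.terminalIsTerminal
  rw [show Limits.terminal.from (Spec GmRing.{u}) = Spec.map ψ ≫ e.hom from
    Limits.terminal.hom_ext _ _]
  haveI : Algebra.FiniteType (ULift.{u} ℤ) (Localization.Away (Polynomial.X : Polynomial (ULift.{u} ℤ))) := by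
    haveI : Algebra.FiniteType (Polynomial (ULift.{u} ℤ))
        (Localization.Away (Polynomial.X : Polynomial (ULift.{u} ℤ))) :=
      IsLocalization.finiteType_of_monoid_fg (Submonoid.powers (Polynomial.X : Polynomial (ULift.{u} ℤ))) _
    exact Algebra.FiniteType.trans (S := Polynomial (ULift.{u} ℤ)) inferInstance inferInstance
  haveI : LocallyOfFiniteType (Spec.map ψ) :=
    (HasRingHomProperty.Spec_iff (P := @LocallyOfFiniteType)).2
      (RingHom.finiteType_algebraMap.2 inferInstance)
  exact ⟨inferInstance, inferInstance⟩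

theorem chart_fst {X : Scheme.{u}} {N : X.Modules} (c : Idx N) :
    LocallyOfFiniteType (Limits.prod.fst : chart c ⟶ (c.U : Scheme.{u})) ∧
      QuasiCompact (Limits.prod.fst : chart c ⟶ (c.U : Scheme.{u})) := by
  have H := IsPullback.of_hasBinaryProduct' (c.U : Scheme.{u}) (Spec GmRing.{u})
  exact ⟨MorphismProperty.of_isPullback H.flip gm_finiteType.1,
    MorphismProperty.of_isPullback H.flip gm_finiteType.2⟩

set_option backward.isDefEq.respectTransparency false in
theorem frames_finiteType {X : Scheme.{u}} {N : X.Modules} (hN : PicF.IsInvertible N) {P : Scheme.{u}}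
    (h₀ : FObj N P) (hP : ∀ (T : Scheme.{u}) (h : FObj N T), ∃! g : T ⟶ P, mapF g h₀ = h) :
    LocallyOfFiniteType h₀.1.base ∧ QuasiCompact h₀.1.base := by
  choose c hc using fun x : X => exists_idx hN x
  have hcov : ⨆ x, (c x).U = ⊤ :=
    eq_top_iff.mpr fun x _ => TopologicalSpace.Opens.mem_iSup.mpr ⟨x, hc x⟩
  have key : ∀ x, ∃ e : (h₀.1.base ⁻¹ᵁ (c x).U : Scheme.{u}) ≅ chart (c x),
      e.hom ≫ Limits.prod.fst = h₀.1.base ∣_ (c x).U := by
    intro x
    let O := h₀.1.base ⁻¹ᵁ (c x).U
    obtain ⟨a, ha1, ha⟩ := exists_lift (c x) (mapF O.ι h₀) (h₀.1.base ∣_ (c x).U)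
      (morphismRestrict_ι _ _)
    obtain ⟨b, hb, -⟩ := hP (chart (c x)) (chartElt (c x))
    have hbb : b ≫ h₀.1.base = Limits.prod.fst ≫ (c x).U.ι := by
      have := congrArg (fun z => z.1.base) hb
      have h2 := base_chartElt (c x) (𝟙 (chart (c x)))
      rw [mapF_id] at h2
      exact this.trans (h2.trans (by rw [Category.id_comp]))
    have hrange : Set.range b ⊆ Set.range O.ι := by
      rw [Scheme.Opens.range_ι]
      rintro _ ⟨z, rfl⟩
      show h₀.1.base (b z) ∈ (c x).U
      rw [← Scheme.Hom.comp_apply, hbb, Scheme.Hom.comp_apply]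
      exact ((Limits.prod.fst : chart (c x) ⟶ _) z).2
    let b' := IsOpenImmersion.lift O.ι b hrange
    have hb' : b' ≫ O.ι = b := IsOpenImmersion.lift_fac _ _ _
    have hab : a ≫ b' = 𝟙 _ := by
      rw [← cancel_mono O.ι, Category.assoc, hb', Category.id_comp]
      refine (hP _ (mapF O.ι h₀)).unique ?_ rfl
      rw [mapF_comp, hb, ha]
    have hba : b' ≫ a = 𝟙 _ := by
      have hfst : (b' ≫ a) ≫ Limits.prod.fst = Limits.prod.fst := by
        rw [← cancel_mono (c x).U.ι, Category.assoc b', ha1, Category.assoc, morphismRestrict_ι,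
          ← Category.assoc, hb', hbb]
      refine Limits.prod.hom_ext (hfst.trans (Category.id_comp _).symm) ?_
      have hu : unitVal ((b' ≫ a) ≫ Limits.prod.snd) =
          unitVal (𝟙 (chart (c x)) ≫ Limits.prod.snd) := by
        refine Scalars.act_injective (invertible_ob _)
          (h := (mapF (𝟙 (chart (c x)) ≫ Limits.prod.fst) (c x).h).1) (mapF _ _).2 ?_
        conv_lhs => rw [Category.id_comp, ← hfst]
        rw [← mapF_chartElt, ← mapF_chartElt, mapF_comp, ha, ← mapF_comp, hb', hb, mapF_id]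
      exact (existsUnique_pt (isUnit_unitVal _)).unique hu rfl
    exact ⟨⟨a, b', hab, hba⟩, ha1⟩
  choose e he using key
  constructor
  · refine IsZariskiLocalAtTarget.of_iSup_eq_top (P := (@LocallyOfFiniteType : MorphismProperty Scheme.{u})) _ hcov fun x => ?_
    haveI := (chart_fst (c x)).1
    rw [← he x]
    infer_instance
  · refine IsZariskiLocalAtTarget.of_iSup_eq_top (P := (@QuasiCompact : MorphismProperty Scheme.{u})) _ hcov fun x => ?_
    haveI := (chart_fst (c x)).2
    rw [← he x]
    infer_instance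

section Field

open ThetaRep

variable {k : Type u} [Field k] {A : Over (Spec (CommRingCat.of k))} [GrpObj A]
  [IsProper A.hom] [GeometricallyIntegral A.hom] {L : A.left.Modules} (hL : PicF.IsInvertible L)
  {G : Over (Spec (CommRingCat.of k))} [GrpObj G] {u : ThetaGrp.thetaPts A L G}

include hL in
/-- The theta group is of finite type. -/
theorem finiteType (hG : ThetaGrp.IsThetaGrpSch A L G u) :
    LocallyOfFiniteType G.hom ∧ QuasiCompact G.hom := by
  letI : ∀ Y : Scheme.{u}, PicGrp.Law Y := Groth.Agent.Lib.TensorMod.Invertible.law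
  obtain ⟨K, i, hK⟩ := KLExists.exists_isKL k A L hL
  haveI : IsClosedImmersion i.left := hK.closed
  obtain ⟨P, h₀, hP⟩ := exists_frames hL
  obtain ⟨hft, hqc⟩ := frames_finiteType hL h₀ hP
  let G₀ : Over (Spec (CommRingCat.of k)) :=
    Over.mk (Limits.pullback.snd h₀.1.base i.left ≫ K.hom)
  let πK : G₀ ⟶ K := Over.homMk (Limits.pullback.snd h₀.1.base i.left) rfl
  let fG : FObj L G₀.left := mapF (Limits.pullback.fst h₀.1.base i.left) h₀
  have hfG : fG.1.base = (πK ≫ i).left := Limits.pullback.condition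
  obtain ⟨u₀, hu₀⟩ := exists_pt hL hK ⟨πK, rfl⟩ fG hfG
  obtain ⟨x, hx⟩ := u.2
  obtain ⟨y, hy⟩ := factors hL hK hx
  obtain ⟨g₁, hg₁, -⟩ := hP G.left (res hL u)
  have hb : g₁ ≫ h₀.1.base = y.left ≫ i.left := by
    rw [← Over.comp_left, hy, ← res_base hL hx, ← hg₁]
    rfl
  let a : G ⟶ G₀ := Over.homMk (Limits.pullback.lift g₁ y.left hb) (by
    show Limits.pullback.lift g₁ y.left hb ≫ Limits.pullback.snd h₀.1.base i.left ≫ K.hom = G.hom
    rw [Limits.pullback.lift_snd_assoc, Over.w y])
  obtain ⟨b, hb', -⟩ := hG.univ G₀ u₀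
  have hbfG : mapF b.left (res hL u) = fG := by rw [← hu₀, res_natural hL hb']
  have hafG : mapF a.left fG = res hL u := by
    show mapF (Limits.pullback.lift g₁ y.left hb) (mapF _ h₀) = _
    rw [← mapF_comp]
    exact (congrArg (fun z => mapF z h₀) (Limits.pullback.lift_fst _ _ _)).trans hg₁
  have hab : a ≫ b = 𝟙 G := by
    refine (hG.univ G u).unique ?_ ?_
    · have e : bc (a ≫ b) u = u := res_injective hL (by
        rw [res_natural hL (bc_spec (a ≫ b) u), Over.comp_left, mapF_comp, hbfG, hafG])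
      have := bc_spec (a ≫ b) u
      rwa [e] at this
    · show u.1.hom ≫ ThetaGrp.bcLift A L (𝟙 G) = _
      rw [ThetaRep.bcLift_id, Category.comp_id, Category.id_comp]
  have hba : b ≫ a = 𝟙 G₀ := by
    refine Over.OverMorphism.ext ?_
    have h1 : mapF (b ≫ a).left fG = fG := by rw [Over.comp_left, mapF_comp, hafG, hbfG]
    have hfst : (b ≫ a).left ≫ Limits.pullback.fst h₀.1.base i.left =
        Limits.pullback.fst h₀.1.base i.left :=
      (hP _ fG).unique ((mapF_comp _ _ h₀).trans h1) rfl
    show (b ≫ a).left = 𝟙 _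
    refine Limits.pullback.hom_ext (hfst.trans (Category.id_comp _).symm) ?_
    rw [← cancel_mono i.left, Category.assoc, ← Limits.pullback.condition, ← Category.assoc, hfst,
      Category.id_comp, Limits.pullback.condition]
  haveI : LocallyOfFiniteType K.hom := by rw [← Over.w i]; infer_instance
  haveI : QuasiCompact K.hom := by rw [← Over.w i]; infer_instance
  haveI : IsIso a.left := ((Over.forget _).mapIso ⟨a, b, hab, hba⟩).isIso_hom
  rw [← Over.w a]
  exact ⟨inferInstanceAs (LocallyOfFiniteType (a.left ≫ Limits.pullback.snd h₀.1.base i.left ≫ K.hom)),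
    inferInstanceAs (QuasiCompact (a.left ≫ Limits.pullback.snd h₀.1.base i.left ≫ K.hom))⟩

end Field

end Groth.Agent.Lib.H3.ThetaFT
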