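import Groth.Agent.Lib.Pinch.PairGlue
import Groth.Agent.Lib.Pinch.RingedPushoutOfGlued
import Groth.Agent.H3.Scalars
import Groth.Agent.H2.Rigid.PushFlat
import Groth.Agent.Lib.TensorMod.Invertible
import Groth.Agent.Lib.TensorMod.LocFree
import Mathlib.AlgebraicGeometry.Morphisms.ClosedImmersion

/-!
# Invertible modules on a union of two closed subschemes
-/

set_option autoImplicit false
set_option linter.style.haveILetI false

universe u

open CategoryTheory CategoryTheory.Limits AlgebraicGeometry Opposite TopologicalSpace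
open ZarCoh.FlatBC.PullbackSections

namespace Groth.Agent.Lib.H3.UnionPic

open Groth.Agent.Lib Groth.Agent.Lib.DescAlg.PbSec Groth.Agent.Lib.TensorMod.Dual
  Groth.Agent.Lib.Pinch Groth.Agent.Lib.Pinch.StalkFrame

/-- Over a field: a reduced connected geometric fibre with a point gives constant functions. -/
theorem surjective_field {k : Type u} [Field k] {P : Scheme.{u}} (f : P ⟶ Spec (CommRingCat.of k))
    [IsProper f] (s : Spec (CommRingCat.of k) ⟶ P) (hs : s ≫ f = 𝟙 _)
    (hfib : ∀ (L : Type u) [Field L] [IsAlgClosed L] (p : Spec (CommRingCat.of L) ⟶ Spec (CommRingCat.of k)),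
      IsReduced (pullback f p) ∧ ConnectedSpace ↥(pullback f p)) :
    Function.Surjective f.appTop.hom := by
  let L := AlgebraicClosure k
  let σ : Spec (CommRingCat.of L) ⟶ Spec (CommRingCat.of k) :=
    Spec.map (CommRingCat.ofHom (algebraMap k L))
  obtain ⟨hr, hc⟩ := hfib L σ
  haveI := hr
  haveI := hc
  exact H2.Rigid.surjective_of_baseChange f (IsPullback.of_hasPullback f σ)
    (H2.Rigid.appTop_surjective_of_section (pullback.snd f σ)
      (pullback.lift (σ ≫ s) (𝟙 _) (by rw [Category.assoc, hs, Category.id_comp, Category.comp_id]))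
      (pullback.lift_snd _ _ _))

/-- Proper morphisms with reduced connected geometric fibres and a section have constant functions on
the fibres. -/
theorem h0_of_geometric {W B : Scheme.{u}} (g : W ⟶ B) [IsProper g] (s : B ⟶ W) (hs : s ≫ g = 𝟙 B)
    (hfib : ∀ (K : Type u) [Field K] [IsAlgClosed K] (p : Spec (CommRingCat.of K) ⟶ B),
      IsReduced (pullback g p) ∧ ConnectedSpace ↥(pullback g p)) : H2.Rigid.H0 g := by
  intro t
  haveI : IsProper (pullback.snd g (B.fromSpecResidueField t)) := inferInstance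
  refine surjective_field (k := B.residueField t) (pullback.snd g (B.fromSpecResidueField t))
    (pullback.lift (B.fromSpecResidueField t ≫ s) (𝟙 _)
      (by rw [Category.assoc, hs, Category.id_comp, Category.comp_id]))
    (pullback.lift_snd _ _ _) fun L _ _ p => ?_
  let e : pullback (pullback.snd g (B.fromSpecResidueField t)) p ≅
      pullback g (p ≫ B.fromSpecResidueField t) :=
    pullbackLeftPullbackSndIso g (B.fromSpecResidueField t) p
  obtain ⟨hr, hc⟩ := hfib L (p ≫ B.fromSpecResidueField t)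
  haveI := hr
  haveI := hc
  exact ⟨isReduced_of_isOpenImmersion e.hom,
    e.inv.homeomorph.surjective.connectedSpace e.inv.continuous⟩

variable {X Y : Scheme.{u}}

/-- A multiple of a frame by a unit is a frame. -/
theorem isFrame_smul {M : X.Modules} {U : X.Opens} {e : Fin 1 → Γ(M, U)} (he : IsFrame M U e)
    (t : Γ(X, U)) (ht : ∀ x (hx : x ∈ U), IsUnit (X.presheaf.germ U x hx t)) :
    IsFrame M U fun i => t • e i := fun x hx => by
  obtain ⟨v, hv⟩ := ht x hx
  have key : (fun c : Fin 1 → X.presheaf.stalk x => ∑ i, c i • M.presheaf.germ U x hx (t • e i)) =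
      (fun c => ∑ i, c i • M.presheaf.germ U x hx (e i)) ∘ fun c i => c i * (v : X.presheaf.stalk x) := by
    funext c
    refine Finset.sum_congr rfl fun i _ => ?_
    rw [Modules.StalkModule.germ_smul, ← hv, smul_smul]
  show Function.Bijective _
  rw [key]
  exact (he x hx).comp ⟨fun c d h => funext fun i => (Units.mul_left_inj v).1 (congrFun h i),
    fun c => ⟨fun i => c i * ((v⁻¹ : (X.presheaf.stalk x)ˣ) : X.presheaf.stalk x),
      funext fun i => by
      show c i * _ * _ = c i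
      rw [mul_assoc, Units.inv_mul, mul_one]⟩⟩

/-- A rank one module has a frame on the preimage of some neighbourhood, along a closed immersion. -/
theorem exists_frame_nhd (g : Y ⟶ X) [IsClosedImmersion g] {M : Y.Modules}
    (hM : FlatMod.IsFinLocFreeOfRank 1 M) (p : X) :
    ∃ (O : X.Opens) (e : Fin 1 → Γ(M, g ⁻¹ᵁ O)), p ∈ O ∧ IsFrame M (g ⁻¹ᵁ O) e := by
  have hcl := g.isClosedEmbedding
  by_cases h : p ∈ Set.range g
  · obtain ⟨y, rfl⟩ := h
    obtain ⟨V, e, hy, he⟩ := exists_isFrame_of_rank hM y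
    refine ⟨⟨(g '' (V : Set Y)ᶜ)ᶜ, (hcl.isClosedMap _ V.isOpen.isClosed_compl).isOpen_compl⟩,
      fun i => rs M ?_ (e i), ?_, ?_⟩
    · intro z hz
      by_contra hzV
      exact hz ⟨z, hzV, rfl⟩
    · rintro ⟨z, hz, hzy⟩
      exact hz (by rw [hcl.injective hzy]; exact hy)
    · exact he.res _
  · exact ⟨⟨(Set.range g)ᶜ, hcl.isClosed_range.isOpen_compl⟩, fun _ => 0, h,
      fun x hx => absurd ⟨x, rfl⟩ hx⟩

variable {Z W T : Scheme.{u}} {fX : W ⟶ Y} {fY : W ⟶ Z} {gX : Y ⟶ T} {gY : Z ⟶ T}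
  [IsClosedImmersion fX] [IsClosedImmersion fY] [IsClosedImmersion gX] [IsClosedImmersion gY]
  (hw : fX ≫ gX = fY ≫ gY)

omit [IsClosedImmersion fX] in
/-- Modules of rank one with an identification on the intersection have compatible frames. -/
theorem hasFrames {LX : Y.Modules} {LY : Z.Modules} (hLX : FlatMod.IsFinLocFreeOfRank 1 LX)
    (hLY : FlatMod.IsFinLocFreeOfRank 1 LY)
    (σ : (Scheme.Modules.pullback fX).obj LX ≅ (Scheme.Modules.pullback fY).obj LY) (p : T) :
    ∃ O : T.Opens, p ∈ O ∧ PairGlue.HasFrames hw σ 1 O := by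
  obtain ⟨O₁, ex, hp₁, hex⟩ := exists_frame_nhd gX hLX p
  obtain ⟨O₂, ey, hp₂, hey⟩ := exists_frame_nhd gY hLY p
  by_cases hp : p ∈ Set.range (fY ≫ gY)
  · obtain ⟨O, hO, hpO, hle⟩ := exists_isAffineOpen_mem_and_subset (x := p) (U := O₁ ⊓ O₂) ⟨hp₁, hp₂⟩
    have l₁ : O ≤ O₁ := hle.trans inf_le_left
    have l₂ : O ≤ O₂ := hle.trans inf_le_right
    let a := fun i => rs LX (gX.preimage_mono l₁) (ex i)
    let b := fun i => rs LY (gY.preimage_mono l₂) (ey i)
    have ha : IsFrame LX (gX ⁻¹ᵁ O) a := hex.res _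
    have hb : IsFrame LY (gY ⁻¹ᵁ O) b := hey.res _
    let Q := (Scheme.Modules.pullback fY).obj LY
    let U := (fY ≫ gY) ⁻¹ᵁ O
    have eX : U ≤ fX ⁻¹ᵁ (gX ⁻¹ᵁ O) := le_of_eq (by simp only [U, ← Scheme.Hom.comp_preimage, hw])
    let f₁ : Fin 1 → Γ(Q, U) := fun i => σ.hom.app U (pbRes fX LX eX (a i))
    let f₂ : Fin 1 → Γ(Q, U) := fun i => pbRes fY LY (le_refl U) (b i)
    have hf₁ : IsFrame Q U f₁ := (ha.pbRes fX eX).map_iso σ
    have hf₂ : IsFrame Q U f₂ := hb.pbRes fY _
    obtain ⟨c, hc⟩ := comb_surjective hf₂ le_rfl (f₁ 0)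
    obtain ⟨c', hc'⟩ := comb_surjective hf₁ le_rfl (f₂ 0)
    have cu : ∀ (f : Fin 1 → Γ(Q, U)) (d : Fin 1 → Γ(W, U)), comb f le_rfl d = d 0 • f 0 := fun f d => by
      rw [comb, Fin.sum_univ_one, rs_self]
    rw [cu] at hc hc'
    have hu : c' 0 * c 0 = 1 := by
      have h1 : comb f₂ le_rfl (fun _ => c' 0 * c 0) = comb f₂ le_rfl (fun _ => 1) := by
        rw [cu, cu, one_smul, ← smul_smul, hc, hc']
      exact congrFun (comb_injective hf₂ le_rfl h1) 0
    haveI : IsAffineHom gY := inferInstance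
    obtain ⟨t, ht⟩ : ∃ t, fY.app (gY ⁻¹ᵁ O) t = c 0 :=
      fY.app_surjective (gY ⁻¹ᵁ O) (hO.preimage gY) (c 0)
    obtain ⟨w, rfl⟩ := hp
    have hzO : fY w ∈ gY ⁻¹ᵁ O := hpO
    have hut : IsUnit (Z.presheaf.germ _ (fY w) hzO t) := by
      refine isUnit_of_map_unit (fY.stalkMap w).hom _ ?_
      show IsUnit (fY.stalkMap w _)
      rw [Scheme.Hom.germ_stalkMap_apply, ht]
      exact (IsUnit.of_mul_eq_one_right _ hu).map (W.presheaf.germ U w hzO).hom
    obtain ⟨O₃, hp₃, hle₃⟩ : ∃ O' : T.Opens, gY (fY w) ∈ O' ∧ gY ⁻¹ᵁ O' ≤ Z.basicOpen t := by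
      refine ⟨⟨(gY '' (Z.basicOpen t : Set Z)ᶜ)ᶜ,
        (gY.isClosedEmbedding.isClosedMap _ (Z.basicOpen t).isOpen.isClosed_compl).isOpen_compl⟩,
        ?_, fun z hz => ?_⟩
      · rintro ⟨z, hz, hzy⟩
        exact hz (by rw [gY.isClosedEmbedding.injective hzy]
                     exact (Scheme.mem_basicOpen Z t _ hzO).2 hut)
      · by_contra hzV
        exact hz ⟨z, hzV, rfl⟩
    have l : O₃ ⊓ O ≤ O := inf_le_right
    refine ⟨O₃ ⊓ O, ⟨hp₃, hpO⟩, fun i => rs LX (gX.preimage_mono l) (a i),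
      fun i => rs LY (gY.preimage_mono l) (t • b i), ha.res _, ?_, fun i => ?_⟩
    · have h2 : (fun i => rs LY (gY.preimage_mono l) (t • b i)) = fun i =>
          Z.presheaf.map (homOfLE (gY.preimage_mono l)).op t • rs LY (gY.preimage_mono l) (b i) :=
        funext fun i => Scheme.Modules.map_smul LY (homOfLE (gY.preimage_mono l)) t (b i)
      rw [h2]
      refine isFrame_smul (hb.res _) _ fun z hz => ?_
      rw [TopCat.Presheaf.germ_res_apply]
      exact (Scheme.mem_basicOpen Z t z (gY.preimage_mono l hz)).1 (hle₃ (gY.preimage_mono inf_le_left hz))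
    · obtain rfl : i = 0 := Subsingleton.elim _ _
      have nat : ∀ {M : T.Modules} {N : T.Modules} (ψ : M ⟶ N) (m : Γ(M, O)),
          ψ.app (O₃ ⊓ O) (rs M l m) = rs N l (ψ.app O m) := fun ψ m =>
        ConcreteCategory.congr_hom (ψ.mapPresheaf.naturality (homOfLE l).op) m
      refine (nat (PairGlue.pullTo fX gX (fY ≫ gY) hw σ.hom) (a 0)).trans
        (Eq.trans ?_ (nat (PairGlue.pullTo fY gY (fY ≫ gY) rfl (𝟙 _)) (t • b 0)).symm)
      refine congrArg _ ?_
      rw [PairGlue.pullTo_app, PairGlue.pullTo_app]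
      show f₁ 0 = pbRes fY LY (le_refl (fY ⁻¹ᵁ (gY ⁻¹ᵁ O))) (t • b 0)
      rw [pbRes_smul, ← hc]
      congr 1
      rw [← ht]
      exact (congr($(fY.app_eq_appLE (U := gY ⁻¹ᵁ O)) t))
  · let C : T.Opens := ⟨(Set.range (fY ≫ gY))ᶜ, (fY ≫ gY).isClosedEmbedding.isClosed_range.isOpen_compl⟩
    let O : T.Opens := O₁ ⊓ O₂ ⊓ C
    refine ⟨O, ⟨⟨hp₁, hp₂⟩, hp⟩, fun i => rs LX (gX.preimage_mono (inf_le_left.trans inf_le_left)) (ex i),
      fun i => rs LY (gY.preimage_mono (inf_le_left.trans inf_le_right)) (ey i),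
      hex.res _, hey.res _, fun i => ?_⟩
    exact Modules.TensorSec.section_ext ((Scheme.Modules.pullback fY).obj LY) _ _ fun z hz =>
      absurd ⟨z, rfl⟩ hz.2

variable (hpo : IsPushout (RingedPushout.toSS.map fX) (RingedPushout.toSS.map fY)
    (RingedPushout.toSS.map gX) (RingedPushout.toSS.map gY))
include hw hpo

/-- Rank one modules with an identification on the intersection glue. -/
theorem exists_glue {LX : Y.Modules} {LY : Z.Modules} (hLX : PicF.IsInvertible LX)
    (hLY : PicF.IsInvertible LY)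
    (σ : (Scheme.Modules.pullback fX).obj LX ≅ (Scheme.Modules.pullback fY).obj LY) :
    ∃ M : T.Modules, PicF.IsInvertible M ∧ Nonempty ((Scheme.Modules.pullback gX).obj M ≅ LX) ∧
      Nonempty ((Scheme.Modules.pullback gY).obj M ≅ LY) := by
  obtain ⟨M, eX, eY, hM, -⟩ := PairGlue.exists_glue hw σ hpo
    (hasFrames hw (TensorMod.LocFree.of_isInvertible hLX) (TensorMod.LocFree.of_isInvertible hLY) σ)
  exact ⟨M, TensorMod.LocFree.isInvertible_of_rank_one hM, ⟨eX⟩, ⟨eY⟩⟩

omit hw hpo [IsClosedImmersion fX] [IsClosedImmersion fY] [IsClosedImmersion gX] [IsClosedImmersion gY] in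
theorem conj_comp (M N P : T.Modules) (g : W ⟶ Y) {v : W ⟶ T} (h : g ≫ gX = v)
    (φ : (Scheme.Modules.pullback gX).obj M ⟶ (Scheme.Modules.pullback gX).obj N)
    (ψ : (Scheme.Modules.pullback gX).obj N ⟶ (Scheme.Modules.pullback gX).obj P) :
    conj M P g h (φ ≫ ψ) = conj M N g h φ ≫ conj N P g h ψ := by
  simp [conj]

omit hw hpo [IsClosedImmersion fX] [IsClosedImmersion fY] [IsClosedImmersion gX] [IsClosedImmersion gY] in
theorem conj_id (M : T.Modules) (g : W ⟶ Y) {v : W ⟶ T} (h : g ≫ gX = v) :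
    conj M M g h (𝟙 _) = 𝟙 _ := by
  simp [conj]

omit hw hpo [IsClosedImmersion fX] [IsClosedImmersion fY] [IsClosedImmersion gX] [IsClosedImmersion gY] in
theorem conj_map (M N : T.Modules) (g : W ⟶ Y) {v : W ⟶ T} (h : g ≫ gX = v) (φ : M ⟶ N) :
    conj M N g h ((Scheme.Modules.pullback gX).map φ) = (Scheme.Modules.pullback v).map φ := by
  subst h
  have := (Scheme.Modules.pullbackComp g gX).hom.naturality φ
  simp only [Functor.comp_map] at this
  simp [conj, tr, Scheme.Modules.pullbackCongr, this]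

omit [IsClosedImmersion fX] [IsClosedImmersion fY] [IsClosedImmersion gX] [IsClosedImmersion gY] in
/-- An invertible module trivial on both pieces is trivial when the functions on the intersection
lift. -/
theorem nonempty_iso {B : Scheme.{u}} (π : T ⟶ B)
    (hH : Function.Bijective ((fY ≫ gY) ≫ π).appTop.hom) {M N : T.Modules} (hM : PicF.IsInvertible M)
    (hN : PicF.IsInvertible N) (eX : (Scheme.Modules.pullback gX).obj M ≅ (Scheme.Modules.pullback gX).obj N)
    (eY : (Scheme.Modules.pullback gY).obj M ≅ (Scheme.Modules.pullback gY).obj N) :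
    Nonempty (M ≅ N) := by
  let Nw := (Scheme.Modules.pullback (fY ≫ gY)).obj N
  have hNw : PicF.IsInvertible Nw := PicLoc.isInvertible_pullback _ hN
  let θ : Nw ⟶ Nw := conj N M fX hw eX.inv ≫ conj M N fY rfl eY.hom
  let θ' : Nw ⟶ Nw := conj N M fY rfl eY.inv ≫ conj M N fX hw eX.hom
  have c₁ : θ ≫ θ' = 𝟙 _ := by
    simp only [θ, θ', Category.assoc]
    rw [← Category.assoc (conj M N fY rfl eY.hom), ← conj_comp, Iso.hom_inv_id, conj_id,
      Category.id_comp, ← conj_comp, Iso.inv_hom_id, conj_id]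
  obtain ⟨r, hr⟩ := Groth.Agent.H3.Scalars.exists_scalarEnd_eq hNw θ
  obtain ⟨r', hr'⟩ := Groth.Agent.H3.Scalars.exists_scalarEnd_eq hNw θ'
  have hrr : r' * r = 1 := by
    refine Groth.Agent.H3.Scalars.scalarEnd_injective hNw ?_
    rw [Groth.Agent.H3.Scalars.scalarEnd_one, ← Groth.Agent.H3.Scalars.scalarEnd_mul, ← hr, ← hr', c₁]
  obtain ⟨s, rfl⟩ := hH.2 r
  obtain ⟨s', rfl⟩ := hH.2 r'
  have hss : s' * s = 1 := hH.1 (by rw [map_mul, hrr, map_one])
  let A : N ⟶ N := TwSh.scalarEnd N (π.appTop.hom s)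
  let A' : N ⟶ N := TwSh.scalarEnd N (π.appTop.hom s')
  have hA : A ≫ A' = 𝟙 N := by
    rw [Groth.Agent.H3.Scalars.scalarEnd_mul, ← map_mul, hss, map_one,
      Groth.Agent.H3.Scalars.scalarEnd_one]
  have hA' : A' ≫ A = 𝟙 N := by
    rw [Groth.Agent.H3.Scalars.scalarEnd_mul, ← map_mul, mul_comm, hss, map_one,
      Groth.Agent.H3.Scalars.scalarEnd_one]
  let a := eX.hom ≫ (Scheme.Modules.pullback gX).map A
  let a' := (Scheme.Modules.pullback gX).map A' ≫ eX.inv
  have hθ : (Scheme.Modules.pullback (fY ≫ gY)).map A = θ := by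
    rw [Groth.Agent.H3.Scalars.pullback_scalarEnd, hr]
    congr 1
  have hθ' : (Scheme.Modules.pullback (fY ≫ gY)).map A' = θ' := by
    rw [Groth.Agent.H3.Scalars.pullback_scalarEnd, hr']
    congr 1
  have hc : conj M N fX hw a = conj M N fY rfl eY.hom := by
    rw [conj_comp, conj_map, hθ]
    simp only [θ]
    rw [← Category.assoc, ← conj_comp, Iso.hom_inv_id, conj_id, Category.id_comp]
  have hc' : conj N M fX hw a' = conj N M fY rfl eY.inv := by
    rw [conj_comp, conj_map, hθ']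
    simp only [θ']
    rw [Category.assoc, ← conj_comp, Iso.hom_inv_id, conj_id, Category.comp_id]
  have hMf : FlatMod.IsFinLocFree M :=
    TensorMod.LocFree.of_rank (TensorMod.LocFree.of_isInvertible hM)
  have hNf : FlatMod.IsFinLocFree N :=
    TensorMod.LocFree.of_rank (TensorMod.LocFree.of_isInvertible hN)
  obtain ⟨φ, hφX, hφY⟩ := PairSections.exists_hom hw hpo hNf hc
  obtain ⟨ψ, hψX, hψY⟩ := PairSections.exists_hom hw hpo hMf hc'
  refine ⟨⟨φ, ψ, PairSections.hom_eq hw hpo hMf ?_ ?_, PairSections.hom_eq hw hpo hNf ?_ ?_⟩⟩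
  · rw [Functor.map_comp, hφX, hψX, CategoryTheory.Functor.map_id]
    simp only [a, a', Category.assoc]
    rw [← Functor.map_comp_assoc, hA, CategoryTheory.Functor.map_id, Category.id_comp, Iso.hom_inv_id]
  · rw [Functor.map_comp, hφY, hψY, CategoryTheory.Functor.map_id, Iso.hom_inv_id]
  · rw [Functor.map_comp, hφX, hψX, CategoryTheory.Functor.map_id]
    simp only [a, a', Category.assoc]
    rw [Iso.inv_hom_id_assoc, ← Functor.map_comp, hA', CategoryTheory.Functor.map_id]
  · rw [Functor.map_comp, hφY, hψY, CategoryTheory.Functor.map_id, Iso.inv_hom_id]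

end Groth.Agent.Lib.H3.UnionPic
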